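import Mathlib.FieldTheory.Finite.Basic
import Mathlib.Algebra.CharP.Two
import Mathlib.Algebra.Module.Basic
import Mathlib.Tactic.LinearCombination
import Mathlib.Tactic.FieldSimp

/-!
# No rank one group on a Suzuki 2-group of type B for `q = 8`

`K` is the field of eight elements, `E` the factor group `Q / Z(Q)` as a vector space over `K`,
`Sq : E → K` the squaring map, homogeneous of degree three and anisotropic. No map `tau` satisfies
the rank one relations on such a group.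
-/

set_option autoImplicit false

namespace Cfsg.Agent.Lib.RankOneU3

/-- The structure map on a group of type `B`, `q = 8`. -/
structure PocketData (K E : Type*) [Field K] [AddCommGroup E] [Module K E] where
  Sq : E → K
  P : E → E → K
  A : E → K → E
  B : E → K → K
  Sq_eq_zero : ∀ x, Sq x = 0 → x = 0
  Sq_lin : ∀ (k l : K) (x y : E),
    Sq (k • x + l • y) = k ^ 3 * Sq x + k ^ 2 * l * P x y + k * l ^ 2 * P y x + l ^ 3 * Sq y
  A_ne : ∀ a b, a ≠ 0 → A a b ≠ 0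
  scalA : ∀ (a : E) (b k : K), a ≠ 0 → k ≠ 0 → A (k • a) (k ^ 3 * b) = k⁻¹ • A a b
  scalB : ∀ (a : E) (b k : K), a ≠ 0 → k ≠ 0 → B (k • a) (k ^ 3 * b) = B a b / k ^ 3
  invA : ∀ a b, a ≠ 0 → A (A a b) (B a b) = a
  invB : ∀ a b, a ≠ 0 → B (A a b) (B a b) = b
  relKA : ∀ a b t, a ≠ 0 → t ≠ 0 → A (A a b) (B a b + t) = ((t ^ 2)⁻¹) ^ 5 • A a (b + t⁻¹)
  relKB : ∀ a b t, a ≠ 0 → t ≠ 0 → B (A a b) (B a b + t) = B a (b + t⁻¹) / t ^ 2 + t⁻¹
  relBlock : ∀ a b s, a ≠ 0 → s ≠ 0 → ∃ σ, σ ≠ 0 ∧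
    A a (b + σ) = A a b + ((s ^ 2)⁻¹) ^ 5 • A (A a b) (B a b + Sq (A a b) + s⁻¹)
  relBlock' : ∀ a b σ, a ≠ 0 → σ ≠ 0 → ∃ s, s ≠ 0 ∧
    A a (b + σ) = A a b + ((s ^ 2)⁻¹) ^ 5 • A (A a b) (B a b + Sq (A a b) + s⁻¹)

namespace PocketData

variable {K E : Type*} [Field K] [Fintype K] [CharP K 2] [AddCommGroup E] [Module K E]
  (D : PocketData K E)

omit [CharP K 2] in
theorem pow_eight (hK : Fintype.card K = 8) (x : K) : x ^ 8 = x := by
  have := FiniteField.pow_card x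
  rwa [hK] at this

omit [CharP K 2] in
theorem pow_fifteen (hK : Fintype.card K = 8) (x : K) : x ^ 15 = x := by
  calc x ^ 15 = x ^ 8 * x ^ 7 := by ring
    _ = x * x ^ 7 := by rw [pow_eight hK]
    _ = x ^ 8 := by ring
    _ = x := pow_eight hK x

omit [CharP K 2] in
theorem cube_inj (hK : Fintype.card K = 8) {x y : K} (h : x ^ 3 = y ^ 3) : x = y := by
  rw [← pow_fifteen hK x, ← pow_fifteen hK y, show x ^ 15 = (x ^ 3) ^ 5 by ring, h]; ring

omit [Fintype K] in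
theorem sq_inj {x y : K} (h : x ^ 2 = y ^ 2) : x = y := CharTwo.sq_injective h

omit [Fintype K] [CharP K 2] in
theorem inj {a : E} {b b' : K} (ha : a ≠ 0) (h : D.A a b = D.A a b') : b = b' := by
  by_contra hne
  obtain ⟨s, hs, he⟩ := D.relBlock' a b (b' - b) ha (sub_ne_zero.mpr (Ne.symm hne))
  rw [add_sub_cancel, ← h] at he
  have h0 : ((s ^ 2)⁻¹) ^ 5 • D.A (D.A a b) (D.B a b + D.Sq (D.A a b) + s⁻¹) = 0 :=
    left_eq_add.mp he
  rcases smul_eq_zero.mp h0 with h1 | h1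
  · exact pow_ne_zero _ (inv_ne_zero (pow_ne_zero _ hs)) h1
  · exact D.A_ne _ _ (D.A_ne a b ha) h1

omit [Fintype K] in
/-- The block point with second argument unchanged. -/
theorem partner {a : E} {b : K} (ha : a ≠ 0) :
    ∃ σ, σ ≠ 0 ∧ D.A a (b + σ) = D.A a b + (D.Sq (D.A a b) ^ 2) ^ 5 • a := by
  have hX : D.Sq (D.A a b) ≠ 0 := fun h => D.A_ne a b ha (D.Sq_eq_zero _ h)
  obtain ⟨σ, hσ, he⟩ := D.relBlock a b (D.Sq (D.A a b))⁻¹ ha (inv_ne_zero hX)
  rw [inv_inv, show D.B a b + D.Sq (D.A a b) + D.Sq (D.A a b) = D.B a b by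
      linear_combination CharTwo.add_self_eq_zero (D.Sq (D.A a b)),
    D.invA a b ha] at he
  simp only [inv_pow, inv_inv] at he
  exact ⟨σ, hσ, he⟩

theorem no_real (hK : Fintype.card K = 8) {a : E} {b k : K} (ha : a ≠ 0) :
    D.A a b ≠ k • a := by
  set N : K := D.Sq a with hN
  have hN0 : N ≠ 0 := fun h => ha (D.Sq_eq_zero a h)
  set n : K := (N ^ 2) ^ 5 with hn
  have hn0 : n ≠ 0 := pow_ne_zero _ (pow_ne_zero _ hN0)
  -- `S u`: the value `(u / n) • a` occurs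
  let S : K → Prop := fun u => ∃ x, D.A a x = (u / n) • a
  have hS0 : ∀ u, S u → u ≠ 0 := by
    rintro u ⟨x, hx⟩ rfl
    exact D.A_ne a x ha (by rw [hx, zero_div, zero_smul])
  have hfixed : ∀ (k x : K), D.A a x = k • a → D.B a x = k ^ 3 * x := by
    intro k x hx
    have hk : k ≠ 0 := fun h => D.A_ne a x ha (by rw [hx, h, zero_smul])
    have hi := D.invA a x ha
    rw [hx, show D.B a x = k ^ 3 * (D.B a x / k ^ 3) by field_simp,
      D.scalA a _ k ha hk, inv_smul_eq_iff₀ hk] at hi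
    have h2 := D.inj ha (hi.trans hx.symm)
    field_simp at h2
    linear_combination h2
  have hSq : ∀ k : K, D.Sq (k • a) = k ^ 3 * N := by
    intro k
    have := D.Sq_lin k 0 a a
    rw [zero_smul, add_zero] at this
    rw [this]; ring
  -- the partner
  have hnext : ∀ u, S u → S (u + u ^ 2) := by
    rintro u ⟨x, hx⟩
    obtain ⟨σ, -, he⟩ := D.partner (b := x) ha
    refine ⟨x + σ, ?_⟩
    rw [he, hx, hSq, ← add_smul]
    congr 1
    have e : (((u / n) ^ 3 * N) ^ 2) ^ 5 = (u / n) ^ 30 * n := by rw [hn]; ring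
    have e2 : (u / n) ^ 30 = (u / n) ^ 2 := by
      rw [show 30 = 15 * 2 from rfl, pow_mul, pow_fifteen hK]
    rw [e, e2]
    field_simp
  -- sums
  have hcore : ∀ u v, S u → S v → u ≠ v → ∃ w, S w ∧ w ^ 3 = u ^ 3 + v ^ 3 := by
    rintro u v ⟨x, hx⟩ ⟨y, hy⟩ hne
    have hu := hS0 u ⟨x, hx⟩
    have hv := hS0 v ⟨y, hy⟩
    set k : K := u / n with hk
    set p : K := v / n with hp
    have hk0 : k ≠ 0 := div_ne_zero hu hn0
    have hp0 : p ≠ 0 := div_ne_zero hv hn0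
    have hxy : x + y ≠ 0 := fun h0 => hne (by
      rw [CharTwo.add_eq_zero.mp h0, hy] at hx
      have h1 : (p - k) • a = 0 := by rw [sub_smul, hx, sub_self]
      have h2 : p = k := sub_eq_zero.mp ((smul_eq_zero.mp h1).resolve_right ha)
      rw [hp, hk] at h2
      field_simp at h2
      exact h2.symm)
    set t : K := (x + y)⁻¹ with ht
    have ht0 : t ≠ 0 := inv_ne_zero hxy
    have hxt : x + t⁻¹ = y := by
      rw [ht, inv_inv]; linear_combination CharTwo.add_self_eq_zero x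
    have hKA := D.relKA a x t ha ht0
    have hKB := D.relKB a x t ha ht0
    rw [hxt, hx, hfixed k x hx,
      show k ^ 3 * x + t = k ^ 3 * (x + t / k ^ 3) by field_simp] at hKA hKB
    rw [D.scalA a _ k ha hk0, hy, inv_smul_eq_iff₀ hk0, smul_smul, smul_smul] at hKA
    rw [D.scalB a _ k ha hk0, hfixed p y hy, hfixed _ _ hKA, ← hxt] at hKB
    have e3 : (((t ^ 2)⁻¹) ^ 5) ^ 3 = (t ^ 2)⁻¹ := by rw [← pow_mul]; exact pow_fifteen hK _
    refine ⟨(k * (((t ^ 2)⁻¹) ^ 5) * p) * n,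
      ⟨x + t / k ^ 3, by rw [hKA, mul_div_cancel_right₀ _ hn0]⟩, ?_⟩
    have e4 : (k * (((t ^ 2)⁻¹) ^ 5) * p) ^ 3 = k ^ 3 * p ^ 3 * (t ^ 2)⁻¹ := by
      rw [mul_pow, mul_pow, e3]; ring
    rw [e4] at hKB
    rw [mul_pow _ n, e4]
    field_simp at hKB
    have e5 : k ^ 3 * p ^ 3 = t ^ 2 * (k ^ 3 + p ^ 3) := by
      linear_combination hKB + CharTwo.add_self_eq_zero (k ^ 3 * p ^ 3)
        - CharTwo.add_self_eq_zero (t ^ 2 * p ^ 3)
    rw [e5, hk, hp]
    field_simp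
  have h_not_one : ¬ S 1 := fun h => hS0 _ (hnext 1 h) (by
    rw [one_pow]; exact CharTwo.add_self_eq_zero 1)
  intro hb
  have hSu : S (k * n) := ⟨b, by rw [hb, mul_div_cancel_right₀ _ hn0]⟩
  -- a value of trace zero
  obtain ⟨v, hv, hvS⟩ : ∃ v, v ^ 3 + v + 1 = 0 ∧ S v := by
    set u : K := k * n
    refine ⟨u + u ^ 2, ?_, hnext u hSu⟩
    have hne := hS0 _ (hnext u hSu)
    refine mul_left_cancel₀ hne ?_
    rw [mul_zero]
    linear_combination pow_eight hK u + CharTwo.add_self_eq_zero u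
      + (u ^ 2 + 2 * u ^ 3 + 2 * u ^ 4 + 2 * u ^ 5 + 3 * u ^ 6 + 2 * u ^ 7) *
        (CharTwo.two_eq_zero (R := K))
      - (u ^ 3 + u ^ 4) * (CharTwo.two_eq_zero (R := K))
  have hv0 : v ≠ 0 := hS0 v hvS
  have hv4 : v + v ^ 2 = v ^ 4 := by
    linear_combination -v * hv + (v + v ^ 2) * (CharTwo.two_eq_zero (R := K))
  have hS4 : S (v ^ 4) := hv4 ▸ hnext v hvS
  have hS2 : S (v ^ 2) := by
    have e : v ^ 4 + (v ^ 4) ^ 2 = v ^ 2 := by
      rw [← pow_mul]
      linear_combination -hv4 + pow_eight hK v + v * (CharTwo.two_eq_zero (R := K))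
    exact e ▸ hnext _ hS4
  have hne24 : v ^ 2 ≠ v ^ 4 := fun h => hv0 (by linear_combination hv4 - h)
  obtain ⟨z, hzS, hz⟩ := hcore _ _ hS2 hS4 hne24
  have hz' : z ^ 3 = v := by
    have h6 : v ^ 6 = v ^ 2 + 1 := by linear_combination (v ^ 3 - v - 1) * hv + v * (CharTwo.two_eq_zero (R := K))
    have h12 : v ^ 12 = v ^ 4 + 1 := by
      linear_combination (v ^ 6 + v ^ 2 + 1) * h6 + v ^ 2 * (CharTwo.two_eq_zero (R := K))
    rw [hz, ← pow_mul, ← pow_mul, show 2 * 3 = 6 from rfl, show 4 * 3 = 12 from rfl, h6, h12]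
    linear_combination -hv4 + (v ^ 2 + 1) * (CharTwo.two_eq_zero (R := K))
  have hzv : z ≠ v := by
    rintro rfl
    have : (1 : K) = 0 := by
      linear_combination hv - hz' - z * (CharTwo.two_eq_zero (R := K))
    exact one_ne_zero this
  obtain ⟨w, hwS, hw⟩ := hcore _ _ hzS hvS hzv
  have hw1 : w = 1 := cube_inj hK (by
    rw [hw, hz', one_pow]
    linear_combination hv - CharTwo.two_eq_zero (R := K))
  exact h_not_one (hw1 ▸ hwS)

theorem sq_partner (hK : Fintype.card K = 8) {a : E} {b : K} (ha : a ≠ 0) :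
    D.P (D.A a b) a + D.Sq (D.A a b) ^ 10 * D.P a (D.A a b)
      + (D.Sq (D.A a b) ^ 10) ^ 2 * D.Sq a = 0 := by
  obtain ⟨σ, hσ, he⟩ := D.partner (b := b) ha
  obtain ⟨σ', hσ', he'⟩ := D.partner (b := b + σ) ha
  set x := D.A a b with hx
  have hX : D.Sq x ≠ 0 := fun h => D.A_ne a b ha (D.Sq_eq_zero _ h)
  have hX' : D.Sq (D.A a (b + σ)) ≠ 0 := fun h => D.A_ne a _ ha (D.Sq_eq_zero _ h)
  have hback : σ + σ' = 0 := by
    by_contra hne
    obtain ⟨s, hs, hd⟩ := D.relBlock' a b (σ + σ') ha hne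
    rw [← add_assoc, he', he, add_assoc, ← hx] at hd
    have hd' := add_left_cancel hd
    rw [← add_smul] at hd'
    by_cases hc : s⁻¹ = D.Sq x
    · rw [show D.B a b + D.Sq x + s⁻¹ = D.B a b by
        rw [hc]; linear_combination CharTwo.add_self_eq_zero (D.Sq x), hx, D.invA a b ha,
        ← hx] at hd'
      have h1 := sub_eq_zero.mpr hd'
      rw [← sub_smul] at h1
      rcases smul_eq_zero.mp h1 with h | h
      · refine pow_ne_zero 5 (pow_ne_zero 2 hX') ?_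
        rw [← inv_pow s 2, hc] at h
        rw [he]
        linear_combination h
      · exact ha h
    · set t : K := D.Sq x + s⁻¹ with ht
      have ht0 : t ≠ 0 := fun h0 => hc (CharTwo.add_eq_zero.mp h0).symm
      rw [show D.B a b + D.Sq x + s⁻¹ = D.B a b + t by rw [ht]; ring, hx,
        D.relKA a b t ha ht0, smul_smul] at hd'
      have hc0 : ((s ^ 2)⁻¹) ^ 5 * ((t ^ 2)⁻¹) ^ 5 ≠ 0 :=
        mul_ne_zero (pow_ne_zero _ (inv_ne_zero (pow_ne_zero _ hs)))
          (pow_ne_zero _ (inv_ne_zero (pow_ne_zero _ ht0)))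
      have h2 := ((inv_smul_eq_iff₀ hc0).mpr hd').symm
      rw [smul_smul] at h2
      exact D.no_real hK ha h2
  rw [show b + σ + σ' = b by linear_combination hback, ← hx, he] at he'
  have h1 : ((D.Sq x ^ 2) ^ 5 + (D.Sq (x + (D.Sq x ^ 2) ^ 5 • a) ^ 2) ^ 5) • a = 0 := by
    rw [add_smul]
    rw [add_assoc] at he'
    exact left_eq_add.mp he'
  have h2 := CharTwo.add_eq_zero.mp ((smul_eq_zero.mp h1).resolve_right ha)
  have h3 : D.Sq (x + (D.Sq x ^ 2) ^ 5 • a) = D.Sq x := by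
    apply sq_inj
    have h4 := congrArg (fun y : K => y ^ 3) h2.symm
    simpa [← pow_mul, pow_mul _ 2 15, pow_fifteen hK] using h4
  have hl := D.Sq_lin 1 ((D.Sq x ^ 2) ^ 5) x a
  rw [one_smul, h3, one_pow, one_pow, one_mul, one_mul, one_mul] at hl
  have hk0 : (D.Sq x ^ 2) ^ 5 ≠ 0 := pow_ne_zero _ (pow_ne_zero _ hX)
  refine mul_left_cancel₀ hk0 ?_
  rw [mul_zero]
  linear_combination -hl

/-- The norms of argument and value are inverse. -/
theorem sq_mul (hK : Fintype.card K = 8) {a : E} {b : K} (ha : a ≠ 0) :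
    D.Sq (D.A a b) * D.Sq a = 1 := by
  have e1 := D.sq_partner hK (b := b) ha
  have e2 := D.sq_partner hK (b := D.B a b) (D.A_ne a b ha)
  rw [D.invA a b ha] at e2
  set x := D.A a b with hx
  set X := D.Sq x
  set N := D.Sq a
  set ξ := X ^ 5
  set η := N ^ 5
  have hξ : ξ ^ 3 = X := by show (X ^ 5) ^ 3 = X; rw [← pow_mul]; exact pow_fifteen hK X
  have hη : η ^ 3 = N := by show (N ^ 5) ^ 3 = N; rw [← pow_mul]; exact pow_fifteen hK N
  rw [show X ^ 10 = ξ ^ 2 by show X ^ 10 = (X ^ 5) ^ 2; ring, ← hη] at e1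
  rw [show N ^ 10 = η ^ 2 by show N ^ 10 = (N ^ 5) ^ 2; ring, ← hξ] at e2
  have hk : (η * D.P x a + ξ * D.P a x) * (1 + ξ * η) = 0 := by
    linear_combination η * e1 + ξ * e2 - (ξ * η) ^ 4 * (CharTwo.two_eq_zero (R := K))
  rcases mul_eq_zero.mp hk with h | h
  · exfalso
    have hξ0 : ξ ≠ 0 := pow_ne_zero _ fun h0 => D.A_ne a b ha (D.Sq_eq_zero _ h0)
    have hz : D.Sq (η • x + ξ • a) = 0 := by
      rw [D.Sq_lin]
      show η ^ 3 * X + _ + _ + ξ ^ 3 * N = 0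
      rw [← hξ, ← hη]
      linear_combination η * ξ * h + ξ ^ 3 * η ^ 3 * (CharTwo.two_eq_zero (R := K))
    have h1 := D.Sq_eq_zero _ hz
    have hη0 : η ≠ 0 := pow_ne_zero _ fun h0 => ha (D.Sq_eq_zero _ h0)
    refine D.no_real hK (b := b) (k := -(η⁻¹ * ξ)) ha ?_
    rw [← hx, neg_smul, mul_smul]
    rw [add_eq_zero_iff_eq_neg] at h1
    rw [← smul_neg, ← h1, inv_smul_smul₀ hη0]
  · have h1 : ξ * η = 1 := (CharTwo.add_eq_zero.mp h).symm
    rw [← hξ, ← hη, ← mul_pow, h1, one_pow]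

/-- **The pocket is empty.** -/
theorem not_exists (hK : Fintype.card K = 8) (D : PocketData K E) {a : E} (ha : a ≠ 0) :
    False := by
  classical
  set N := D.Sq a
  have hN0 : N ≠ 0 := fun h => ha (D.Sq_eq_zero a h)
  obtain ⟨t, -, ht0, htN⟩ : ∃ t ∈ (Finset.univ : Finset K), t ≠ 0 ∧ t ≠ N⁻¹ := by
    by_contra! h
    have h2 : (Finset.univ : Finset K) ⊆ {0, N⁻¹} := by
      intro x hx
      by_cases hx0 : x = 0
      · simp [hx0]
      · simp [h x hx hx0]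
    have h3 := Finset.card_le_card h2
    rw [Finset.card_univ, hK] at h3
    exact absurd (h3.trans Finset.card_le_two) (by norm_num)
  have h1 := D.sq_mul hK (b := 0) ha
  have h2 := D.sq_mul hK (b := 0 + t⁻¹) ha
  have h3 := D.sq_mul hK (b := D.B a 0 + t) (D.A_ne a 0 ha)
  rw [D.relKA a 0 t ha ht0] at h3
  have e : D.Sq (((t ^ 2)⁻¹) ^ 5 • D.A a (0 + t⁻¹)) = (t ^ 2)⁻¹ * D.Sq (D.A a (0 + t⁻¹)) := by
    have := D.Sq_lin (((t ^ 2)⁻¹) ^ 5) 0 (D.A a (0 + t⁻¹)) (D.A a (0 + t⁻¹))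
    rw [zero_smul, add_zero, ← pow_mul, pow_fifteen hK] at this
    rw [this]; ring
  rw [e, eq_one_div_of_mul_eq_one_left h1, eq_one_div_of_mul_eq_one_left h2] at h3
  refine htN (eq_inv_of_mul_eq_one_left (sq_inj ?_))
  field_simp at h3
  rw [mul_pow, ← h3, one_pow]
  exact one_div_mul_cancel (pow_ne_zero 2 hN0)

end PocketData

end Cfsg.Agent.Lib.RankOneU3
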