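import Cfsg.Agent.Lib.RankOneU3.StructureMap

/-!
# The structure map of a rank one group on the unitary `2`-group, any torus

Points are pairs `(a, b)` with `b + b ^ q = a ^ (q + 1)`, `a ≠ 0`, multiplied by
`(a, b) (c, d) = (a + c, b + d + a ^ q * c)`. The involution exchanging the two fixed points sends
`(a, b)` to `(A a b, B a b)`; only the scalars of `𝔽_q` are assumed to act.

The result: with `β = b + C a` we have `A = a / β ^ q` and `B = β⁻¹ + C A`, where `C` is additive,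
real valued and of degree two, so `(a, b) ↦ (a, b + C a)` is an automorphism carrying the map to
the one of `U₃(q)`; and `C = 0` as soon as some `v` with `v + v⁻¹` real, nonzero, fixes it.
-/

set_option autoImplicit false

namespace Cfsg.Agent.Lib.RankOneU3

open Finset

/-- The structure map on the noncentral part, with the rank one relations it satisfies. -/
structure TauData (F : Type*) [Field F] (q : ℕ) where
  A : F → F → F
  B : F → F → F
  A_ne : ∀ a b, a ≠ 0 → b + b ^ q = a ^ (q + 1) → A a b ≠ 0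
  mem : ∀ a b, a ≠ 0 → b + b ^ q = a ^ (q + 1) → B a b + B a b ^ q = A a b ^ (q + 1)
  scalA : ∀ a b k, a ≠ 0 → b + b ^ q = a ^ (q + 1) → k ≠ 0 → k ^ q = k →
    A (k * a) (k ^ 2 * b) = A a b / k
  scalB : ∀ a b k, a ≠ 0 → b + b ^ q = a ^ (q + 1) → k ≠ 0 → k ^ q = k →
    B (k * a) (k ^ 2 * b) = B a b / k ^ 2
  invA : ∀ a b, a ≠ 0 → b + b ^ q = a ^ (q + 1) → A (A a b) (B a b) = a
  invB : ∀ a b, a ≠ 0 → b + b ^ q = a ^ (q + 1) → B (A a b) (B a b) = b
  relKA : ∀ a b s, a ≠ 0 → b + b ^ q = a ^ (q + 1) → s ≠ 0 → s ^ q = s →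
    A (A a b) (B a b + s) = A a (b + s⁻¹) / s
  relKB : ∀ a b s, a ≠ 0 → b + b ^ q = a ^ (q + 1) → s ≠ 0 → s ^ q = s →
    B (A a b) (B a b + s) = B a (b + s⁻¹) / s ^ 2 + s⁻¹
  relBlock : ∀ a b s, a ≠ 0 → b + b ^ q = a ^ (q + 1) → s ≠ 0 → s ^ q = s →
    ∃ σ, σ ≠ 0 ∧ σ ^ q = σ ∧
      A a (b + σ) = A a b + A (A a b) (B a b ^ q + s⁻¹) / s ∧
      B a (b + σ) = B (A a b) (B a b ^ q + s⁻¹) / s ^ 2 + s⁻¹ + B a b
        + (A (A a b) (B a b ^ q + s⁻¹) / s) ^ q * A a b
  relBlock' : ∀ a b σ, a ≠ 0 → b + b ^ q = a ^ (q + 1) → σ ≠ 0 → σ ^ q = σ →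
    ∃ s, s ≠ 0 ∧ s ^ q = s ∧ A a (b + σ) = A a b + A (A a b) (B a b ^ q + s⁻¹) / s

namespace TauData

variable {F : Type*} [Field F] [Fintype F] [CharP F 2] {q n : ℕ} (D : TauData F q)

omit [Fintype F] in
theorem mem_add (hn : q = 2 ^ n) {a b w : F} (h : b + b ^ q = a ^ (q + 1)) (hw : w ^ q = w) :
    (b + w) + (b + w) ^ q = a ^ (q + 1) := by
  rw [add_pow_q hn, hw]
  linear_combination h + CharTwo.add_self_eq_zero w

omit [Fintype F] in
theorem diff_fix (hn : q = 2 ^ n) {c x y : F} (hx : x + x ^ q = c) (hy : y + y ^ q = c) :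
    (x + y) ^ q = x + y := by
  rw [add_pow_q hn]
  linear_combination hx + hy - CharTwo.add_self_eq_zero (x + y) + CharTwo.add_self_eq_zero c

omit [CharP F 2] in
theorem norm_fix (hcard : Fintype.card F = q ^ 2) (x : F) :
    (x ^ (q + 1)) ^ q = x ^ (q + 1) := by
  rw [pow_succ x, mul_pow, pow_q_q hcard, mul_comm]

theorem inj (hn : q = 2 ^ n) (hcard : Fintype.card F = q ^ 2) {a b b' : F} (ha : a ≠ 0)
    (hb : b + b ^ q = a ^ (q + 1)) (hb' : b' + b' ^ q = a ^ (q + 1))
    (h : D.A a b = D.A a b') : b = b' := by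
  by_contra hne
  have hσ : b + b' ≠ 0 := fun h0 => hne (CharTwo.add_eq_zero.mp h0)
  obtain ⟨s, hs, hsf, he⟩ := D.relBlock' a b (b + b') ha hb hσ (diff_fix hn hb hb')
  have hx : b + (b + b') = b' := by linear_combination CharTwo.add_self_eq_zero b
  rw [hx, ← h] at he
  have hBq : D.B a b ^ q + s⁻¹ + (D.B a b ^ q + s⁻¹) ^ q = D.A a b ^ (q + 1) := by
    refine mem_add hn ?_ (by rw [inv_pow, hsf])
    rw [pow_q_q hcard, add_comm]; exact D.mem a b ha hb
  have h0 : D.A (D.A a b) (D.B a b ^ q + s⁻¹) / s = 0 := by linear_combination -he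
  rcases div_eq_zero_iff.mp h0 with h1 | h1
  · exact D.A_ne _ _ (D.A_ne a b ha hb) hBq h1
  · exact hs h1

/-- The block point for `s⁻¹ = A ^ (q + 1)`. -/
theorem partner (_hn : q = 2 ^ n) (hcard : Fintype.card F = q ^ 2) {a b : F} (ha : a ≠ 0)
    (hb : b + b ^ q = a ^ (q + 1)) :
    ∃ σ, σ ≠ 0 ∧ σ ^ q = σ ∧ D.A a (b + σ) = D.A a b + a * D.A a b ^ (q + 1) := by
  have hA : D.A a b ^ (q + 1) ≠ 0 := pow_ne_zero _ (D.A_ne a b ha hb)
  obtain ⟨σ, hσ, hσf, he, -⟩ := D.relBlock a b (D.A a b ^ (q + 1))⁻¹ ha hb (inv_ne_zero hA)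
    (by rw [inv_pow, norm_fix hcard])
  refine ⟨σ, hσ, hσf, ?_⟩
  have hP : D.B a b ^ q + (D.A a b ^ (q + 1))⁻¹⁻¹ = D.B a b := by
    rw [inv_inv]
    linear_combination -(D.mem a b ha hb) + CharTwo.add_self_eq_zero (D.B a b ^ q)
      + CharTwo.add_self_eq_zero (D.A a b ^ (q + 1)) - CharTwo.add_self_eq_zero (0 : F)
      - D.A a b ^ (q + 1) * (CharTwo.two_eq_zero (R := F))
  rw [hP, D.invA a b ha hb, div_inv_eq_mul] at he
  exact he

/-- No value is a real multiple of the argument. -/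
theorem no_real (hn : q = 2 ^ n) (hcard : Fintype.card F = q ^ 2) {a b k : F} (ha : a ≠ 0)
    (hb : b + b ^ q = a ^ (q + 1)) (hk : k ^ q = k) : D.A a b ≠ k * a := by
  classical
  set N : F := a ^ (q + 1) with hN
  have hN0 : N ≠ 0 := pow_ne_zero _ ha
  have hNf : N ^ q = N := norm_fix hcard a
  -- a real multiple `k * a` forces `B = k ^ 2 * b`
  let S : F → Prop := fun k => k ^ q = k ∧ ∃ x, x + x ^ q = N ∧ D.A a x = k * a
  have hS0 : ∀ k, S k → k ≠ 0 := by
    rintro k ⟨-, x, hx, hAx⟩ rfl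
    exact D.A_ne a x ha hx (by rw [hAx, zero_mul])
  have hfixed : ∀ k x, k ^ q = k → x + x ^ q = N → D.A a x = k * a → D.B a x = k ^ 2 * x := by
    intro k x hkf hx hAx
    have hk0 : k ≠ 0 := hS0 k ⟨hkf, x, hx, hAx⟩
    have hm := D.mem a x ha hx
    rw [hAx, mul_pow, pow_succ k, hkf, ← hN] at hm
    have hk2f : (k ^ 2) ^ q = k ^ 2 := by rw [← pow_mul, mul_comm, pow_mul, hkf]
    have hy : D.B a x / k ^ 2 + (D.B a x / k ^ 2) ^ q = N := by
      rw [div_pow, hk2f, ← add_div, hm]; field_simp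
    have hi := D.invA a x ha hx
    rw [hAx, show D.B a x = k ^ 2 * (D.B a x / k ^ 2) by field_simp,
      D.scalA a _ k ha hy hk0 hkf] at hi
    have := D.inj hn hcard ha hy hx (by rw [hAx]; field_simp at hi; linear_combination hi)
    field_simp at this
    linear_combination this
  have hnext : ∀ k, S k → S (k + k ^ 2 * N) := by
    rintro k ⟨hkf, x, hx, hAx⟩
    obtain ⟨σ, -, hσf, he⟩ := D.partner hn hcard ha hx
    refine ⟨by rw [add_pow_q hn, mul_pow, ← pow_mul, mul_comm 2 q, pow_mul, hkf, hNf],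
      x + σ, mem_add hn hx hσf, ?_⟩
    rw [he, hAx, mul_pow, pow_succ k, hkf, ← hN]; ring
  -- sums
  have hcore : ∀ k p x y, k ^ q = k → p ^ q = p → x + x ^ q = N → y + y ^ q = N →
      D.A a x = k * a → D.A a y = p * a → x ≠ y → k * p * (x + y) = k + p ∧ S (k + p) := by
    intro k p x y hkf hpf hx hy hAx hAy hne
    have hk0 := hS0 k ⟨hkf, x, hx, hAx⟩
    have hp0 := hS0 p ⟨hpf, y, hy, hAy⟩
    have hxy : x + y ≠ 0 := fun h0 => hne (CharTwo.add_eq_zero.mp h0)
    set t : F := (x + y)⁻¹ with ht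
    have ht0 : t ≠ 0 := inv_ne_zero hxy
    have htf : t ^ q = t := by rw [ht, inv_pow, diff_fix hn hx hy]
    have hxt : x + t⁻¹ = y := by
      rw [ht, inv_inv]; linear_combination CharTwo.add_self_eq_zero x
    have hz : (x + t / k ^ 2) + (x + t / k ^ 2) ^ q = N :=
      mem_add hn hx (by rw [div_pow, ← pow_mul, mul_comm 2 q, pow_mul, hkf, htf])
    have hKA := D.relKA a x t ha hx ht0 htf
    have hKB := D.relKB a x t ha hx ht0 htf
    rw [hxt, hAx, hfixed k x hkf hx hAx,
      show k ^ 2 * x + t = k ^ 2 * (x + t / k ^ 2) by field_simp] at hKA hKB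
    rw [D.scalA a _ k ha hz hk0 hkf, hAy] at hKA
    rw [D.scalB a _ k ha hz hk0 hkf, hfixed p y hpf hy hAy, ← hxt] at hKB
    have hval : D.A a (x + t / k ^ 2) = (k * p / t) * a := by
      field_simp at hKA ⊢; linear_combination hKA
    rw [hfixed (k * p / t) _ (by rw [div_pow, mul_pow, hkf, hpf, htf]) hz hval] at hKB
    have hsq : (t * (k + p)) ^ 2 = (k * p) ^ 2 := by
      rw [mul_pow t (k + p), CharTwo.add_sq]
      field_simp at hKB
      linear_combination -hKB + CharTwo.add_self_eq_zero (k ^ 2 * p ^ 2)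
        + (t ^ 2 * p ^ 2 - 2 * k ^ 2 * p ^ 2) * (CharTwo.two_eq_zero (R := F))
    have hlin : t * (k + p) = k * p := CharTwo.sq_injective hsq
    refine ⟨?_, by rw [add_pow_q hn, hkf, hpf], x + t / k ^ 2, hz, ?_⟩
    · rw [← hlin, ht]; field_simp
    · rw [hval, ← hlin]; field_simp
  have hadd : ∀ k p, S k → S p → k + p = 0 ∨ S (k + p) := by
    rintro k p ⟨hkf, x, hx, hAx⟩ ⟨hpf, y, hy, hAy⟩
    by_cases hxy : x = y
    · subst hxy
      exact Or.inl (CharTwo.add_eq_zero.mpr (mul_right_cancel₀ ha (by rw [← hAx, hAy])))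
    · exact Or.inr (hcore k p x y hkf hpf hx hy hAx hAy hxy).2
  -- products
  have hmul : ∀ k p, S k → S p → S (k * N * p) ∨ k * N * p = 0 := by
    intro k p hSk hSp
    obtain ⟨hkf, x, hx, hAx⟩ := hSk
    obtain ⟨hpf, y, hy, hAy⟩ := hSp
    have hk0 := hS0 k ⟨hkf, x, hx, hAx⟩
    by_cases hc : x + y + N = 0
    · -- then `k * N * p = k + p`
      have hxy : x ≠ y := by
        rintro rfl
        exact hN0 (by linear_combination hc - CharTwo.add_self_eq_zero x)
      obtain ⟨h1, h2⟩ := hcore k p x y hkf hpf hx hy hAx hAy hxy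
      refine Or.inl (?_ : S _)
      have e : k * N * p = k + p := by
        linear_combination h1 + k * p * hc - k * p * CharTwo.add_self_eq_zero (x + y)
      rw [e]; exact h2
    · set d : F := k ^ 2 * (x + y + N) with hd
      have hd0 : d ≠ 0 := mul_ne_zero (pow_ne_zero _ hk0) hc
      have hdf : d ^ q = d := by
        rw [hd, mul_pow, ← pow_mul, mul_comm 2 q, pow_mul, hkf, add_pow_q hn,
          diff_fix hn hx hy, hNf]
      obtain ⟨σ, -, hσf, he, -⟩ := D.relBlock a x d⁻¹ ha hx (inv_ne_zero hd0)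
        (by rw [inv_pow, hdf])
      have harg : D.B a x ^ q + d⁻¹⁻¹ = k ^ 2 * y := by
        rw [hfixed k x hkf hx hAx, inv_inv, mul_pow, ← pow_mul, mul_comm 2 q, pow_mul, hkf, hd]
        linear_combination k ^ 2 * hx + CharTwo.add_self_eq_zero (k ^ 2 * N)
      rw [harg, hAx, D.scalA a y k ha hy hk0 hkf, hAy, div_inv_eq_mul] at he
      -- the value is `k + p * k * (x + y + N)`
      have hnew : S (k + p * k * (x + y + N)) :=
        ⟨by rw [add_pow_q hn, mul_pow, mul_pow, hkf, hpf, add_pow_q hn, diff_fix hn hx hy, hNf],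
          x + σ, mem_add hn hx hσf, by rw [he, hd]; field_simp⟩
      by_cases hxy : x = y
      · subst hxy
        have hkp : k = p := mul_right_cancel₀ ha (by rw [← hAx, hAy])
        subst hkp
        rcases hadd k _ ⟨hkf, x, hx, hAx⟩ hnew with h | h
        · exact Or.inr (by
            linear_combination h - CharTwo.add_self_eq_zero k
              - CharTwo.add_self_eq_zero (k * k * x))
        · refine Or.inl (?_ : S _)
          have e : k * N * k = k + (k + k * k * (x + x + N)) := by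
            linear_combination -(CharTwo.add_self_eq_zero k)
              - CharTwo.add_self_eq_zero (k * k * x)
          rw [e]; exact h
      · obtain ⟨hlin, -⟩ := hcore k p x y hkf hpf hx hy hAx hAy hxy
        rcases hadd p _ ⟨hpf, y, hy, hAy⟩ hnew with h | h
        · exact Or.inr (by
            linear_combination h - hlin - CharTwo.add_self_eq_zero k
              - CharTwo.add_self_eq_zero p)
        · refine Or.inl (?_ : S _)
          have e : k * N * p = p + (k + p * k * (x + y + N)) := by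
            linear_combination -hlin - CharTwo.add_self_eq_zero k - CharTwo.add_self_eq_zero p
          rw [e]; exact h
  -- conclusion: the powers of `k * N` stay inside, so `N⁻¹` is a value
  intro hAb
  have hSk : S k := ⟨hk, b, hb, hAb⟩
  have hk0 := hS0 k hSk
  have hpow : ∀ j : ℕ, S (k * (k * N) ^ j) := by
    intro j
    induction j with
    | zero => simpa using hSk
    | succ j ih =>
      rcases hmul k _ hSk ih with h | h
      · have e : k * (k * N) ^ (j + 1) = k * N * (k * (k * N) ^ j) := by ring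
        rw [e]; exact h
      · exact absurd h (by simp [hk0, hN0])
  have hkN : k * N ≠ 0 := mul_ne_zero hk0 hN0
  obtain ⟨j, hj⟩ : ∃ j : ℕ, j + 1 = Fintype.card F - 1 :=
    ⟨Fintype.card F - 2, by have := Fintype.one_lt_card (α := F); omega⟩
  have h1 := hpow j
  have e : k * (k * N) ^ j = N⁻¹ := by
    have h2 := FiniteField.pow_card_sub_one_eq_one (k * N) hkN
    rw [← hj, pow_succ] at h2
    field_simp
    linear_combination h2
  rw [e] at h1
  refine hS0 _ (hnext _ h1) ?_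
  field_simp
  linear_combination CharTwo.add_self_eq_zero (1 : F)

/-- The values lie on a circle: `β = (a / A) ^ q` has trace `a ^ (q + 1)`. -/
theorem circle (hn : q = 2 ^ n) (hcard : Fintype.card F = q ^ 2) {a b : F} (ha : a ≠ 0)
    (hb : b + b ^ q = a ^ (q + 1)) :
    (a / D.A a b) ^ q + a / D.A a b = a ^ (q + 1) := by
  obtain ⟨σ, hσ, hσf, he⟩ := D.partner hn hcard ha hb
  have hb1 := mem_add hn hb hσf
  obtain ⟨σ', hσ', hσf', he'⟩ := D.partner hn hcard ha hb1
  set x := D.A a b with hx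
  have hxne : x ≠ 0 := D.A_ne a b ha hb
  set x' := x + a * x ^ (q + 1) with hx'
  have hx'ne : x' ≠ 0 := he ▸ D.A_ne a _ ha hb1
  rw [he] at he'
  -- the second partner is the point itself
  have hback : σ + σ' = 0 := by
    by_contra hne
    have htf : (σ + σ') ^ q = σ + σ' := by rw [add_pow_q hn, hσf, hσf']
    obtain ⟨s, hs, hsf, hd⟩ := D.relBlock' a b (σ + σ') ha hb hne htf
    rw [← add_assoc, he', ← hx] at hd
    set W := D.A x (D.B a b ^ q + s⁻¹) with hW
    by_cases hc : s⁻¹ = x ^ (q + 1)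
    · have hP : D.B a b ^ q + s⁻¹ = D.B a b := by
        rw [hc, hx]
        linear_combination -(D.mem a b ha hb) + CharTwo.add_self_eq_zero (D.B a b ^ q)
          + CharTwo.add_self_eq_zero (D.A a b ^ (q + 1))
          - D.A a b ^ (q + 1) * (CharTwo.two_eq_zero (R := F))
      have hW1 : W = a := by rw [hW, hP, hx]; exact D.invA a b ha hb
      rw [hW1, div_eq_mul_inv, hc] at hd
      exact pow_ne_zero (q + 1) hx'ne
        (mul_left_cancel₀ ha (by rw [hx'] at hd ⊢; linear_combination hd))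
    · set t : F := x ^ (q + 1) + s⁻¹ with ht
      have ht0 : t ≠ 0 := fun h0 => hc (CharTwo.add_eq_zero.mp h0).symm
      have htf' : t ^ q = t := by rw [ht, add_pow_q hn, inv_pow, hsf, norm_fix hcard]
      have harg : D.B a b ^ q + s⁻¹ = D.B a b + t := by
        rw [ht, hx]
        linear_combination (D.mem a b ha hb) - CharTwo.add_self_eq_zero (D.B a b)
      have hW1 : W = D.A a (b + t⁻¹) / t := by
        rw [hW, harg, hx]; exact D.relKA a b t ha hb ht0 htf'
      rw [hW1] at hd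
      have hreal : D.A a (b + t⁻¹) = (x ^ (q + 1) + x' ^ (q + 1)) * t * s * a := by
        generalize D.A a (b + t⁻¹) = Y at hd ⊢
        rw [hx'] at hd ⊢
        field_simp at hd
        linear_combination -hd
      refine D.no_real hn hcard ha (mem_add hn hb (by rw [inv_pow, htf'])) ?_ hreal
      rw [mul_pow, mul_pow, htf', hsf, add_pow_q hn, norm_fix hcard, norm_fix hcard]
  have hnn : x' ^ (q + 1) = x ^ (q + 1) := by
    rw [show b + σ + σ' = b by linear_combination hback, ← hx, hx'] at he'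
    have h1 : a * x' ^ (q + 1) = a * x ^ (q + 1) := by
      rw [hx']
      linear_combination -he' - CharTwo.add_self_eq_zero (a * x ^ (q + 1))
    exact mul_left_cancel₀ ha h1
  rw [hx', pow_succ _ q, add_pow_q hn, mul_pow, norm_fix hcard] at hnn
  rw [div_pow, pow_succ a q]
  have hxq : x ^ q ≠ 0 := pow_ne_zero _ hxne
  rw [pow_succ x q] at hnn
  field_simp
  refine mul_left_cancel₀ (mul_ne_zero hxq hxne) ?_
  linear_combination hnn - CharTwo.add_self_eq_zero (a ^ q * a * (x ^ q) ^ 2 * x ^ 2)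

/-- `β = (a / A) ^ q`. -/
noncomputable def beta (a b : F) : F := (a / D.A a b) ^ q

theorem beta_trace (hn : q = 2 ^ n) (hcard : Fintype.card F = q ^ 2) {a b : F} (ha : a ≠ 0)
    (hb : b + b ^ q = a ^ (q + 1)) : D.beta a b + D.beta a b ^ q = a ^ (q + 1) := by
  rw [beta, pow_q_q hcard]; exact D.circle hn hcard ha hb

omit [CharP F 2] in
theorem A_eq (hcard : Fintype.card F = q ^ 2) {a b : F} (ha : a ≠ 0)
    (hb : b + b ^ q = a ^ (q + 1)) : D.A a b = a / D.beta a b ^ q := by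
  rw [beta, pow_q_q hcard]
  field_simp [D.A_ne a b ha hb]

omit [Fintype F] [CharP F 2] in
theorem beta_ne {a b : F} (ha : a ≠ 0) (hb : b + b ^ q = a ^ (q + 1)) : D.beta a b ≠ 0 :=
  pow_ne_zero _ (div_ne_zero ha (D.A_ne a b ha hb))

theorem beta_add (hn : q = 2 ^ n) (hcard : Fintype.card F = q ^ 2) {a b w : F} (ha : a ≠ 0)
    (hb : b + b ^ q = a ^ (q + 1)) (hw : w ^ q = w) : D.beta a (b + w) = D.beta a b + w := by
  by_cases hw0 : w = 0
  · simp [hw0]
  have hb' := mem_add hn hb hw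
  have hAne := D.A_ne a b ha hb
  have hwi : (w⁻¹) ^ q = w⁻¹ := by rw [inv_pow, hw]
  have hm : (D.B a b + w⁻¹) + (D.B a b + w⁻¹) ^ q = D.A a b ^ (q + 1) :=
    mem_add hn (D.mem a b ha hb) hwi
  have hc := D.circle hn hcard hAne hm
  rw [D.relKA a b w⁻¹ ha hb (inv_ne_zero hw0) hwi, inv_inv] at hc
  set β := D.beta a b
  set β' := D.beta a (b + w)
  have h1 : β + β ^ q = a ^ (q + 1) := D.beta_trace hn hcard ha hb
  have h2 : β' + β' ^ q = a ^ (q + 1) := D.beta_trace hn hcard ha hb'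
  have hβ : β ≠ 0 := D.beta_ne ha hb
  have hβ' : β' ≠ 0 := D.beta_ne ha hb'
  have hβq : β ^ q ≠ 0 := pow_ne_zero _ hβ
  have hβ'q : β' ^ q ≠ 0 := pow_ne_zero _ hβ'
  rw [D.A_eq hcard ha hb, D.A_eq hcard ha hb', pow_succ (a / β ^ q) q] at hc
  simp only [div_pow, inv_pow, pow_q_q hcard, hw] at hc
  change _ at hc
  rw [← show β = D.beta a b from rfl, ← show β' = D.beta a (b + w) from rfl] at hc
  have haq : a ^ q ≠ 0 := pow_ne_zero _ ha
  field_simp at hc
  rw [pow_succ a q] at h1 h2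
  have h3 : a ^ q * a * (β + β' + w) = 0 := by
    linear_combination hc - β * h2 - β' * h1
      + CharTwo.add_self_eq_zero (β * β' + a ^ q * a * (β + β' + w))
      - a ^ q * a * (β + β') * (CharTwo.two_eq_zero (R := F))
  rcases mul_eq_zero.mp h3 with h | h
  · exact absurd h (mul_ne_zero haq ha)
  · linear_combination h - CharTwo.add_self_eq_zero β - CharTwo.add_self_eq_zero w

/-- **The structure map of `U₃(q)`**, with no assumption on the torus. -/
theorem eq_model (hn : q = 2 ^ n) (hcard : Fintype.card F = q ^ 2) (r₀ : F)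
    (h₀ : r₀ + r₀ ^ q = 1) :
    ∃ C : F → F, (∀ x, C x ^ q = C x) ∧ (∀ x y, C (x + y) = C x + C y) ∧
      (∀ k x, k ^ q = k → C (k * x) = k ^ 2 * C x) ∧
      ∀ a b, a ≠ 0 → b + b ^ q = a ^ (q + 1) →
        D.A a b = a / (b + C a) ^ q ∧ D.B a b = (b + C a)⁻¹ + C (D.A a b) := by
  classical
  have hb₀ : ∀ a : F, a ^ (q + 1) * r₀ + (a ^ (q + 1) * r₀) ^ q = a ^ (q + 1) := by
    intro a
    rw [mul_pow, norm_fix hcard]
    linear_combination a ^ (q + 1) * h₀
  let C : F → F := fun x => if x = 0 then 0 else D.beta x (x ^ (q + 1) * r₀) + x ^ (q + 1) * r₀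
  have hC0 : C 0 = 0 := if_pos rfl
  have hbeta : ∀ a b, a ≠ 0 → b + b ^ q = a ^ (q + 1) → D.beta a b = b + C a := by
    intro a b ha hb
    have h := D.beta_add hn hcard ha (hb₀ a) (diff_fix hn (hb₀ a) hb)
    have e : a ^ (q + 1) * r₀ + (a ^ (q + 1) * r₀ + b) = b := by
      linear_combination CharTwo.add_self_eq_zero (a ^ (q + 1) * r₀)
    rw [e] at h
    simp only [C, if_neg ha]
    linear_combination h
  have hreal : ∀ x, C x ^ q = C x := by
    intro x
    by_cases hx : x = 0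
    · rw [hx, hC0, zero_pow]; rw [hn]; exact pow_ne_zero _ two_ne_zero
    · simp only [C, if_neg hx]
      exact diff_fix hn (D.beta_trace hn hcard hx (hb₀ x)) (hb₀ x)
  have hmodel : ∀ a b, a ≠ 0 → b + b ^ q = a ^ (q + 1) →
      D.A a b = a / (b + C a) ^ q ∧ D.B a b = (b + C a)⁻¹ + C (D.A a b) := by
    intro a b ha hb
    refine ⟨by rw [D.A_eq hcard ha hb, hbeta a b ha hb], ?_⟩
    have h := hbeta _ _ (D.A_ne a b ha hb) (D.mem a b ha hb)
    rw [beta, D.invA a b ha hb] at h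
    have e : (D.A a b / a) ^ q = (D.beta a b)⁻¹ := by rw [beta, ← inv_pow, inv_div]
    rw [e, hbeta a b ha hb] at h
    linear_combination -h - CharTwo.add_self_eq_zero (C (D.A a b))
  have hhom : ∀ k x, k ^ q = k → C (k * x) = k ^ 2 * C x := by
    intro k x hk
    by_cases hx : x = 0
    · simp [hx, hC0]
    by_cases hk0 : k = 0
    · simp [hk0, hC0]
    have hkx : k * x ≠ 0 := mul_ne_zero hk0 hx
    have hm : k ^ 2 * (x ^ (q + 1) * r₀) + (k ^ 2 * (x ^ (q + 1) * r₀)) ^ q
        = (k * x) ^ (q + 1) := by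
      rw [mul_pow k x, pow_succ k q, mul_pow, ← pow_mul, mul_comm 2 q, pow_mul, hk, mul_pow,
        norm_fix hcard]
      linear_combination k ^ 2 * x ^ (q + 1) * h₀
    have h := hbeta _ _ hkx hm
    rw [beta, D.scalA x _ k hx (hb₀ x) hk0 hk] at h
    have e : (k * x / (D.A x (x ^ (q + 1) * r₀) / k)) ^ q
        = k ^ 2 * (x / D.A x (x ^ (q + 1) * r₀)) ^ q := by
      have h2 : k * x / (D.A x (x ^ (q + 1) * r₀) / k)
          = k ^ 2 * (x / D.A x (x ^ (q + 1) * r₀)) := by field_simp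
      rw [h2, mul_pow, ← pow_mul, mul_comm 2 q, pow_mul, hk]
    rw [e] at h
    simp only [C, if_neg hx, beta] at h ⊢
    linear_combination -h
      - (k ^ 2 * x * x ^ q * r₀) * (CharTwo.two_eq_zero (R := F))
  refine ⟨C, hreal, ?_, hhom, hmodel⟩
  intro x y
  by_cases hx : x = 0
  · simp [hx, hC0]
  by_cases hzr : (y / x) ^ q = y / x
  · -- dependent arguments
    have hy : y = y / x * x := by field_simp
    have h1 : (1 + y / x) ^ q = 1 + y / x := by rw [add_pow_q hn, one_pow, hzr]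
    conv_lhs => rw [hy, show x + y / x * x = (1 + y / x) * x by ring, hhom _ _ h1]
    conv_rhs => rw [hy, hhom _ _ hzr]
    rw [CharTwo.add_sq]; ring
  set z : F := y / x with hz
  have hz0 : z ≠ 0 := fun h => hzr (by rw [h, zero_pow]; rw [hn]; exact pow_ne_zero _ two_ne_zero)
  set T : F := z⁻¹ + (z⁻¹) ^ q with hT
  have hT0 : T ≠ 0 := by
    intro h
    have h1 : (z⁻¹) ^ q = z⁻¹ := (CharTwo.add_eq_zero.mp h).symm
    rw [inv_pow, inv_inj] at h1
    exact hzr h1
  have hTf : T ^ q = T := by rw [hT, add_pow_q hn, pow_q_q hcard]; ring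
  set s : F := T / x ^ (q + 1) with hs
  have hxN : x ^ (q + 1) ≠ 0 := pow_ne_zero _ hx
  have hs0 : s ≠ 0 := div_ne_zero hT0 hxN
  have hsf : s ^ q = s := by rw [hs, div_pow, hTf, norm_fix hcard]
  -- the point `(x, w)` with `β = s⁻¹ * (1 + z⁻¹)`
  set w : F := s⁻¹ * (1 + z⁻¹) + C x with hw
  have hwm : w + w ^ q = x ^ (q + 1) := by
    rw [hw, add_pow_q hn, mul_pow, add_pow_q hn, inv_pow s, hsf, one_pow, hreal]
    have e : s⁻¹ * T = x ^ (q + 1) := by rw [hs]; field_simp
    linear_combination e + s⁻¹ * hT + CharTwo.add_self_eq_zero (C x + s⁻¹)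
      + CharTwo.add_self_eq_zero (0 : F)
  set a := D.A x w with ha_def
  set b := D.B x w with hb_def
  have ha : a ≠ 0 := D.A_ne x w hx hwm
  have hb : b + b ^ q = a ^ (q + 1) := D.mem x w hx hwm
  have hAab : D.A a b = x := D.invA x w hx hwm
  have hBab : D.B a b = w := D.invB x w hx hwm
  obtain ⟨σ, hσ, hσf, he1, he2⟩ := D.relBlock a b s ha hb hs0 hsf
  rw [hAab, hBab] at he1 he2
  have hb' := mem_add hn hb hσf
  have hw' : (w ^ q + s⁻¹) + (w ^ q + s⁻¹) ^ q = x ^ (q + 1) := by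
    refine mem_add hn ?_ (by rw [inv_pow, hsf])
    rw [pow_q_q hcard, add_comm]; exact hwm
  obtain ⟨hA2, hB2⟩ := hmodel x _ hx hw'
  obtain ⟨hAw, hBw⟩ := hmodel x w hx hwm
  obtain ⟨-, hB'⟩ := hmodel a (b + σ) ha hb'
  have hwC : w + C x = s⁻¹ * (1 + z⁻¹) := by
    rw [hw]; linear_combination CharTwo.add_self_eq_zero (C x)
  have hzq : z ^ q ≠ 0 := pow_ne_zero _ hz0
  have hpi : w ^ q + s⁻¹ + C x = s⁻¹ * (z ^ q)⁻¹ := by
    rw [hw, add_pow_q hn, mul_pow, add_pow_q hn, inv_pow, inv_pow, hsf, one_pow, hreal]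
    linear_combination CharTwo.add_self_eq_zero (C x) + CharTwo.add_self_eq_zero s⁻¹
  rw [hpi] at hA2 hB2
  have hA2' : D.A x (w ^ q + s⁻¹) / s = y := by
    rw [hA2, mul_pow, inv_pow, inv_pow, pow_q_q hcard, hsf, hz]
    field_simp
  rw [hA2'] at he1 he2
  rw [he1, he2, hB2] at hB'
  -- the new point has `β' = (a / (x + y)) ^ q`
  have hz1 : 1 + z ≠ 0 := by
    intro h
    exact hzr (by rw [← CharTwo.add_eq_zero.mp h, one_pow])
  have hz1q : 1 + z ^ q ≠ 0 := by
    rw [← one_pow q, ← add_pow_q hn]; exact pow_ne_zero _ hz1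
  have hy : y = z * x := by rw [hz]; field_simp
  have haw : a = x * s * z ^ q / (1 + z ^ q) := by
    rw [ha_def, hAw, hwC, mul_pow, inv_pow, hsf, add_pow_q hn, one_pow, inv_pow,
      show s⁻¹ * (1 + (z ^ q)⁻¹) = (1 + z ^ q) / (s * z ^ q) by field_simp; ring]
    field_simp
  have hbeta' : b + σ + C a = (a / (x + y)) ^ q := by
    rw [← hbeta a _ ha hb', beta, he1]
  rw [hbeta', haw, hy] at hB'
  have hxq : x ^ q ≠ 0 := pow_ne_zero _ hx
  have hsC : C y = C (D.A x (w ^ q + s⁻¹)) / s ^ 2 := by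
    have e : D.A x (w ^ q + s⁻¹) = s * y := by rw [← hA2']; field_simp
    rw [e, hhom _ _ hsf]; field_simp
  have hsumN : x ^ q * x * s = z⁻¹ + (z ^ q)⁻¹ := by
    rw [← pow_succ, hs, hT, inv_pow]; field_simp
  rw [hy] at hsC ⊢
  have hxy0 : x + z * x ≠ 0 := by
    rw [show x + z * x = (1 + z) * x by ring]; exact mul_ne_zero hz1 hx
  have hmid : C (x + z * x) = C x + C (D.A x (w ^ q + s⁻¹)) / s ^ 2 := by
    have e : ((x * s * z ^ q / (1 + z ^ q)) / (x + z * x)) ^ q
        = s * z / ((1 + z) * (1 + z ^ q)) := by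
      rw [show x + z * x = (1 + z) * x by ring]
      simp only [div_pow, mul_pow, add_pow_q hn, one_pow, hsf, pow_q_q hcard]
      field_simp
    rw [e, mul_pow] at hB'
    generalize C (D.A x (w ^ q + s⁻¹)) = Φ at hB' ⊢
    generalize C (x + z * x) = Ψ at hB' ⊢
    rw [hw] at hB'
    clear_value s z
    field_simp at hB' hsumN ⊢
    refine mul_left_cancel₀ hz0 ?_
    linear_combination -hB' + s * hsumN + (s * z) * (CharTwo.two_eq_zero (R := F))
  rw [hmid, hsC]

omit [Fintype F] in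
/-- A single nontrivial torus element with `v + v⁻¹` real kills the correction `C`. -/
theorem C_eq_zero {C : F → F} {v : F} (hadd : ∀ x y, C (x + y) = C x + C y)
    (hhom : ∀ k x, k ^ q = k → C (k * x) = k ^ 2 * C x) (hv0 : v ≠ 0)
    (hv : (v + v⁻¹) ^ q = v + v⁻¹) (hv1 : v + v⁻¹ ≠ 0) (hinv : ∀ x, C (v * x) = C x) :
    ∀ x, C x = 0 := by
  intro x
  have h1 : C (v⁻¹ * x) = C x := by
    rw [← hinv (v⁻¹ * x), ← mul_assoc, mul_inv_cancel₀ hv0, one_mul]
  have h2 := hhom (v + v⁻¹) x hv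
  rw [add_mul, hadd, hinv, h1, CharTwo.add_self_eq_zero] at h2
  exact (mul_eq_zero.mp h2.symm).resolve_left (pow_ne_zero _ hv1)

end TauData

end Cfsg.Agent.Lib.RankOneU3
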