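import Cfsg.Agent.Lib.RankOneU3.Scal
import Cfsg.Agent.Lib.RankOneU3.TauMap
import Cfsg.Agent.Lib.RankOneU3.Pocket
import Cfsg.Agent.Lib.U3Rec.Coord

/-!
# From coordinates to `PSU₃(q)`

With coordinates of `Q` of type `U(q)` in which the inverted elements act by scalars the map exchanging the
regular points is the one of `PSU₃(q)` after an automorphism of `U(q)`; with coordinates of the type of the
pocket `q = 8` there is no such group.
-/

set_option autoImplicit false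
set_option linter.unusedSectionVars false

namespace Cfsg.Agent.Lib.RankOneU3

open MulAction
open Cfsg.Agent.RankOne (twoStab invSub invK RInvol)
open Cfsg.Agent.U3Rec (gq gq_eq gq_ne gq_gq cq cq_ne gq_cq conj_t uMk cA cB cA_mk cB_mk exists_mk coord_mul
  coord_ext coord_one)
open Cfsg.Agent.PSU3Index

variable {G Ω : Type*} [Group G] [MulAction G Ω] {a : Ω} {t : G} {Q : Subgroup G}
variable [Finite G] {hS : Cfsg.IsRankOneSetup G Ω a t Q}
  {h2 : ∃ x y : G, x ≠ 1 ∧ y ≠ 1 ∧ x ≠ y ∧ x * x = 1 ∧ y * y = 1 ∧ x * y = y * x}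
variable {F : Type*} [Field F] [Fintype F] [CharP F 2] {q n : ℕ}

theorem half_root (hn : q = 2 ^ n) (hn0 : n ≠ 0) {r : F} (hr : r ^ q = r) :
    (r ^ (q / 2)) ^ q = r ^ (q / 2) ∧ (r ^ (q / 2)) ^ 2 = r := by
  have h2 : 2 ∣ q := hn ▸ dvd_pow_self 2 hn0
  refine ⟨by rw [← pow_mul, mul_comm, pow_mul, hr], ?_⟩
  rw [← pow_mul, show q / 2 * 2 = q by omega, hr]

/-- The automorphism `(a, b) ↦ (l a, N l b + f a)` of the root group. -/
theorem exists_auto (C : Ctx F q) (hn : q = 2 ^ n) {l : F} (hl : l ≠ 0) (f : F → F)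
    (hfr : ∀ x, f x ^ q = f x) (hfa : ∀ x y, f (x + y) = f x + f y) :
    ∃ E : rad C ≃* rad C, ∀ u, cA C (E u) = l * cA C u ∧
      cB C (E u) = l ^ (q + 1) * cB C u + f (cA C u) := by
  have hE : ∀ u : rad C, (l ^ (q + 1) * cB C u + f (cA C u)) +
      C.σ (l ^ (q + 1) * cB C u + f (cA C u)) + l * cA C u * C.σ (l * cA C u) = 0 := fun u => by
    obtain ⟨h, -⟩ := exists_mk C u
    rw [C.hσ, C.hσ] at h
    rw [C.hσ, C.hσ, add_pow_q hn, mul_pow, mul_pow, hfr, pow_succ l, mul_pow,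
      show (l ^ q) ^ q = l by rw [← C.hσ, ← C.hσ, C.hinv]]
    linear_combination (l ^ q * l) * h + CharTwo.add_self_eq_zero (f (cA C u))
  have hf0 : f 0 = 0 := by
    have h := hfa 0 0
    rw [add_zero] at h
    exact left_eq_add.1 h
  let E : rad C →* rad C := MonoidHom.mk' (fun u => uMk C (hE u)) fun u v => coord_ext C
    (by rw [cA_mk, (coord_mul C _ _).1, (coord_mul C _ _).1, cA_mk, cA_mk, mul_add])
    (by
      rw [cB_mk, (coord_mul C _ _).2, (coord_mul C _ _).2, (coord_mul C _ _).1, cB_mk, cB_mk, cA_mk, cA_mk,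
        hfa, C.hσ, C.hσ, mul_pow, pow_succ l]
      ring)
  have hinj : Function.Injective E := (injective_iff_map_eq_one E).2 fun u hu => by
    have h1 := congrArg (cA C) hu
    have h3 := congrArg (cB C) hu
    rw [show cA C (E u) = l * cA C u from cA_mk C _, (coord_one C).1] at h1
    rw [show cB C (E u) = l ^ (q + 1) * cB C u + f (cA C u) from cB_mk C _, (coord_one C).2] at h3
    have h1' := (mul_eq_zero.1 h1).resolve_left hl
    rw [h1', hf0, add_zero] at h3
    exact coord_ext C (h1'.trans (coord_one C).1.symm)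
      (((mul_eq_zero.1 h3).resolve_left (pow_ne_zero _ hl)).trans (coord_one C).2.symm)
  exact ⟨MulEquiv.ofBijective E ⟨hinj, Finite.surjective_of_injective hinj⟩,
    fun u => ⟨cA_mk C _, cB_mk C _⟩⟩

section Norm

variable (C : Ctx F q) {e : ↥Q ≃* ↥(rad C)} {ν : G → F}

/-- The curve in powers. -/
theorem curve_pow (x : Q) : cB C (e x) + cB C (e x) ^ q = cA C (e x) ^ (q + 1) := by
  obtain ⟨h, -⟩ := exists_mk C (e x)
  rw [C.hσ, C.hσ] at h
  rw [pow_succ]
  linear_combination h - (cA C (e x) ^ q * cA C (e x)) * (CharTwo.two_eq_zero (R := F))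

theorem coords_inv_pow (x : Q) :
    cA C (e x⁻¹) = cA C (e x) ∧ cB C (e x⁻¹) = cB C (e x) ^ q := by
  have hA := (coord_mul C (e x) (e x⁻¹)).1
  have hB := (coord_mul C (e x) (e x⁻¹)).2
  rw [← map_mul, mul_inv_cancel, map_one, (coord_one C).1] at hA
  rw [← map_mul, mul_inv_cancel, map_one, (coord_one C).2] at hB
  have hA' : cA C (e x⁻¹) = cA C (e x) := by
    linear_combination -hA - cA C (e x) * (CharTwo.two_eq_zero (R := F))
  refine ⟨hA', ?_⟩
  obtain ⟨h, -⟩ := exists_mk C (e x)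
  rw [hA', C.hσ] at hB
  rw [C.hσ, C.hσ] at h
  linear_combination -hB - h + (cA C (e x) ^ q * cA C (e x)) * (CharTwo.two_eq_zero (R := F))

/-- The recognition. -/
theorem Scal.recog_psu [FaithfulSMul G Ω] (hn : q = 2 ^ n) (hn0 : n ≠ 0)
    (hcard : Fintype.card F = q ^ 2) (hr : RInvol hS h2)
    (K : Scal hS h2 q 2 (fun x => cA C (e x)) (fun x => cB C (e x)) ν) :
    Nonempty (↥(Q ⊔ Subgroup.zpowers t) ≃* Cfsg.PSU 3 F q) := by
  classical
  have hroot : ∀ r : F, r ^ q = r → r ≠ 0 → ∃ l, l ^ q = l ∧ l ≠ 0 ∧ l ^ 2 = r := fun r hr hr0 =>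
    ⟨_, (half_root hn hn0 hr).1, pow_ne_zero _ hr0, (half_root hn hn0 hr).2⟩
  have hinj : ∀ u v : F, u ^ q = u → v ^ q = v → u ^ 2 = v ^ 2 → u = v :=
    fun u v _ _ h => CharTwo.sq_injective h
  -- normalise the involutions
  obtain ⟨γ, hγ0, hγf, hγ⟩ := K.exists_gamma hr hroot
  set M : F := (γ⁻¹) ^ (q / 2) with hM
  obtain ⟨hMf, hM2⟩ := half_root hn hn0 (r := γ⁻¹) (by rw [inv_pow, hγf])
  obtain ⟨l, hl⟩ := Hermitian.exists_norm C.hne C.hinv (x := M) (by rw [C.hσ]; exact hMf)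
  have hM0 : M ≠ 0 := pow_ne_zero _ (inv_ne_zero hγ0)
  have hl0 : l ≠ 0 := fun h => hM0 (by rw [← hl, h, zero_mul])
  have hlN : l ^ (q + 1) = M := by rw [← hl, C.hσ, pow_succ, mul_comm]
  obtain ⟨E, hE⟩ := exists_auto C hn hl0 (fun _ => 0) (fun _ => zero_pow (hn ▸ by positivity))
    (fun _ _ => (add_zero 0).symm)
  have hA : ∀ x, cA C (e.trans E x) = l * cA C (e x) := fun x => (hE (e x)).1
  have hB : ∀ x, cB C (e.trans E x) = M * cB C (e x) := fun x => by
    rw [← hlN]; exact (hE (e x)).2.trans (add_zero _)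
  obtain ⟨e', hA', hB'⟩ : ∃ e' : ↥Q ≃* ↥(rad C), (∀ x, cA C (e' x) = l * cA C (e x)) ∧
      ∀ x, cB C (e' x) = M * cB C (e x) := ⟨_, hA, hB⟩
  have K' : Scal hS h2 q 2 (fun x => cA C (e' x)) (fun x => cB C (e' x)) ν :=
    { add := fun x y => by simp only [hA']; rw [← mul_add, ← K.add]
      zero_iff := fun x => by simp only [hA', mul_eq_zero, hl0, false_or]; exact K.zero_iff x
      cen := fun x z hz => by simp only [hB']; rw [← mul_add, ← K.cen x z hz]
      cen_real := fun z hz => by simp only [hB']; rw [mul_pow, hMf, K.cen_real z hz]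
      cen_inj := fun z hz h => K.cen_inj z hz (by simpa [hB', hM0] using h)
      cen_onto := fun s hs => by
        obtain ⟨z, hz, hcz⟩ := K.cen_onto (s / M) (by rw [div_pow, hs, hMf])
        exact ⟨z, hz, by simp only [hB']; rw [hcz]; field_simp⟩
      nu_ne := K.nu_ne
      nu_real := K.nu_real
      nu_inv := K.nu_inv
      nu_onto := K.nu_onto
      act := fun k hk hkD x => by
        simp only [hA', hB', (K.act k hk hkD x).1, (K.act k hk hkD x).2]
        exact ⟨by ring, by ring⟩ }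
  have hnorm : ∀ z : Q, (z : G) ∈ invSub hS h2 → z ≠ 1 → cB C (e' (gq hS z)) = (cB C (e' z))⁻¹ := by
    intro z hz hz1
    rw [hB', hB', hγ z hz hz1]
    have hz0 : cB C (e z) ≠ 0 := K.c_ne hz hz1
    have hMγ : M ^ 2 * γ = 1 := by rw [hM2, inv_mul_cancel₀ hγ0]
    field_simp
    linear_combination hMγ
  clear hγ hA hB hA' hB' K
  -- the data
  let pt : F → F → Q := fun a b =>
    if h : b + C.σ b + a * C.σ a = 0 then e'.symm (uMk C h) else 1
  have hpt : ∀ a b : F, b + b ^ q = a ^ (q + 1) → cA C (e' (pt a b)) = a ∧ cB C (e' (pt a b)) = b := by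
    intro a b h
    have h' : b + C.σ b + a * C.σ a = 0 := by
      rw [C.hσ, C.hσ]
      rw [pow_succ] at h
      linear_combination h + (a ^ q * a) * (CharTwo.two_eq_zero (R := F))
    simp only [pt, dif_pos h', MulEquiv.apply_symm_apply]
    exact ⟨cA_mk C h', cB_mk C h'⟩
  have hpt_eq : ∀ x : Q, ∀ a b : F, cA C (e' x) = a → cB C (e' x) = b → pt a b = x := by
    intro x a b ha hb
    obtain ⟨h1, h3⟩ := hpt a b (by rw [← ha, ← hb]; exact curve_pow C x)
    exact K'.ext (h1.trans ha.symm) (h3.trans hb.symm)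
  let TA : F → F → F := fun a b => cA C (e' (tq hS (pt a b)))
  let TB : F → F → F := fun a b => cB C (e' (tq hS (pt a b)))
  have hTA : ∀ x : Q, ∀ a b : F, cA C (e' x) = a → cB C (e' x) = b →
      cA C (e' (tq hS x)) = TA a b ∧ cB C (e' (tq hS x)) = TB a b := fun x a b ha hb => by
    simp only [TA, TB, hpt_eq x a b ha hb, and_self]
  have hne : ∀ a b, a ≠ 0 → b + b ^ q = a ^ (q + 1) → cA C (e' (pt a b)) ≠ 0 := fun a b ha hb => by
    rw [(hpt a b hb).1]; exact ha
  have hTne : ∀ a b, a ≠ 0 → b + b ^ q = a ^ (q + 1) → TA a b ≠ 0 := fun a b ha hb h =>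
    tq_notMem hS h2 hr (K'.notMem (hne a b ha hb)) ((K'.zero_iff _).1 h)
  have hadd_cen : ∀ (x : Q) (a b s : F) (z : Q), cA C (e' x) = a → cB C (e' x) = b →
      (z : G) ∈ invSub hS h2 → cB C (e' z) = s →
      cA C (e' (x * z)) = a ∧ cB C (e' (x * z)) = b + s := fun x a b s z ha hb hz hs =>
    ⟨(K'.kap_mul_cen x hz).trans ha, (K'.cen x z hz).trans (by rw [hb, hs])⟩
  have hrelK : ∀ a b s, a ≠ 0 → b + b ^ q = a ^ (q + 1) → s ≠ 0 → s ^ q = s →
      TA (TA a b) (TB a b + s) = TA a (b + s⁻¹) / s ∧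
        TB (TA a b) (TB a b + s) = (TB a (b + s⁻¹) - s) / s ^ 2 := by
    intro a b s ha hb hs hsf
    obtain ⟨z, hz, hcz⟩ := K'.cen_onto s hsf
    obtain ⟨z', hz', hcz'⟩ := K'.cen_onto s⁻¹ (by rw [inv_pow, hsf])
    obtain ⟨h1, h3⟩ := K'.relK hr hnorm hinj (hne a b ha hb) hs hsf rfl hz hcz hz' hcz'
    obtain ⟨p1, p2⟩ := hadd_cen _ _ _ s z (rfl : _ = TA a b) (rfl : _ = TB a b) hz hcz
    obtain ⟨r1, r2⟩ := hadd_cen _ _ _ s⁻¹ z' (hpt a b hb).1 (hpt a b hb).2 hz' hcz'
    obtain ⟨o1, o2⟩ := hTA _ _ _ p1 p2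
    obtain ⟨o3, o4⟩ := hTA _ _ _ r1 r2
    rw [o1, o3] at h1
    rw [o2, o4] at h3
    exact ⟨h1, h3⟩
  have hW : ∀ a b s (z' : Q), b + b ^ q = a ^ (q + 1) → (z' : G) ∈ invSub hS h2 → cB C (e' z') = s →
      cA C (e' (tq hS ((tq hS (pt a b))⁻¹ * z'))) = TA (TA a b) (TB a b ^ q + s) ∧
        cB C (e' (tq hS ((tq hS (pt a b))⁻¹ * z'))) = TB (TA a b) (TB a b ^ q + s) := by
    intro a b s z' _ hz' hcz'
    obtain ⟨p1, p2⟩ := hadd_cen _ _ _ s z' (coords_inv_pow C (e := e') (tq hS (pt a b))).1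
      (coords_inv_pow C (e := e') (tq hS (pt a b))).2 hz' hcz'
    exact hTA _ _ _ p1 p2
  have hblock : ∀ a b : F, a ≠ 0 → b + b ^ q = a ^ (q + 1) → _ := fun a b ha hb =>
    K'.relBlock hr hnorm hinj (hne a b ha hb) hroot
  let D : TauData F q :=
    { A := TA
      B := TB
      A_ne := hTne
      mem := fun a b _ _ => curve_pow C _
      scalA := fun a b k ha hb hk0 hkf => by
        obtain ⟨g, hg, hgk⟩ := K'.nu_onto k hkf hk0
        have hgD := RankOne.invK_le hS hg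
        obtain ⟨h1, h3⟩ := K'.act g hg hgD (pt a b)
        rw [(hpt a b hb).1, hgk] at h1
        rw [(hpt a b hb).2, hgk] at h3
        rw [← (hTA _ _ _ h1 h3).1]
        exact (K'.tq_act hg hgD (K'.ne_one (hne a b ha hb))).1.trans (by rw [hgk])
      scalB := fun a b k ha hb hk0 hkf => by
        obtain ⟨g, hg, hgk⟩ := K'.nu_onto k hkf hk0
        have hgD := RankOne.invK_le hS hg
        obtain ⟨h1, h3⟩ := K'.act g hg hgD (pt a b)
        rw [(hpt a b hb).1, hgk] at h1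
        rw [(hpt a b hb).2, hgk] at h3
        rw [← (hTA _ _ _ h1 h3).2]
        exact (K'.tq_act hg hgD (K'.ne_one (hne a b ha hb))).2.trans (by rw [hgk])
      invA := fun a b ha hb => by
        rw [← (hTA _ _ _ (rfl : _ = TA a b) (rfl : _ = TB a b)).1,
          tq_tq hS h2 (K'.ne_one (hne a b ha hb))]
        exact (hpt a b hb).1
      invB := fun a b ha hb => by
        rw [← (hTA _ _ _ (rfl : _ = TA a b) (rfl : _ = TB a b)).2,
          tq_tq hS h2 (K'.ne_one (hne a b ha hb))]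
        exact (hpt a b hb).2
      relKA := fun a b s ha hb hs hsf => (hrelK a b s ha hb hs hsf).1
      relKB := fun a b s ha hb hs hsf => by
        rw [(hrelK a b s ha hb hs hsf).2]
        field_simp
        linear_combination -s * (CharTwo.two_eq_zero (R := F))
      relBlock := fun a b s ha hb hs hsf => by
        obtain ⟨σ, l, hσ, hσf, -, hl, zσ, z', u, hzσ, hcσ, hz', hcz', he, hu1, hu2⟩ :=
          (hblock a b ha hb).1 s hsf hs
        have hls : l = s := CharTwo.sq_injective hl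
        obtain ⟨w1, w2⟩ := hW a b s⁻¹ z' hb hz' hcz'
        rw [w1, hls] at hu1
        rw [w2] at hu2
        obtain ⟨p1, p2⟩ := hadd_cen _ _ _ σ zσ (hpt a b hb).1 (hpt a b hb).2 hzσ hcσ
        obtain ⟨o1, o2⟩ := hTA _ _ _ p1 p2
        refine ⟨σ, hσ, hσf, ?_, ?_⟩
        · rw [← o1, he, map_mul, (coord_mul C _ _).1, hu1]
          exact add_comm _ _
        · rw [← o2, he, map_mul, (coord_mul C _ _).2, hu1, hu2, C.hσ]
          show _ + TB a b - _ * TA a b = _
          rw [div_pow, hsf]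
          generalize TA (TA a b) (TB a b ^ q + s⁻¹) = X
          generalize TB (TA a b) (TB a b ^ q + s⁻¹) = Y
          field_simp
          linear_combination -(s + X ^ q * TA a b * s) * (CharTwo.two_eq_zero (R := F))
      relBlock' := fun a b σ ha hb hσ hσf => by
        obtain ⟨zσ, hzσ, hcσ⟩ := K'.cen_onto σ hσf
        obtain ⟨s, l, hs, hsf, -, hl, z', u, hz', hcz', he, hu1⟩ :=
          (hblock a b ha hb).2 zσ hzσ (fun h => hσ (by rw [← hcσ, h, K'.c_one]))
        have hls : l = s := CharTwo.sq_injective hl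
        rw [(hW a b s⁻¹ z' hb hz' hcz').1, hls] at hu1
        obtain ⟨p1, p2⟩ := hadd_cen _ _ _ σ zσ (hpt a b hb).1 (hpt a b hb).2 hzσ hcσ
        refine ⟨s, hs, hsf, ?_⟩
        rw [← (hTA _ _ _ p1 p2).1, he, map_mul, (coord_mul C _ _).1, hu1]
        exact add_comm _ _ }
  -- straighten
  obtain ⟨b₀, hb₀⟩ := Hermitian.exists_trace C.hne C.hinv (x := (1 : F)) (map_one _)
  obtain ⟨Cf, hCr, hCa, -, hC⟩ := D.eq_model hn hcard b₀ (by rw [← C.hσ]; exact hb₀)
  obtain ⟨E2, hE2⟩ := exists_auto C hn one_ne_zero Cf hCr hCa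
  have hC0 : Cf 0 = 0 := by
    have h := hCa 0 0
    rw [add_zero] at h
    exact left_eq_add.1 h
  refine U3Rec.recog hS (e'.trans E2) fun x y hx hxy => ?_
  have hy : gq hS x = y := gq_eq hS hx hxy
  have hxA : cA C (e'.trans E2 x) = cA C (e' x) := by
    rw [MulEquiv.trans_apply, (hE2 _).1, one_mul]
  have hxB : cB C (e'.trans E2 x) = cB C (e' x) + Cf (cA C (e' x)) := by
    rw [MulEquiv.trans_apply, (hE2 _).2, one_pow, one_mul]
  have hyA : cA C (e'.trans E2 y) = cA C (e' y) := by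
    rw [MulEquiv.trans_apply, (hE2 _).1, one_mul]
  have hyB : cB C (e'.trans E2 y) = cB C (e' y) + Cf (cA C (e' y)) := by
    rw [MulEquiv.trans_apply, (hE2 _).2, one_pow, one_mul]
  have key : cB C (e'.trans E2 x) ≠ 0 ∧
      cA C (e'.trans E2 y) = cA C (e'.trans E2 x) / cB C (e'.trans E2 x) ∧
      cB C (e'.trans E2 y) = (cB C (e'.trans E2 x))⁻¹ := by
    rw [hxA, hxB, hyA, hyB]
    by_cases ha : cA C (e' x) = 0
    · have hz : (x : G) ∈ invSub hS h2 := (K'.zero_iff x).1 ha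
      have hyZ : (y : G) ∈ invSub hS h2 := hy ▸ gq_mem hS h2 hr hz hx
      rw [show cA C (e' y) = 0 from (K'.zero_iff y).2 hyZ, ha, hC0, add_zero, add_zero, zero_div, ← hy]
      exact ⟨K'.c_ne hz hx, rfl, hnorm x hz hx⟩
    · set A₀ := cA C (e' x)
      set B₀ := cB C (e' x)
      have hmem : B₀ + B₀ ^ q = A₀ ^ (q + 1) := curve_pow C x
      obtain ⟨i1, i2⟩ := coords_inv_pow C (e := e') x
      obtain ⟨t1, t2⟩ := hTA x⁻¹ _ _ i1 i2
      have hmem' : B₀ ^ q + (B₀ ^ q) ^ q = A₀ ^ (q + 1) := by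
        rw [pow_q_q hcard, add_comm]; exact hmem
      obtain ⟨m1, m2⟩ := hC A₀ (B₀ ^ q) ha hmem'
      change TA A₀ (B₀ ^ q) = _ at m1
      change TB A₀ (B₀ ^ q) = _ + Cf (TA A₀ (B₀ ^ q)) at m2
      have hy' : y = (tq hS x⁻¹)⁻¹ := by rw [tq, inv_inv, inv_inv, hy]
      obtain ⟨j1, j2⟩ := coords_inv_pow C (e := e') (tq hS x⁻¹)
      rw [← hy', t1] at j1
      rw [← hy', t2] at j2
      have hden : (B₀ ^ q + Cf A₀) ^ q = B₀ + Cf A₀ := by rw [add_pow_q hn, pow_q_q hcard, hCr]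
      have hden0 : B₀ + Cf A₀ ≠ 0 := fun h0 => by
        have h := (add_pow_q (F := F) hn (x := B₀) (y := Cf A₀))
        rw [h0, zero_pow (hn ▸ by positivity), hCr] at h
        apply ha
        refine pow_eq_zero_iff (n := q + 1) (Nat.succ_ne_zero q) |>.1 ?_
        rw [← hmem]
        linear_combination h0 - h - Cf A₀ * (CharTwo.two_eq_zero (R := F))
      rw [hden] at m1
      rw [m1] at j1
      refine ⟨hden0, j1, ?_⟩
      rw [j2, m2, m1, j1, add_pow_q hn, hCr, inv_pow, hden, add_assoc, CharTwo.add_self_eq_zero, add_zero]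
  obtain ⟨hb0, k1, k2⟩ := key
  obtain ⟨h, hu⟩ := exists_mk C (e'.trans E2 x)
  rw [congrArg (Subtype.val (p := (· ∈ rad C))) hu]
  show wEl C • uEl C (cA C (e'.trans E2 x)) (cB C (e'.trans E2 x)) h • U3Rec.opp C = _
  rw [U3Rec.w_point C h hb0]
  congr 1
  obtain ⟨h', hu'⟩ := exists_mk C (e'.trans E2 y)
  rw [congrArg (Subtype.val (p := (· ∈ rad C))) hu']
  exact SU3Pres.uEl_ext C _ _ (by rw [k1, PSU3Index.two_neg CharTwo.two_eq_zero]) k2.symm

end Norm

end Cfsg.Agent.Lib.RankOneU3
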