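import Mathlib.FieldTheory.Finite.Basic
import Mathlib.Algebra.CharP.Two
import Mathlib.Tactic.LinearCombination
import Mathlib.Tactic.FieldSimp

/-!
# The structure map of a split rank one group of type `U₃(q)`, `q` even

`F` has `q ^ 2` elements, the orbit representatives of the torus on `S - Z(S)` are the pairs
`(1, r)` with `r + r ^ q = 1`, and the involution interchanging the two fixed points sends
`(1, r)` to `(lam r, lam r ^ (q + 1) * R r)`.

The rank one relation coming from `SL₂(q)` (`relK`) and the identity of the block through two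
points, computed from both of its ends (`relE1`, `relE2`), force `lam r = (r ^ q)⁻¹` and
`R r = r + 1`: this is the unitary group.
-/

set_option autoImplicit false

namespace Cfsg.Agent.Lib.RankOneU3

open Finset

variable {F : Type*} [Field F]

/-- The data `(lam, R)` of a structure map, with the relations used to identify it. -/
structure OrbitMap (F : Type*) [Field F] (q : ℕ) where
  lam : F → F
  R : F → F
  lam_ne : ∀ r, r + r ^ q = 1 → lam r ≠ 0
  R_mem : ∀ r, r + r ^ q = 1 → R r + R r ^ q = 1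
  R_R : ∀ r, r + r ^ q = 1 → R (R r) = r
  lam_R : ∀ r, r + r ^ q = 1 → lam (R r) = lam r ^ q
  relK : ∀ r w, r + r ^ q = 1 → w ≠ 0 → w ^ q = w →
    lam (R r + (w * lam r ^ (q + 1))⁻¹) = w * lam r ^ q * lam (r + w)
  relE1 : ∀ r u, r + r ^ q = 1 → u ≠ 0 → u ^ q = u → ∃ s, s ≠ 0 ∧ s ^ q = s ∧
    lam (r + s) = lam r * (1 + u * lam (R r + 1 + u)) ∧
    lam (r + s) ^ (q + 1) * R (r + s) =
      lam r ^ (q + 1) * (u ^ 2 * lam (R r + 1 + u) ^ (q + 1) * R (R r + 1 + u)
        + u + R r + u * lam (R r + 1 + u) ^ q)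
  relE2 : ∀ r s, r + r ^ q = 1 → s ≠ 0 → s ^ q = s → ∃ u, u ≠ 0 ∧ u ^ q = u ∧
    lam (r + s) = lam r * (1 + u * lam (R r + 1 + u))

/-- A finite set of nonzero elements closed under multiplication by `g` has `g ^ card = 1`. -/
theorem pow_card_of_mul_closed [DecidableEq F] (Γ : Finset F) (g : F) (hg : g ≠ 0)
    (h0 : ∀ x ∈ Γ, x ≠ 0) (hcl : ∀ x ∈ Γ, g * x ∈ Γ) : g ^ Γ.card = 1 := by
  have hinj : Set.InjOn (fun x => g * x) (Γ : Set F) := fun a _ b _ h =>
    mul_left_cancel₀ hg h
  have himg : Γ.image (fun x => g * x) = Γ := by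
    refine Finset.eq_of_subset_of_card_le ?_ ?_
    · intro x hx
      obtain ⟨y, hy, rfl⟩ := Finset.mem_image.mp hx
      exact hcl y hy
    · rw [Finset.card_image_of_injOn hinj]
  have h1 : ∏ x ∈ Γ, g * x = ∏ x ∈ Γ, x := by
    conv_rhs => rw [← himg]
    rw [Finset.prod_image hinj]
  rw [Finset.prod_mul_distrib, Finset.prod_const] at h1
  have hne : ∏ x ∈ Γ, x ≠ 0 := Finset.prod_ne_zero_iff.mpr h0
  exact mul_right_cancel₀ hne (by rw [h1, one_mul])

section Quad

variable [Fintype F] [CharP F 2] {q n : ℕ}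

omit [Fintype F] in
theorem add_pow_q (hn : q = 2 ^ n) (x y : F) : (x + y) ^ q = x ^ q + y ^ q := by
  subst hn
  have : Fact (Nat.Prime 2) := ⟨Nat.prime_two⟩
  exact add_pow_char_pow x y 2 n

omit [CharP F 2] in
theorem pow_q_q (hcard : Fintype.card F = q ^ 2) (x : F) : (x ^ q) ^ q = x := by
  rw [← pow_mul, ← pow_two, ← hcard, FiniteField.pow_card]

variable [DecidableEq F]

/-- The solutions of `r + r ^ q = 1` number `q`. -/
theorem card_line (hn : q = 2 ^ n) (hcard : Fintype.card F = q ^ 2) (r₀ : F)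
    (h₀ : r₀ + r₀ ^ q = 1) :
    (univ.filter (fun r : F => r + r ^ q = 1)).card = q := by
  have hq1 : 1 < q := by
    rcases Nat.lt_or_ge 1 q with h | h
    · exact h
    · exfalso
      have h2 := Fintype.one_lt_card (α := F)
      rw [hcard] at h2
      interval_cases q <;> simp at h2
  -- the trace as an additive map
  let T : F →+ F :=
    { toFun := fun x => x + x ^ q
      map_zero' := by simp [zero_pow (by omega : q ≠ 0)]
      map_add' := fun x y => by
        show x + y + (x + y) ^ q = x + x ^ q + (y + y ^ q)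
        rw [add_pow_q hn]; ring }
  set K : Finset F := univ.filter (fun x : F => T x = 0) with hK
  have hKfix : ∀ x : F, x ∈ K ↔ x ^ q = x := by
    intro x
    simp only [hK, mem_filter, mem_univ, true_and]
    show x + x ^ q = 0 ↔ _
    rw [CharTwo.add_eq_zero]
    exact eq_comm
  -- at most `q` fixed points
  have hKle : K.card ≤ q := by
    have hne : (Polynomial.X ^ q - Polynomial.X : Polynomial F) ≠ 0 :=
      FiniteField.X_pow_card_sub_X_ne_zero F hq1
    have hsub : K ⊆ (Polynomial.X ^ q - Polynomial.X : Polynomial F).roots.toFinset := by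
      intro x hx
      rw [hKfix] at hx
      rw [Multiset.mem_toFinset, Polynomial.mem_roots hne]
      simp [hx]
    refine le_trans (card_le_card hsub) ?_
    refine le_trans (Multiset.toFinset_card_le _) ?_
    refine le_trans (Polynomial.card_roots' _) ?_
    rw [FiniteField.X_pow_card_sub_X_natDegree_eq F hq1]
  -- the image of the trace lies in `K`
  have himg : ∀ x : F, T x ∈ K := by
    intro x
    rw [hKfix]
    show (x + x ^ q) ^ q = x + x ^ q
    rw [add_pow_q hn, pow_q_q hcard]; ring
  have hfib : ∀ y ∈ (univ : Finset F).image T,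
      (univ.filter (fun x : F => T x = y)).card = K.card := by
    intro y hy
    obtain ⟨x₀, -, rfl⟩ := Finset.mem_image.mp hy
    refine Finset.card_bij' (fun x _ => x - x₀) (fun x _ => x + x₀) ?_ ?_ ?_ ?_
    · intro x hx
      simp only [mem_filter, mem_univ, true_and] at hx
      simp [hK, map_sub, hx]
    · intro x hx
      simp only [hK, mem_filter, mem_univ, true_and] at hx
      simp [map_add, hx]
    · intro x _; exact sub_add_cancel x x₀
    · intro x _; exact add_sub_cancel_right x x₀
  have htot : Fintype.card F = ((univ : Finset F).image T).card * K.card := by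
    rw [← card_univ, card_eq_sum_card_image T univ, sum_congr rfl hfib, sum_const, smul_eq_mul]
  have hile : ((univ : Finset F).image T).card ≤ K.card := by
    refine card_le_card ?_
    intro y hy
    obtain ⟨x₀, -, rfl⟩ := Finset.mem_image.mp hy
    exact himg x₀
  have hKq : K.card = q := by
    refine le_antisymm hKle ?_
    by_contra hlt
    push Not at hlt
    have h3 : q ^ 2 ≤ K.card * K.card := by
      rw [← hcard, htot]; exact Nat.mul_le_mul_right _ hile
    nlinarith
  have h1 : (1 : F) ∈ (univ : Finset F).image T := Finset.mem_image.mpr ⟨r₀, mem_univ _, h₀⟩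
  exact (hfib 1 h1).trans hKq

variable (D : OrbitMap F q)

omit [Fintype F] [DecidableEq F] in
theorem mem_shift (hn : q = 2 ^ n) {r w : F} (hr : r + r ^ q = 1) (hw : w ^ q = w) :
    (r + w) + (r + w) ^ q = 1 := by
  rw [add_pow_q hn, hw]
  linear_combination hr + CharTwo.add_self_eq_zero w

omit [Fintype F] [DecidableEq F] in
theorem fix_of_two {r x : F} (hr : r + r ^ q = 1) (hx : x + x ^ q = 1) :
    r ^ q + x ^ q = r + x := by
  linear_combination hr + hx - CharTwo.add_self_eq_zero (r + x) + CharTwo.add_self_eq_zero (1 : F)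

omit [Fintype F] [CharP F 2] [DecidableEq F] in
theorem one_pow_fix : (1 : F) ^ q = 1 := one_pow q

theorem lam_injective (hn : q = 2 ^ n) {r x : F} (hr : r + r ^ q = 1) (hx : x + x ^ q = 1)
    (h : D.lam r = D.lam x) : r = x := by
  by_contra hne
  have hs : r + x ≠ 0 := fun h0 => hne (CharTwo.add_eq_zero.mp h0)
  have hsf : (r + x) ^ q = r + x := by rw [add_pow_q hn]; exact fix_of_two hr hx
  obtain ⟨u, hu, huf, he⟩ := D.relE2 r (r + x) hr hs hsf
  have hx' : r + (r + x) = x := by linear_combination CharTwo.add_self_eq_zero r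
  rw [hx', ← h] at he
  have hP : (D.R r + 1 + u) + (D.R r + 1 + u) ^ q = 1 :=
    mem_shift hn (mem_shift hn (D.R_mem r hr) one_pow_fix) huf
  have h1 : D.lam r * (u * D.lam (D.R r + 1 + u)) = 0 := by linear_combination -he
  rcases mul_eq_zero.mp h1 with h2 | h2
  · exact D.lam_ne r hr h2
  · rcases mul_eq_zero.mp h2 with h3 | h3
    · exact hu h3
    · exact D.lam_ne _ hP h3

/-- There is a constant `k ≠ 0` with `(lam r)⁻¹ + (lam r)⁻¹ ^ q = k`: the values of `lam`
lie on a circle through `0`. -/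
theorem exists_trace (hn : q = 2 ^ n) (hcard : Fintype.card F = q ^ 2) (r₀ : F)
    (h₀ : r₀ + r₀ ^ q = 1) :
    ∃ k : F, k ≠ 0 ∧ k ^ q = k ∧
      ∀ r, r + r ^ q = 1 → (D.lam r)⁻¹ + ((D.lam r)⁻¹) ^ q = k := by
  have hn0 : n ≠ 0 := by
    rintro rfl
    have h2 := Fintype.one_lt_card (α := F)
    rw [hcard, hn] at h2
    simp at h2
  set L : Finset F := univ.filter (fun r : F => r + r ^ q = 1) with hL
  have memL : ∀ {r : F}, r ∈ L ↔ r + r ^ q = 1 := by simp [hL]
  set V : Finset F := insert 0 (L.image D.lam) with hV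
  have hVcard : V.card = q + 1 := by
    rw [hV, card_insert_of_notMem, card_image_of_injOn, card_line hn hcard r₀ h₀]
    · intro a ha b hb hab
      exact lam_injective D hn (memL.mp ha) (memL.mp hb) hab
    · intro h
      obtain ⟨r, hr, hr0⟩ := Finset.mem_image.mp h
      exact D.lam_ne r (memL.mp hr) hr0
  have hodd : ((q + 1 : ℕ) : F) = 1 := by
    have h2 : ((q : ℕ) : F) = 0 := by
      rw [hn, Nat.cast_pow]
      have : ((2 : ℕ) : F) = 0 := CharP.cast_eq_zero F 2
      rw [this, zero_pow hn0]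
    push_cast; rw [h2, zero_add]
  have memV : ∀ {x : F}, x + x ^ q = 1 → D.lam x ∈ V := fun hx =>
    mem_insert_of_mem (mem_image_of_mem _ (memL.mpr hx))
  -- the affine maps preserving `V`
  have haff : ∀ r, r + r ^ q = 1 → ∀ z ∈ V,
      D.lam (D.R r) / D.lam (D.R (r + 1)) * z + D.lam (D.R r) ∈ V := by
    intro r hr z hz
    have hr1 : (r + 1) + (r + 1) ^ q = 1 := mem_shift hn hr one_pow_fix
    have hRr : D.R r + D.R r ^ q = 1 := D.R_mem r hr
    have hR1 : D.R (r + 1) + D.R (r + 1) ^ q = 1 := D.R_mem _ hr1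
    have hv1 : D.lam (D.R (r + 1)) ≠ 0 := D.lam_ne _ hR1
    rcases mem_insert.mp hz with rfl | hz
    · rw [mul_zero, zero_add]; exact memV hRr
    obtain ⟨x, hx, rfl⟩ := Finset.mem_image.mp hz
    rw [memL] at hx
    by_cases hxe : x = D.R (r + 1)
    · subst hxe
      rw [div_mul_cancel₀ _ hv1, CharTwo.add_self_eq_zero]
      exact mem_insert_self _ _
    have hd : D.R (r + 1) + x ≠ 0 := fun h0 => hxe (CharTwo.add_eq_zero.mp h0).symm
    have hdf : (D.R (r + 1) + x) ^ q = D.R (r + 1) + x := by
      rw [add_pow_q hn]; exact fix_of_two hR1 hx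
    have hl1 : D.lam (r + 1) ≠ 0 := D.lam_ne _ hr1
    have hnu : (D.lam (r + 1) ^ (q + 1)) ^ q = D.lam (r + 1) ^ (q + 1) := by
      rw [pow_succ (D.lam (r + 1)), mul_pow, pow_q_q hcard, mul_comm]
    set w : F := ((D.R (r + 1) + x) * D.lam (r + 1) ^ (q + 1))⁻¹ with hwdef
    have hw : w ≠ 0 := inv_ne_zero (mul_ne_zero hd (pow_ne_zero _ hl1))
    have hwf : w ^ q = w := by rw [hwdef, inv_pow, mul_pow, hdf, hnu]
    have hk := D.relK (r + 1) w hr1 hw hwf
    have harg : D.R (r + 1) + (w * D.lam (r + 1) ^ (q + 1))⁻¹ = x := by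
      have hN : D.lam (r + 1) ^ (q + 1) ≠ 0 := pow_ne_zero _ hl1
      have : (w * D.lam (r + 1) ^ (q + 1))⁻¹ = D.R (r + 1) + x := by
        rw [hwdef]; field_simp
      rw [this]
      linear_combination CharTwo.add_self_eq_zero (D.R (r + 1))
    rw [harg, ← D.lam_R (r + 1) hr1] at hk
    obtain ⟨s, hs, hsf, he, -⟩ := D.relE1 (D.R r) w hRr hw hwf
    rw [D.R_R r hr] at he
    have hfin : D.lam (D.R r) / D.lam (D.R (r + 1)) * D.lam x + D.lam (D.R r)
        = D.lam (D.R r + s) := by
      rw [hk, he]; field_simp; ring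
    rw [hfin]
    exact memV (mem_shift hn hRr hsf)
  -- the common fixed point
  set c₀ : F := ∑ z ∈ V, z with hc₀
  have halpha : ∀ r, r + r ^ q = 1 →
      D.lam (D.R r) / D.lam (D.R (r + 1)) * c₀ + D.lam (D.R r) = c₀ := by
    intro r hr
    have hv : D.lam (D.R r) ≠ 0 := D.lam_ne _ (D.R_mem r hr)
    have hv1 : D.lam (D.R (r + 1)) ≠ 0 :=
      D.lam_ne _ (D.R_mem _ (mem_shift hn hr one_pow_fix))
    have hinj : Set.InjOn (fun z => D.lam (D.R r) / D.lam (D.R (r + 1)) * z + D.lam (D.R r))
        (V : Set F) := fun a _ b _ h =>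
      mul_left_cancel₀ (div_ne_zero hv hv1) (add_right_cancel h)
    have himg : V.image (fun z => D.lam (D.R r) / D.lam (D.R (r + 1)) * z + D.lam (D.R r)) = V := by
      refine eq_of_subset_of_card_le ?_ ?_
      · intro y hy
        obtain ⟨z, hz, rfl⟩ := Finset.mem_image.mp hy
        exact haff r hr z hz
      · rw [card_image_of_injOn hinj]
    conv_rhs => rw [hc₀, ← himg, sum_image hinj]
    rw [sum_add_distrib, ← mul_sum, sum_const, hVcard, nsmul_eq_mul, hodd, one_mul]
  have hc0 : c₀ ≠ 0 := by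
    intro h
    have := halpha r₀ h₀
    rw [h, mul_zero, zero_add] at this
    exact D.lam_ne _ (D.R_mem r₀ h₀) this
  have hc0f : c₀ ^ q = c₀ := by
    have hinjq : Set.InjOn (fun z : F => z ^ q) (V : Set F) := fun a _ b _ h => by
      have := congrArg (fun z : F => z ^ q) h
      simpa [pow_q_q hcard] using this
    have himgq : V.image (fun z : F => z ^ q) = V := by
      refine eq_of_subset_of_card_le ?_ (by rw [card_image_of_injOn hinjq])
      intro y hy
      obtain ⟨z, hz, rfl⟩ := Finset.mem_image.mp hy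
      rcases mem_insert.mp hz with rfl | hz
      · rw [zero_pow (by rw [hn]; exact pow_ne_zero _ two_ne_zero)]
        exact mem_insert_self _ _
      obtain ⟨x, hx, rfl⟩ := Finset.mem_image.mp hz
      rw [memL] at hx
      rw [← D.lam_R x hx]
      exact memV (D.R_mem x hx)
    conv_rhs => rw [hc₀, ← himgq, sum_image hinjq]
    rw [hc₀, hn]
    have : Fact (Nat.Prime 2) := ⟨Nat.prime_two⟩
    exact sum_pow_char_pow 2 n V (fun z => z)
  -- the values `1 + z / c₀` form a multiplicatively closed set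
  set Γ : Finset F := V.image (fun z => 1 + z / c₀) with hΓ
  have hΓcard : Γ.card = q + 1 := by
    rw [hΓ, card_image_of_injective, hVcard]
    intro a b h
    simpa [hc0, div_left_inj' hc0] using h
  refine ⟨c₀⁻¹, inv_ne_zero hc0, by rw [inv_pow, hc0f], fun x hx => ?_⟩
  -- `x = R r`
  obtain ⟨r, hr, rfl⟩ : ∃ r, r + r ^ q = 1 ∧ D.R r = x :=
    ⟨D.R x, D.R_mem x hx, D.R_R x hx⟩
  have hv : D.lam (D.R r) ≠ 0 := D.lam_ne _ hx
  set a : F := D.lam (D.R r) / D.lam (D.R (r + 1)) with ha
  have ha0 : a ≠ 0 := div_ne_zero hv (D.lam_ne _ (D.R_mem _ (mem_shift hn hr one_pow_fix)))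
  have hav : a = 1 + D.lam (D.R r) / c₀ := by
    have h1 := halpha r hr
    rw [← ha] at h1
    field_simp
    linear_combination h1 - CharTwo.add_self_eq_zero (D.lam (D.R r))
  have hg : a ^ (q + 1) = 1 := by
    rw [← hΓcard]
    refine pow_card_of_mul_closed Γ a ha0 ?_ ?_
    · intro y hy hy0
      obtain ⟨z, hz, rfl⟩ := Finset.mem_image.mp hy
      rcases mem_insert.mp hz with rfl | hz
      · simp at hy0
      obtain ⟨t, ht, rfl⟩ := Finset.mem_image.mp hz
      rw [memL] at ht
      have h1 := halpha (D.R t) (D.R_mem t ht)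
      rw [D.R_R t ht] at h1
      have h2 : D.lam t = c₀ := by
        have := congrArg (fun e => e * c₀) hy0
        field_simp at this
        exact (CharTwo.add_eq_zero.mp (by linear_combination this))
      rw [h2] at h1
      have h3 : c₀ / D.lam (D.R (D.R t + 1)) * c₀ = 0 := by linear_combination h1
      simp [hc0, D.lam_ne _ (D.R_mem _ (mem_shift hn (D.R_mem t ht) one_pow_fix))] at h3
    · intro y hy
      obtain ⟨z, hz, rfl⟩ := Finset.mem_image.mp hy
      refine Finset.mem_image.mpr ⟨a * z + D.lam (D.R r), haff r hr z hz, ?_⟩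
      rw [hav]
      field_simp
      ring
  rw [pow_succ, hav] at hg
  have hgq : (1 + D.lam (D.R r) / c₀) ^ q = 1 + D.lam (D.R r) ^ q / c₀ := by
    rw [add_pow_q hn, one_pow, div_pow, hc0f]
  rw [hgq] at hg
  have hvq : D.lam (D.R r) ^ q ≠ 0 := pow_ne_zero _ hv
  rw [inv_pow]
  field_simp at hg ⊢
  linear_combination hg - CharTwo.add_self_eq_zero (D.lam (D.R r) * D.lam (D.R r) ^ q)

/-- The structure map of `U₃(q)` is determined. -/
theorem orbitMap_eq_model (hn : q = 2 ^ n) (hcard : Fintype.card F = q ^ 2) :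
    ∀ r, r + r ^ q = 1 → D.lam r = (r ^ q)⁻¹ ∧ D.R r = r + 1 := by
  intro r hr
  obtain ⟨k, hk0, hkf, hk⟩ := exists_trace D hn hcard r hr
  set A : F := (D.lam r)⁻¹ with hA
  have hAk : A + A ^ q = k := hk r hr
  have hA0 : A ≠ 0 := inv_ne_zero (D.lam_ne r hr)
  -- `lam⁻¹` is a translation on the line
  have hlin : ∀ w, w ≠ 0 → w ^ q = w → (D.lam (r + w))⁻¹ = A + w := by
    intro w hw hwf
    have hx : (r + w) + (r + w) ^ q = 1 := mem_shift hn hr hwf
    set B : F := (D.lam (r + w))⁻¹ with hB
    have hBk : B + B ^ q = k := hk _ hx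
    have hnu : (D.lam r ^ (q + 1)) ^ q = D.lam r ^ (q + 1) := by
      rw [pow_succ (D.lam r), mul_pow, pow_q_q hcard, mul_comm]
    have hz : (D.R r + (w * D.lam r ^ (q + 1))⁻¹) +
        (D.R r + (w * D.lam r ^ (q + 1))⁻¹) ^ q = 1 :=
      mem_shift hn (D.R_mem r hr) (by rw [inv_pow, mul_pow, hwf, hnu])
    have hzk := hk _ hz
    rw [D.relK r w hr hw hwf, mul_inv, mul_inv, ← inv_pow, ← hA, ← hB,
      mul_pow, mul_pow, inv_pow w q, hwf, pow_q_q hcard] at hzk
    field_simp at hzk
    have h1 : k * (A + B + w) = 0 := by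
      linear_combination hzk - A * hBk - B * hAk
        + CharTwo.add_self_eq_zero (A * B + A * k + B * k + w * k)
        - k * (A + B) * (CharTwo.two_eq_zero (R := F))
    rcases mul_eq_zero.mp h1 with h | h
    · exact absurd h hk0
    · linear_combination h - CharTwo.add_self_eq_zero A - CharTwo.add_self_eq_zero w
  -- `R r = r + k`
  have hR : D.R r = r + k := by
    have hx : (r + k) + (r + k) ^ q = 1 := mem_shift hn hr hkf
    refine lam_injective D hn (D.R_mem r hr) hx (inv_injective ?_)
    rw [D.lam_R r hr, hlin k hk0 hkf, ← inv_pow, ← hA]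
    linear_combination hAk - CharTwo.add_self_eq_zero A
  obtain ⟨s, hs, hsf, he1, he2⟩ := D.relE1 r 1 hr one_ne_zero one_pow_fix
  have hs1 : r + s ≠ r := by simp [hs]
  -- the point `P = R r + 1 + 1 = r + k`
  have hP : D.R r + 1 + 1 = r + k := by
    rw [hR]; linear_combination CharTwo.add_self_eq_zero (1 : F)
  rw [hP] at he1 he2
  have hls := hlin s hs hsf
  have hlk := hlin k hk0 hkf
  have hAs : A + s ≠ 0 := by rw [← hls]; exact inv_ne_zero (D.lam_ne _ (mem_shift hn hr hsf))
  have hAk0 : A + k ≠ 0 := by rw [← hlk]; exact inv_ne_zero (D.lam_ne _ (mem_shift hn hr hkf))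
  have hlam : D.lam r = A⁻¹ := by rw [hA, inv_inv]
  have hlams : D.lam (r + s) = (A + s)⁻¹ := by rw [← hls, inv_inv]
  have hlamk : D.lam (r + k) = (A + k)⁻¹ := by rw [← hlk, inv_inv]
  rw [hlams, hlamk, hlam, one_mul] at he1
  field_simp at he1
  have he1' : A * (s + 1) + s * (k + 1) = 0 := by
    linear_combination -he1 + CharTwo.add_self_eq_zero (A * A + A * k + A * s + A + s * k + s)
      - (A + A * s + A * k + A * A + s + s * k) * (CharTwo.two_eq_zero (R := F))
  have hs_one : s = 1 := by
    by_contra hne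
    have hs' : s + 1 ≠ 0 := fun h => hne (CharTwo.add_eq_zero.mp h)
    have hAf : A ^ q = A := by
      have hAe : A = s * (k + 1) / (s + 1) := by
        field_simp
        linear_combination he1' - CharTwo.add_self_eq_zero (s * (k + 1))
      rw [hAe, div_pow, mul_pow, add_pow_q hn, add_pow_q hn, hsf, hkf, one_pow]
    rw [hAf, CharTwo.add_self_eq_zero] at hAk
    exact hk0 hAk.symm
  subst hs_one
  have hk1 : k = 1 := by
    refine CharTwo.add_eq_zero.mp ?_
    linear_combination he1' - CharTwo.add_self_eq_zero A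
  subst hk1
  refine ⟨?_, hR⟩
  -- the second coordinate fixes the translation
  have hr1 : (r + 1) + (r + 1) ^ q = 1 := mem_shift hn hr hkf
  have hR1 : D.R (r + 1) = r := by rw [← hR, D.R_R r hr]
  rw [hR1, hlams, hlam, hR] at he2
  have hAq : A ^ q = A + 1 := by linear_combination hAk - CharTwo.add_self_eq_zero A
  have hAq1 : (A + 1) ^ q = A := by
    rw [add_pow_q hn, hAq, one_pow]; linear_combination CharTwo.add_self_eq_zero (1 : F)
  simp only [pow_succ, inv_pow, hAq, hAq1, one_mul, mul_one, pow_zero] at he2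
  field_simp at he2
  have hAr : A = r + 1 := by
    refine CharTwo.add_eq_zero.mp ?_
    linear_combination he2 + CharTwo.add_self_eq_zero (A * A * r + A * A + A * r + A + r + 1)
      + (A - A * r - A * A * r) * (CharTwo.two_eq_zero (R := F))
  have hrq : r ^ q = r + 1 := by linear_combination hr - CharTwo.add_self_eq_zero r
  rw [hrq, ← hAr, hA, inv_inv]

end Quad

end Cfsg.Agent.Lib.RankOneU3
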