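import Cfsg.Agent.Lib.RankOneU3.Scal
import Cfsg.Agent.Lib.RankOneU3.Pocket
import Cfsg.Agent.Lib.RankOneU3.StructureMap
import Cfsg.Agent.Lib.PSU3Index.Field

/-!
# No group has coordinates of the type of the pocket `q = 8`
-/

set_option autoImplicit false
set_option linter.unusedSectionVars false

namespace Cfsg.Agent.Lib.RankOneU3

open MulAction
open Cfsg.Agent.RankOne (twoStab invSub invK RInvol)
open Cfsg.Agent.U3Rec (gq gq_ne cq)
open Cfsg.Agent.PSU3Index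

variable {G Ω : Type*} [Group G] [MulAction G Ω] {a : Ω} {t : G} {Q : Subgroup G}
variable [Finite G] {hS : Cfsg.IsRankOneSetup G Ω a t Q}
  {h2 : ∃ x y : G, x ≠ 1 ∧ y ≠ 1 ∧ x ≠ y ∧ x * x = 1 ∧ y * y = 1 ∧ x * y = y * x}
variable {F : Type*} [Field F] [Fintype F] [CharP F 2]

/-- Coordinates with cubic squares do not occur. -/
theorem Scal.pocket_false (C : Ctx F 8) {κ c : Q → F} {ν : G → F} (hr : RInvol hS h2)
    (K : Scal hS h2 8 3 κ c ν) (hcr : ∀ x, c x ^ 8 = c x) (hκs : Function.Surjective κ)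
    (Sq : F → F) (P : F → F → F) (hinv : ∀ x, c x⁻¹ = c x + Sq (κ x))
    (hSqr : ∀ y, Sq y ^ 8 = Sq y) (hPr : ∀ x y, P x y ^ 8 = P x y) (hSq0 : ∀ y, Sq y = 0 → y = 0)
    (hlin : ∀ k l x y : F, k ^ 8 = k → l ^ 8 = l → Sq (k * x + l * y)
      = k ^ 3 * Sq x + k ^ 2 * l * P x y + k * l ^ 2 * P y x + l ^ 3 * Sq y) : False := by
  classical
  set L := Hermitian.fixed C.σ
  have hmem : ∀ {x : F}, x ∈ L ↔ x ^ 8 = x := fun {x} => by
    rw [← C.hσ]; exact Iff.rfl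
  have hL : ∀ x : L, (x : F) ^ 8 = x := fun x => hmem.1 x.2
  have : Fintype L := Fintype.ofFinite L
  have : CharP L 2 := CharTwo.of_one_ne_zero_of_two_eq_zero one_ne_zero
    (Subtype.ext (CharTwo.two_eq_zero (R := F)))
  have hcardL : Fintype.card L = 8 := by rw [← Nat.card_eq_fintype_card]; exact C.hq
  have h15 : ∀ {u : F}, u ^ 8 = u → u ^ 15 = u := fun {u} hu => by
    calc u ^ 15 = u ^ 8 * u ^ 7 := by ring
      _ = u * u ^ 7 := by rw [hu]
      _ = u ^ 8 := by ring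
      _ = u := hu
  have h10 : ∀ {u : F}, u ^ 8 = u → (u ^ 5) ^ 3 = u := fun {u} hu => by
    rw [← pow_mul]; exact h15 hu
  have hroot : ∀ r : F, r ^ 8 = r → r ≠ 0 → ∃ l, l ^ 8 = l ∧ l ≠ 0 ∧ l ^ 3 = r := fun r hr hr0 =>
    ⟨r ^ 5, by rw [← pow_mul, mul_comm, pow_mul, hr], pow_ne_zero _ hr0, h10 hr⟩
  have hinj : ∀ u v : F, u ^ 8 = u → v ^ 8 = v → u ^ 3 = v ^ 3 → u = v := fun u v hu hv h => by
    rw [← h15 hu, ← h15 hv, show (15 : ℕ) = 3 * 5 from rfl, pow_mul, pow_mul, h]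
  obtain ⟨γ, hγ0, hγf, hγ⟩ := K.exists_gamma hr hroot
  set M : F := (γ⁻¹) ^ 4 with hM
  have hMf : M ^ 8 = M := by rw [hM, ← pow_mul, mul_comm, pow_mul, inv_pow γ 8, hγf]
  have hM0 : M ≠ 0 := pow_ne_zero _ (inv_ne_zero hγ0)
  have hMγ : M ^ 2 * γ = 1 := by
    rw [hM, ← pow_mul, show (4 : ℕ) * 2 = 8 from rfl, inv_pow, hγf, inv_mul_cancel₀ hγ0]
  obtain ⟨c', hc'⟩ : ∃ c' : Q → F, ∀ x, c' x = M * c x := ⟨_, fun _ => rfl⟩
  have K' : Scal hS h2 8 3 κ c' ν :=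
    { add := K.add
      zero_iff := K.zero_iff
      cen := fun x z hz => by simp only [hc']; rw [← mul_add, ← K.cen x z hz]
      cen_real := fun z hz => by simp only [hc']; rw [mul_pow, hMf, K.cen_real z hz]
      cen_inj := fun z hz h => K.cen_inj z hz (by simpa [hc', hM0] using h)
      cen_onto := fun s hs => by
        obtain ⟨z, hz, hcz⟩ := K.cen_onto (s / M) (by rw [div_pow, hs, hMf])
        exact ⟨z, hz, by rw [hc', hcz]; field_simp⟩
      nu_ne := K.nu_ne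
      nu_real := K.nu_real
      nu_inv := K.nu_inv
      nu_onto := K.nu_onto
      act := fun k hk hkD x => ⟨(K.act k hk hkD x).1, by rw [hc', hc', (K.act k hk hkD x).2]; ring⟩ }
  have hnorm : ∀ z : Q, (z : G) ∈ invSub hS h2 → z ≠ 1 → c' (gq hS z) = (c' z)⁻¹ := by
    intro z hz hz1
    rw [hc', hc', hγ z hz hz1]
    have hz0 := K.c_ne hz hz1
    field_simp
    linear_combination hMγ
  have hc'r : ∀ x, c' x ^ 8 = c' x := fun x => by rw [hc', mul_pow, hMf, hcr]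
  have hinv' : ∀ x, c' x⁻¹ = c' x + M * Sq (κ x) := fun x => by rw [hc', hc', hinv, mul_add]
  -- a point with given coordinates
  have hsurj : ∀ (y : F) (b : L), ∃ x, κ x = y ∧ c' x = b := by
    intro y b
    obtain ⟨x, rfl⟩ := hκs y
    obtain ⟨z, hz, hcz⟩ := K'.cen_onto ((b : F) + c' x) (by rw [add_pow_q (q := 8) (n := 3) (by norm_num), hL, hc'r])
    exact ⟨x * z, K'.kap_mul_cen x hz, by
      rw [K'.cen x z hz, hcz]; linear_combination CharTwo.add_self_eq_zero (c' x)⟩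
  choose pt hptκ hptc using hsurj
  have hne : ∀ y b, y ≠ 0 → κ (pt y b) ≠ 0 := fun y b hy => by rw [hptκ]; exact hy
  let SqL : F → L := fun y => ⟨M * Sq y, hmem.2 (by rw [mul_pow, hMf, hSqr])⟩
  let TA : F → L → F := fun y b => κ (tq hS (pt y b))
  let TB : F → L → L := fun y b => ⟨c' (tq hS (pt y b)), hmem.2 (hc'r _)⟩
  have hT : ∀ (x : Q) (y : F) (b : L), κ x = y → c' x = b →
      κ (tq hS x) = TA y b ∧ c' (tq hS x) = (TB y b : F) := by
    intro x y b hy hb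
    have : pt y b = x := K'.ext ((hptκ y b).trans hy.symm) ((hptc y b).trans hb.symm)
    simp only [TA, TB, this, and_self]
  have hadd_cen : ∀ (x : Q) (y : F) (b s : L) (z : Q), κ x = y → c' x = b →
      (z : G) ∈ invSub hS h2 → c' z = s → κ (x * z) = y ∧ c' (x * z) = ((b + s : L) : F) :=
    fun x y b s z hy hb hz hs => ⟨(K'.kap_mul_cen x hz).trans hy, by rw [K'.cen x z hz, hb, hs]; rfl⟩
  have hfix : ∀ {u : F} (j : ℕ), u ^ 8 = u → (u ^ j) ^ 8 = u ^ j := fun {u} j hu => by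
    rw [← pow_mul, mul_comm, pow_mul, hu]
  have hrelK : ∀ (y : F) (b t : L), y ≠ 0 → t ≠ 0 →
      TA (TA y b) (TB y b + t) = TA y (b + t⁻¹) / ((t : F) ^ 2) ^ 5 ∧
        (TB (TA y b) (TB y b + t) : F) = ((TB y (b + t⁻¹) : F) - t) / (t : F) ^ 2 := by
    intro y b t hy ht
    have ht0 : (t : F) ≠ 0 := fun h => ht (Subtype.ext h)
    obtain ⟨z, hz, hcz⟩ := K'.cen_onto t (hL t)
    obtain ⟨z', hz', hcz'⟩ := K'.cen_onto ((t⁻¹ : L) : F) (hL t⁻¹)
    obtain ⟨h1, h3⟩ := K'.relK hr hnorm hinj (hne y b hy) ht0 (hfix 5 (hfix 2 (hL t)))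
      (h10 (hfix 2 (hL t))) hz hcz hz' hcz'
    obtain ⟨p1, p2⟩ := hadd_cen _ _ (TB y b) t z (rfl : _ = TA y b) (rfl : _ = ((TB y b : L) : F)) hz hcz
    obtain ⟨r1, r2⟩ := hadd_cen _ _ b t⁻¹ z' (hptκ y b) (hptc y b) hz' hcz'
    rw [(hT _ _ _ p1 p2).1, (hT _ _ _ r1 r2).1] at h1
    rw [(hT _ _ _ p1 p2).2, (hT _ _ _ r1 r2).2] at h3
    exact ⟨h1, h3⟩
  have hW : ∀ (y : F) (b s : L) (z' : Q), (z' : G) ∈ invSub hS h2 → c' z' = s →
      κ (tq hS ((tq hS (pt y b))⁻¹ * z')) = TA (TA y b) (TB y b + SqL (TA y b) + s) := by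
    intro y b s z' hz' hcz'
    obtain ⟨p1, p2⟩ := hadd_cen (tq hS (pt y b))⁻¹ (TA y b) (TB y b + SqL (TA y b)) s z'
      (by rw [K'.kap_inv, CharTwo.neg_eq]) (hinv' _) hz' hcz'
    exact (hT _ _ _ p1 p2).1
  have hact : ∀ (y : F) (b k : L), y ≠ 0 → k ≠ 0 →
      TA ((k : F) * y) (k ^ 3 * b) = TA y b / k ∧ (TB ((k : F) * y) (k ^ 3 * b) : F) = TB y b / (k : F) ^ 3 := by
    intro y b k hy hk
    obtain ⟨g, hg, hgk⟩ := K'.nu_onto k (hL k) (fun h => hk (Subtype.ext h))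
    have hgD := RankOne.invK_le hS hg
    obtain ⟨h1, h3⟩ := K'.act g hg hgD (pt y b)
    rw [hptκ, hgk] at h1
    rw [hptc, hgk] at h3
    obtain ⟨o1, o2⟩ := hT _ _ (k ^ 3 * b) h1 h3
    obtain ⟨u1, u2⟩ := K'.tq_act hg hgD (K'.ne_one (hne y b hy))
    rw [← o1, ← o2, u1, u2, hgk]
    exact ⟨rfl, rfl⟩
  have hs5 : ∀ (s : L) (X : F), X / ((s : F) ^ 2) ^ 5 = ((s ^ 2)⁻¹) ^ 5 • X := fun s X => by
    rw [Subfield.smul_def, smul_eq_mul, div_eq_inv_mul]
    push_cast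
    rw [inv_pow]
  let D : PocketData L F :=
    { Sq := SqL
      P := fun x y => ⟨M * P x y, hmem.2 (by rw [mul_pow, hMf, hPr])⟩
      A := TA
      B := TB
      Sq_eq_zero := fun x h => hSq0 x (by
        have h' : M * Sq x = 0 := congrArg Subtype.val h
        exact (mul_eq_zero.1 h').resolve_left hM0)
      Sq_lin := fun k l x y => Subtype.ext (by
        show M * Sq ((k : F) * x + (l : F) * y) = _
        rw [hlin k l x y (hL k) (hL l)]
        push_cast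
        show _ = (k : F) ^ 3 * (M * Sq x) + _ + _ + (l : F) ^ 3 * (M * Sq y)
        ring)
      A_ne := fun y b hy h =>
        tq_notMem hS h2 hr (K'.notMem (hne y b hy)) ((K'.zero_iff _).1 h)
      scalA := fun y b k hy hk => by
        rw [Subfield.smul_def, smul_eq_mul, (hact y b k hy hk).1, Subfield.smul_def, smul_eq_mul]
        push_cast
        rw [div_eq_inv_mul]
      scalB := fun y b k hy hk => Subtype.ext (by
        rw [Subfield.smul_def, smul_eq_mul, (hact y b k hy hk).2]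
        push_cast
        rfl)
      invA := fun y b hy => by
        rw [← (hT _ _ _ (rfl : _ = TA y b) (rfl : _ = ((TB y b : L) : F))).1,
          tq_tq hS h2 (K'.ne_one (hne y b hy)), hptκ]
      invB := fun y b hy => Subtype.ext (by
        rw [← (hT _ _ _ (rfl : _ = TA y b) (rfl : _ = ((TB y b : L) : F))).2,
          tq_tq hS h2 (K'.ne_one (hne y b hy)), hptc])
      relKA := fun y b t hy ht => by rw [(hrelK y b t hy ht).1, hs5]
      relKB := fun y b t hy ht => Subtype.ext (by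
        have ht0 : (t : F) ≠ 0 := fun h => ht (Subtype.ext h)
        rw [(hrelK y b t hy ht).2]
        push_cast
        field_simp
        linear_combination -(t : F) * (CharTwo.two_eq_zero (R := F)))
      relBlock := fun y b s hy hs => by
        obtain ⟨σ, l, hσ, hσf, hlf, hl, zσ, z', u, hzσ, hcσ, hz', hcz', he, hu, -⟩ :=
          (K'.relBlock hr hnorm hinj (hne y b hy) hroot).1 s (hL s) (fun h => hs (Subtype.ext h))
        have hls : l = ((s : F) ^ 2) ^ 5 :=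
          hinj _ _ hlf (hfix 5 (hfix 2 (hL s))) (hl.trans (h10 (hfix 2 (hL s))).symm)
        rw [hW y b s⁻¹ z' hz' (by rw [hcz']; rfl), hls, hs5] at hu
        refine ⟨⟨σ, hmem.2 hσf⟩, fun h => hσ (congrArg Subtype.val h), ?_⟩
        obtain ⟨p1, p2⟩ := hadd_cen _ _ b ⟨σ, hmem.2 hσf⟩ zσ (hptκ y b) (hptc y b) hzσ hcσ
        rw [← (hT _ _ _ p1 p2).1, he, K'.add, hu]
        exact add_comm _ _
      relBlock' := fun y b σ hy hσ => by
        obtain ⟨zσ, hzσ, hcσ⟩ := K'.cen_onto σ (hL σ)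
        obtain ⟨s, l, hs, hsf, hlf, hl, z', u, hz', hcz', he, hu⟩ :=
          (K'.relBlock hr hnorm hinj (hne y b hy) hroot).2 zσ hzσ
            (fun h => hσ (Subtype.ext (by rw [← hcσ, h, K'.c_one]; rfl)))
        obtain ⟨s, rfl⟩ : ∃ s' : L, (s' : F) = s := ⟨⟨s, hmem.2 hsf⟩, rfl⟩
        have hls : l = ((s : F) ^ 2) ^ 5 :=
          hinj _ _ hlf (hfix 5 (hfix 2 (hL s))) (hl.trans (h10 (hfix 2 (hL s))).symm)
        rw [hW y b s⁻¹ z' hz' (by rw [hcz']; rfl), hls, hs5] at hu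
        refine ⟨s, fun h => hs (by rw [h]; rfl), ?_⟩
        obtain ⟨p1, p2⟩ := hadd_cen _ _ b σ zσ (hptκ y b) (hptc y b) hzσ hcσ
        rw [← (hT _ _ _ p1 p2).1, he, K'.add, hu]
        exact add_comm _ _ }
  exact PocketData.not_exists hcardL D (one_ne_zero (α := F))

end Cfsg.Agent.Lib.RankOneU3
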