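import Cfsg.Agent.Lib.RankOneU3.Squares
import Cfsg.Agent.Lib.RankOneU3.Bridge
import Cfsg.Agent.Lib.RankOneU3.PocketBridge
import Cfsg.Agent.Lib.RankOneW.Regular
import Cfsg.Agent.Lib.U3Rec.Conclusion

/-!
# The unitary case of a rank one group

In the unitary case `⟨Q, t⟩` is `PSU₃(q)`.
-/

set_option autoImplicit false
set_option linter.unusedSectionVars false
set_option linter.style.haveILetI false

namespace Cfsg.Agent.Lib.RankOneU3

open MulAction
open Cfsg.Agent.RankOne (twoStab invSub invK wSub qSize IsUnitary)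
open Cfsg.Agent.U3Rec (cq uMk cA cB cA_mk cB_mk exists_mk coord_mul coord_ext coord_one iso_over)
open Cfsg.Agent.PSU3Index

universe u

variable {G : Type u} {Ω : Type*} [Group G] [MulAction G Ω] {a : Ω} {t : G} {Q : Subgroup G}
variable [Finite G] (hS : Cfsg.IsRankOneSetup G Ω a t Q)
  (h2 : ∃ x y : G, x ≠ 1 ∧ y ≠ 1 ∧ x ≠ y ∧ x * x = 1 ∧ y * y = 1 ∧ x * y = y * x)
variable [FaithfulSMul G Ω] (hU : IsUnitary a t Q) {F : Type} [Field F] [Fintype F] [CharP F 2]
  (C : Ctx F (qSize a t))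
variable {κ : Q → F} {g : G → F} {ζ : Q → F}

include hS h2

omit [FaithfulSMul G Ω] in
theorem kap_inv {q : ℕ} (hκ : QuotCoord hS h2 q κ g) (x : Q) : κ x⁻¹ = κ x := by
  have h1 : κ 1 = 0 := (hκ.zero_iff 1).2 (one_mem _)
  have h := hκ.add x x⁻¹
  rw [mul_inv_cancel, h1] at h
  exact (CharTwo.add_eq_zero.1 h.symm).symm

omit [FaithfulSMul G Ω] in
theorem sq_exists {q : ℕ} (hκ : QuotCoord hS h2 q κ g) (hsq : ∀ x : Q, ((x * x : Q) : G) ∈ invSub hS h2)
    {z : Q} (hz : (z : G) ∈ invSub hS h2) (hz1 : z ≠ 1) : ∃ x, x * x = z := by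
  obtain ⟨x, hx⟩ := hκ.surj 1
  have hxx : x * x ≠ 1 := fun h => one_ne_zero (α := F) (by
    rw [← hx]
    exact (hκ.zero_iff x).2 (RankOne.mem_invSub_of_sq hS h2 x.2 (congrArg Subtype.val h)))
  have hxi : ((x * x : Q) : G) ∈ Cfsg.involutionsIn (stabilizer G a : Set G) :=
    (hsq x).resolve_left fun h => hxx (Subtype.ext h)
  have hzi : (z : G) ∈ Cfsg.involutionsIn (stabilizer G a : Set G) :=
    hz.resolve_left fun h => hz1 (Subtype.ext h)
  obtain ⟨k, hk, hkz⟩ := RankOne.inverted_transitive hS hxi hzi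
  refine ⟨cq hS (inv_mem hk.1) x, Subtype.ext ?_⟩
  rw [← hkz]
  show k⁻¹ * (x : G) * k⁻¹⁻¹ * (k⁻¹ * (x : G) * k⁻¹⁻¹) = k⁻¹ * ((x : G) * x) * k
  group

include hU C

theorem sq_mem (x : Q) : ((x * x : Q) : G) ∈ invSub hS h2 :=
  RankOne.cube_sq_mem hS h2 hU.toIsCube x.2

/-- The scalars on the involutions follow from those on the factor group. -/
theorem zeta_act (hκ : QuotCoord hS h2 (qSize a t) κ g) (hζ : InvCoord hS h2 (qSize a t) ζ) {m : ℕ}
    {S : F → F} (hS' : ∀ x, ζ (x * x) = S (κ x))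
    (hm : ∀ r y, r ^ qSize a t = r → S (r * y) = r ^ m * S y)
    {k : G} (hk : k ∈ invK a t) (hkD : k ∈ twoStab a t) {z : Q} (hz : (z : G) ∈ invSub hS h2) :
    ζ (cq hS hkD z) = g k ^ m * ζ z := by
  by_cases hz1 : z = 1
  · have h1 : ζ 1 = 0 := by
      have h := hζ.mul 1 1 (one_mem _) (one_mem _)
      rw [one_mul] at h
      exact left_eq_add.1 h
    subst hz1
    rw [show cq hS hkD 1 = 1 from Subtype.ext (by simp [cq]), h1, mul_zero]
  obtain ⟨x, rfl⟩ := sq_exists hS h2 hκ (sq_mem hS h2 hU C) hz hz1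
  rw [cq_mul hS hkD, hS', hS', hκ.act k (Or.inl hk) hkD, hm _ _ (hκ.nu_real k hk)]

set_option maxHeartbeats 800000 in
/-- Coordinates of type `U(q)`. -/
theorem exists_scal_norm (hκ : QuotCoord hS h2 (qSize a t) κ g) (hζ : InvCoord hS h2 (qSize a t) ζ)
    (hN : ∀ x, ζ (x * x) = κ x ^ (qSize a t + 1)) :
    ∃ e : ↥Q ≃* ↥(rad C), Scal hS h2 (qSize a t) 2 (fun x => cA C (e x)) (fun x => cB C (e x)) g := by
  classical
  obtain ⟨n, hn2, hn⟩ := RankOne.qSize_pow hS h2
  obtain ⟨hcQ, hcA, hcK, hcF⟩ := card_data hS h2 hU C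
  have hact : ∀ k ∈ invK a t, ∀ (hkD : k ∈ twoStab a t) (z : Q), (z : G) ∈ invSub hS h2 →
      ζ (cq hS hkD z) = g k ^ 2 * ζ z := fun k hk hkD z hz =>
    zeta_act hS h2 hU C hκ hζ (S := fun y => y ^ ((qSize a t) + 1)) hN (fun r y hr => by
      show (r * y) ^ ((qSize a t) + 1) = r ^ 2 * y ^ ((qSize a t) + 1)
      rw [mul_pow, pow_succ r, hr]; ring) hk hkD hz
  have h2F : (2 : F) = 0 := CharTwo.two_eq_zero
  have hz0 : ∀ {r : F}, r ^ (qSize a t) = r → r + C.σ r + 0 * C.σ (0 : F) = 0 := fun {r} hr => by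
    rw [C.hσ, hr]; linear_combination r * h2F
  have hκ1 : κ 1 = 0 := (hκ.zero_iff 1).2 (one_mem _)
  let π : Q →* Multiplicative F :=
    { toFun := fun x => Multiplicative.ofAdd (κ x)
      map_one' := by rw [hκ1]; rfl
      map_mul' := fun x y => by rw [hκ.add]; rfl }
  let ρ : rad C →* Multiplicative F :=
    { toFun := fun u => Multiplicative.ofAdd (cA C u)
      map_one' := by rw [(coord_one C).1]; rfl
      map_mul' := fun u v => by rw [(coord_mul C u v).1]; rfl }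
  set A : Subgroup Q := (invSub hS h2).subgroupOf Q
  have hAm : ∀ {x : Q}, x ∈ A ↔ (x : G) ∈ invSub hS h2 := Subgroup.mem_subgroupOf
  let iR : A →* rad C :=
    { toFun := fun z => uMk C (hz0 (hζ.real z (hAm.1 z.2)))
      map_one' := coord_ext C (by rw [cA_mk, (coord_one C).1]) (by
        rw [cB_mk, (coord_one C).2]
        have h := hζ.mul 1 1 (one_mem _) (one_mem _)
        rw [one_mul] at h
        exact left_eq_add.1 h)
      map_mul' := fun x z => coord_ext C (by rw [cA_mk, (coord_mul C _ _).1, cA_mk, cA_mk, add_zero]) (by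
        rw [cB_mk, (coord_mul C _ _).2, cB_mk, cB_mk, cA_mk, cA_mk, mul_zero, sub_zero]
        exact hζ.mul x z (hAm.1 x.2) (hAm.1 z.2)) }
  have hcB : ∀ u : rad C, cA C u = 0 → cB C u ^ (qSize a t) = cB C u := fun u hu => by
    obtain ⟨h, -⟩ := exists_mk C u
    rw [hu, zero_mul, add_zero, C.hσ] at h
    linear_combination h - cB C u * h2F
  have hker : ρ.ker = iR.range := by
    refine le_antisymm (fun u hu => ?_) ?_
    · have hu0 : cA C u = 0 := congrArg Multiplicative.toAdd (MonoidHom.mem_ker.1 hu)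
      obtain ⟨z, hz, he⟩ := hζ.onto _ (hcB u hu0)
      exact ⟨⟨z, hAm.2 hz⟩, coord_ext C ((cA_mk C _).trans hu0.symm) ((cB_mk C _).trans he)⟩
    · rintro _ ⟨z, rfl⟩
      exact congrArg Multiplicative.ofAdd (cA_mk C _)
  have hAc : A ≤ Subgroup.center Q := fun z hz => Subgroup.mem_center_iff.2 fun y =>
    (z_comm hS h2 (hAm.1 hz) y).symm
  obtain ⟨e0, he0, he0A⟩ := iso_over π ρ A.subtype iR
    (fun y => ⟨(hκ.surj y.toAdd).choose, congrArg Multiplicative.ofAdd (hκ.surj y.toAdd).choose_spec⟩)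
    (fun y => by
      obtain ⟨b, hb⟩ := Hermitian.exists_trace C.hne C.hinv (x := -(y.toAdd * C.σ y.toAdd))
        (by rw [map_neg, map_mul, C.hinv, mul_comm])
      exact ⟨uMk C (a := y.toAdd) (b := b) (by linear_combination hb),
        congrArg Multiplicative.ofAdd (cA_mk C _)⟩)
    Subtype.val_injective
    (fun x z h => Subtype.ext (by
      have h1 : ζ x = ζ z := by
        have := congrArg (cB C) h
        simpa [iR, cB_mk] using this
      have h3 : ζ ((x : Q) * z) = 0 := by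
        rw [hζ.mul x z (hAm.1 x.2) (hAm.1 z.2), h1, CharTwo.add_self_eq_zero]
      have := hζ.inj _ (mul_mem (hAm.1 x.2) (hAm.1 z.2)) h3
      rw [eq_inv_of_mul_eq_one_left this, z_inv hS h2 (hAm.1 z.2)]))
    (by
      ext x
      rw [Subgroup.range_subtype, MonoidHom.mem_ker, hAm, ← hκ.zero_iff x]
      exact ⟨fun h => congrArg Multiplicative.toAdd h, fun h => congrArg Multiplicative.ofAdd h⟩)
    hker (by rw [Subgroup.range_subtype]; exact hAc)
    (by
      rintro _ ⟨z, rfl⟩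
      refine Subgroup.mem_center_iff.2 fun u => coord_ext C ?_ ?_
      · rw [(coord_mul C _ _).1, (coord_mul C _ _).1, add_comm]
      · have h0 : cA C (iR z) = 0 := cA_mk C _
        rw [(coord_mul C _ _).2, (coord_mul C _ _).2, h0, map_zero, zero_mul, mul_zero]
        ring)
    (fun p r h => by
      have hpr : κ p = cA C r := congrArg Multiplicative.toAdd h
      refine ⟨⟨p * p, hAm.2 (sq_mem hS h2 hU C p)⟩, rfl, coord_ext C ?_ ?_⟩
      · rw [(coord_mul C r r).1, show cA C (iR ⟨p * p, _⟩) = 0 from cA_mk C _]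
        linear_combination cA C r * h2F
      · rw [(coord_mul C r r).2, show cB C (iR ⟨p * p, _⟩) = ζ (p * p) from cB_mk C _, hN, hpr, pow_succ, C.hσ]
        linear_combination (cB C r - cA C r ^ (qSize a t) * cA C r) * h2F)
  have hA0 : ∀ x, cA C (e0 x) = κ x := fun x => congrArg Multiplicative.toAdd (he0 x)
  have hBA : ∀ z : Q, (z : G) ∈ invSub hS h2 → cB C (e0 z) = ζ z := fun z hz => by
    rw [show e0 z = iR ⟨z, hAm.2 hz⟩ from he0A ⟨z, hAm.2 hz⟩]
    exact cB_mk C _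
  letI := Fintype.ofFinite (invK a t)
  have hD : ∀ d : invK a t, (d : G) ∈ twoStab a t := fun d => RankOne.invK_le hS d.2
  let nn : invK a t → F := fun d => g d ^ 2
  have hnn : ∀ d, nn d ≠ 0 := fun d => pow_ne_zero _ (hκ.nu_ne d d.2)
  let δ : invK a t → Q → F := fun d x => cB C (e0 (cq hS (hD d) x)) / nn d + cB C (e0 x)
  have hgσ : ∀ d : invK a t, C.σ (g d) = g d := fun d => by rw [C.hσ]; exact hκ.nu_real d d.2
  have hgm : ∀ d c : invK a t, g (d * c : invK a t) = g d * g c := fun d c => by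
    obtain ⟨x, hx⟩ := hκ.surj 1
    have h := hκ.act _ (Or.inl (d * c).2) (hD (d * c)) x
    rw [show cq hS (hD (d * c)) x = cq hS (hD d) (cq hS (hD c) x) from Subtype.ext (by simp [cq, mul_assoc]),
      hκ.act _ (Or.inl d.2) (hD d), hκ.act _ (Or.inl c.2) (hD c), hx, mul_one, mul_one] at h
    exact h.symm
  have hκd : ∀ (d : invK a t) x, κ (cq hS (hD d) x) = g d * κ x := fun d x =>
    hκ.act _ (Or.inl d.2) (hD d) x
  have hδf : ∀ d x, C.σ (δ d x) = δ d x := fun d x => by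
    obtain ⟨h1, -⟩ := exists_mk C (e0 (cq hS (hD d) x))
    obtain ⟨h2', -⟩ := exists_mk C (e0 x)
    rw [hA0, hκd] at h1
    rw [hA0] at h2'
    show C.σ (_ / _ + _) = _ / _ + _
    rw [map_add, map_div₀, map_pow, hgσ]
    have hd := hκ.nu_ne d d.2
    rw [map_mul, hgσ] at h1
    simp only [nn]
    field_simp
    linear_combination h1 + g d ^ 2 * h2' - (cB C (e0 (cq hS (hD d) x)) + g d ^ 2 * cB C (e0 x)
      + g d ^ 2 * κ x * C.σ (κ x)) * h2F
  have hδm : ∀ d x y, δ d (x * y) = δ d x + δ d y := fun d x y => by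
    show _ / _ + _ = _ / _ + _ + (_ / _ + _)
    rw [cq_mul hS, map_mul, map_mul, (coord_mul C _ _).2, (coord_mul C _ _).2, hA0, hA0, hA0, hA0, hκd, hκd,
      map_mul, hgσ]
    have hd := hκ.nu_ne d d.2
    simp only [nn]
    field_simp
    linear_combination -(g d ^ 2 * C.σ (κ x) * κ y) * h2F
  let S : Q → F := fun x => ∑ d, δ d x
  have hSf : ∀ x, C.σ (S x) = S x := fun x => by
    show C.σ (∑ d, δ d x) = _
    rw [map_sum]; exact Finset.sum_congr rfl fun d _ => hδf d x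
  have hE : ∀ x, cB C (e0 x) + S x + C.σ (cB C (e0 x) + S x) + κ x * C.σ (κ x) = 0 := fun x => by
    obtain ⟨h, -⟩ := exists_mk C (e0 x)
    rw [hA0] at h
    rw [map_add, hSf]
    linear_combination h + S x * h2F
  let E : Q →* rad C := MonoidHom.mk' (fun x => uMk C (hE x)) fun x y => coord_ext C
    (by rw [cA_mk, (coord_mul C _ _).1, cA_mk, cA_mk, hκ.add])
    (by
      rw [cB_mk, (coord_mul C _ _).2, cB_mk, cB_mk, cA_mk, cA_mk, map_mul, (coord_mul C _ _).2, hA0, hA0,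
        show S (x * y) = S x + S y by
          show ∑ d, δ d (x * y) = ∑ d, δ d x + ∑ d, δ d y
          rw [← Finset.sum_add_distrib]; exact Finset.sum_congr rfl fun d _ => hδm d x y]
      ring)
  have hEA : ∀ x, cA C (E x) = κ x := fun x => cA_mk C _
  have hEB : ∀ x, cB C (E x) = cB C (e0 x) + S x := fun x => cB_mk C _
  have hEz : ∀ z : Q, (z : G) ∈ invSub hS h2 → cB C (E z) = ζ z := fun z hz => by
    rw [hEB, hBA z hz, show S z = 0 from Finset.sum_eq_zero fun d _ => by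
      show _ / _ + _ = _
      rw [hBA _ (RankOne.conj_mem_invSub hS h2 (hD d) hz), hBA z hz, hact d d.2 (hD d) z hz,
        mul_div_cancel_left₀ _ (hnn d), CharTwo.add_self_eq_zero], add_zero]
  have hEinj : Function.Injective E := (injective_iff_map_eq_one E).2 fun x hx => by
    have hxA : (x : G) ∈ invSub hS h2 := (hκ.zero_iff x).1 (by rw [← hEA, hx]; exact (coord_one C).1)
    refine hζ.inj x hxA ?_
    rw [← hEz x hxA, hx]
    exact (coord_one C).2
  have hodd : (Fintype.card (invK a t) : F) = 1 := by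
    have h1 : ((Nat.card (invK a t) + 1 : ℕ) : F) = 0 := by
      rw [hcK, hn, Nat.cast_pow, Nat.cast_ofNat, h2F, zero_pow (by omega)]
    rw [Nat.card_eq_fintype_card, Nat.cast_add, Nat.cast_one] at h1
    linear_combination h1 - h2F
  refine ⟨MulEquiv.ofBijective E ((Nat.bijective_iff_injective_and_card _).2
    ⟨hEinj, by rw [hcQ, card_rad]⟩), ⟨fun x y => ?_, fun x => ?_, fun x z hz => ?_, fun z hz => ?_,
      fun z hz h => ?_, fun s hs => ?_, hκ.nu_ne, hκ.nu_real, hκ.nu_inv, hκ.nu_onto, fun k hk hkD x => ?_⟩⟩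
  · show cA C (E (x * y)) = cA C (E x) + cA C (E y)
    rw [hEA, hEA, hEA, hκ.add]
  · show cA C (E x) = 0 ↔ _
    rw [hEA]; exact hκ.zero_iff x
  · show cB C (E (x * z)) = cB C (E x) + cB C (E z)
    rw [map_mul, (coord_mul C _ _).2, show cA C (E z) = 0 by rw [hEA]; exact (hκ.zero_iff z).2 hz, mul_zero,
      sub_zero]
  · show cB C (E z) ^ (qSize a t) = cB C (E z)
    rw [hEz z hz]; exact hζ.real z hz
  · exact hζ.inj z hz (by rw [← hEz z hz]; exact h)
  · obtain ⟨z, hz, hzs⟩ := hζ.onto s hs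
    exact ⟨z, hz, by show cB C (E z) = s; rw [hEz z hz, hzs]⟩
  · show cA C (E (cq hS hkD x)) = _ * cA C (E x) ∧ cB C (E (cq hS hkD x)) = _ * cB C (E x)
    rw [hEA, hEA, hκ.act k (Or.inl hk) hkD, hEB, hEB]
    refine ⟨rfl, ?_⟩
    obtain ⟨d, rfl⟩ : ∃ d : invK a t, (d : G) = k := ⟨⟨k, hk⟩, rfl⟩
    have hc : ∀ c, δ c (cq hS hkD x) = nn d * (δ (c * d) x + δ d x) := fun c => by
      have e : cq hS (hD c) (cq hS hkD x) = cq hS (hD (c * d)) x := Subtype.ext (by simp [cq, mul_assoc])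
      show _ / _ + _ = _ * (_ / _ + _ + (_ / _ + _))
      rw [e, show nn (c * d) = nn c * nn d by show g _ ^ 2 = _; rw [hgm, mul_pow]]
      have := hnn d
      have := hnn c
      field_simp
      linear_combination -(nn d * nn c * cB C (e0 x)) * h2F
    have hsum : S (cq hS hkD x) = nn d * (S x + δ d x) := by
      show ∑ c, δ c (cq hS hkD x) = _
      simp only [hc, ← Finset.mul_sum, Finset.sum_add_distrib, Finset.sum_const, Finset.card_univ,
        nsmul_eq_mul, hodd, one_mul]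
      congr 2
      exact Fintype.sum_equiv (Equiv.mulRight d) _ _ fun c => rfl
    rw [hsum]
    show _ + nn d * (_ + (_ / _ + _)) = nn d * _
    have := hnn d
    field_simp
    linear_combination cB C (e0 (cq hS hkD x)) * h2F


set_option maxHeartbeats 800000 in
/-- The cubic squares do not occur. -/
theorem no_pocket (hκ : QuotCoord hS h2 (qSize a t) κ g) (hζ : InvCoord hS h2 (qSize a t) ζ)
    (hr : RankOne.RInvol hS h2) (hq8 : qSize a t = 8) (Sq : F → F) (hsq : ∀ x, ζ (x * x) = Sq (κ x))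
    (hadd : ∀ x y z, Sq (x + y + z) + Sq (x + y) + Sq z
      = Sq (x + z) + Sq x + Sq z + (Sq (y + z) + Sq y + Sq z))
    (hcube : ∀ k y, k ^ 8 = k → Sq (k * y) = k ^ 3 * Sq y) : False := by
  classical
  obtain ⟨hcQ, hcA, hcK, hcF⟩ := card_data hS h2 hU C
  have hact : ∀ k ∈ invK a t, ∀ (hkD : k ∈ twoStab a t) (z : Q), (z : G) ∈ invSub hS h2 →
      ζ (cq hS hkD z) = g k ^ 3 * ζ z := fun k hk hkD z hz =>
    zeta_act hS h2 hU C hκ hζ hsq (fun r y hr' => hcube r y (by rw [← hq8]; exact hr')) hk hkD hz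
  have hsqm := sq_mem hS h2 hU C
  have h2F : (2 : F) = 0 := CharTwo.two_eq_zero
  have h8 : ∀ x y : F, (x + y) ^ 8 = x ^ 8 + y ^ 8 := fun x y =>
    add_pow_q (q := 8) (n := 3) (by norm_num) x y
  have hκ1 : κ 1 = 0 := (hκ.zero_iff 1).2 (one_mem _)
  have hζ1 : ζ 1 = 0 := by
    have h := hζ.mul 1 1 (one_mem _) (one_mem _)
    rw [one_mul] at h
    exact left_eq_add.1 h
  have hSq00 : Sq 0 = 0 := by
    have := hsq 1
    rwa [hκ1, one_mul, hζ1, eq_comm] at this
  have hSqr : ∀ y, Sq y ^ 8 = Sq y := fun y => by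
    obtain ⟨x, rfl⟩ := hκ.surj y
    rw [← hsq, ← hq8]; exact hζ.real _ (hsqm x)
  have hSq0 : ∀ y, Sq y = 0 → y = 0 := fun y h => by
    obtain ⟨x, rfl⟩ := hκ.surj y
    rw [← hsq] at h
    exact (hκ.zero_iff x).2 (RankOne.mem_invSub_of_sq hS h2 x.2 (congrArg Subtype.val (hζ.inj _ (hsqm x) h)))
  -- the polarisation
  let β : F → F → F := fun x y => Sq (x + y) + Sq x + Sq y
  have hβl : ∀ x y z, β (x + y) z = β x z + β y z := hadd
  have hβs : ∀ x y, β x y = β y x := fun x y => by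
    show Sq (x + y) + _ + _ = Sq (y + x) + _ + _
    rw [add_comm x y]; ring
  have hβr : ∀ x y z, β x (y + z) = β x y + β x z := fun x y z => by rw [hβs, hβl, hβs y, hβs z]
  have hβ0 : ∀ x, β x 0 = 0 := fun x => by
    show Sq (x + 0) + Sq x + Sq 0 = 0
    rw [add_zero, hSq00, add_zero, CharTwo.add_self_eq_zero]
  have hβh : ∀ k x y, k ^ 8 = k → β (k * x) (k * y) = k ^ 3 * β x y := fun k x y hk => by
    show Sq (k * x + k * y) + Sq (k * x) + Sq (k * y) = k ^ 3 * (_ + _ + _)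
    rw [← mul_add, hcube k _ hk, hcube k _ hk, hcube k _ hk]; ring
  have hβreal : ∀ x y, β x y ^ 8 = β x y := fun x y => by
    show (_ + _ + _) ^ 8 = _
    rw [h8, h8, hSqr, hSqr, hSqr]
  -- a generator `v` of the fixed field
  obtain ⟨v, hv, hv8, hpow⟩ : ∃ v : F, v ^ 3 + v + 1 = 0 ∧ v ^ 8 = v ∧
      ∀ k : F, k ^ 8 = k → k ≠ 0 → ∃ i, i < 7 ∧ k = v ^ i := by
    obtain ⟨r, hr', hr0, hr1⟩ : ∃ r : F, r ^ 8 = r ∧ r ≠ 0 ∧ r ≠ 1 := by
      by_contra! hall
      have hle : Nat.card (invK a t) ≤ 1 := by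
        refine Finite.card_le_one_iff_subsingleton.2 ⟨fun k l => Subtype.ext ?_⟩
        have hg : ∀ k : invK a t, (k : G) = 1 := fun k => hκ.nu_one _ k.2
          (hall _ (by rw [← hq8]; exact hκ.nu_real _ k.2) (hκ.nu_ne _ k.2))
        rw [hg k, hg l]
      omega
    have hr7 : r ^ 7 = 1 := mul_right_cancel₀ hr0 (by rw [← pow_succ, hr', one_mul])
    have hprod : (r ^ 3 + r + 1) * (r ^ 3 + r ^ 2 + 1) = 0 := by
      refine (mul_eq_zero.1 (?_ : (r - 1) * ((r ^ 3 + r + 1) * (r ^ 3 + r ^ 2 + 1)) = 0)).resolve_left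
        (sub_ne_zero.2 hr1)
      linear_combination hr7 + (r ^ 4 - r ^ 3) * h2F
    obtain ⟨v, hv, hv8, hv1⟩ : ∃ v : F, v ^ 3 + v + 1 = 0 ∧ v ^ 8 = v ∧ v ≠ 1 := by
      rcases mul_eq_zero.1 hprod with h | h
      · exact ⟨r, h, hr', hr1⟩
      · refine ⟨r⁻¹, ?_, by rw [inv_pow, hr'], fun h' => hr1 (inv_eq_one.1 h')⟩
        field_simp
        linear_combination h
    have hv0 : v ≠ 0 := fun h => by simp [h] at hv
    have hv7 : v ^ 7 = 1 := mul_right_cancel₀ hv0 (by rw [← pow_succ, hv8, one_mul])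
    have hord : orderOf v = 7 := by
      have : Fact (Nat.Prime 7) := ⟨by decide⟩
      exact orderOf_eq_prime hv7 hv1
    refine ⟨v, hv, hv8, fun k hk hk0 => ?_⟩
    have hprim : IsPrimitiveRoot v 7 := hord ▸ IsPrimitiveRoot.orderOf v
    obtain ⟨i, hi, he⟩ := hprim.eq_pow_of_pow_eq_one (ξ := k)
      (mul_right_cancel₀ hk0 (by rw [← pow_succ, hk, one_mul]))
    exact ⟨i, hi, he.symm⟩
  have hv0 : v ≠ 0 := fun h => by simp [h] at hv
  have e3 : v ^ 3 = 1 + v := by linear_combination hv - (1 + v) * h2F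
  have e4 : v ^ 4 = v + v ^ 2 := by linear_combination v * e3
  have e5 : v ^ 5 = 1 + v + v ^ 2 := by linear_combination v * e4 + e3
  have e6 : v ^ 6 = 1 + v ^ 2 := by linear_combination v * e5 + e3 + v * h2F
  -- additive maps on the fixed field are linearised polynomials
  let a1 : F → F → F := fun x y => β x y + β (v * x) y * v ^ 2 + β (v * (v * x)) y * v
  let a2 : F → F → F := fun x y => β x y + β (v * x) y * v ^ 4 + β (v * (v * x)) y * v ^ 2
  let a4 : F → F → F := fun x y => β x y + β (v * x) y * v + β (v * (v * x)) y * v ^ 4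
  have hlinp : ∀ x y k, k ^ 8 = k → β (k * x) y = a1 x y * k + a2 x y * k ^ 2 + a4 x y * k ^ 4 := by
    intro x y
    let d : F → F := fun k => β (k * x) y + (a1 x y * k + a2 x y * k ^ 2 + a4 x y * k ^ 4)
    have dadd : ∀ k l, d (k + l) = d k + d l := fun k l => by
      show β ((k + l) * x) y + _ = β (k * x) y + _ + (β (l * x) y + _)
      rw [add_mul, hβl, CharTwo.add_sq, show (k + l) ^ 4 = k ^ 4 + l ^ 4 by
        rw [show 4 = 2 * 2 from rfl, pow_mul, pow_mul, pow_mul, CharTwo.add_sq, CharTwo.add_sq]]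
      ring
    have hT : v + v ^ 2 + v ^ 4 = 0 := by linear_combination e4 + (v + v ^ 2) * h2F
    have d1 : d 1 = 0 := by
      show β (1 * x) y + (_ * 1 + _ * 1 ^ 2 + _ * 1 ^ 4) = 0
      simp only [a1, a2, a4, one_mul, one_pow, mul_one]
      linear_combination (β (v * x) y + β (v * (v * x)) y) * hT + (2 * β x y) * h2F
    have dv : d v = 0 := by
      show β (v * x) y + (_ * v + _ * v ^ 2 + _ * v ^ 4) = 0
      simp only [a1, a2, a4]
      linear_combination β x y * hT + β (v * x) y * (e3 + e6 + e5 + (2 + v + v ^ 2) * h2F)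
        + β (v * (v * x)) y * (hT + hv8)
    have dv2 : d (v ^ 2) = 0 := by
      show β (v ^ 2 * x) y + (_ * v ^ 2 + _ * (v ^ 2) ^ 2 + _ * (v ^ 2) ^ 4) = 0
      simp only [a1, a2, a4, show v ^ 2 * x = v * (v * x) by ring]
      linear_combination β x y * (hT + hv8) + β (v * x) y * (hT + hv8 + v * hv8)
        + β (v * (v * x)) y * (e3 + e6 + e5 + v ^ 4 * hv8 + (2 + v + v ^ 2) * h2F)
    intro k hk
    refine CharTwo.add_eq_zero.1 (?_ : d k = 0)
    by_cases hk0 : k = 0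
    · have h := dadd 0 0
      rw [add_zero, CharTwo.add_self_eq_zero] at h
      rw [hk0]; exact h
    obtain ⟨i, hi, rfl⟩ := hpow k hk hk0
    interval_cases i
    · rw [pow_zero]; exact d1
    · rw [pow_one]; exact dv
    · exact dv2
    · rw [e3, dadd, d1, dv, add_zero]
    · rw [e4, dadd, dv, dv2, add_zero]
    · rw [e5, dadd, dadd, d1, dv, dv2, add_zero, add_zero]
    · rw [e6, dadd, d1, dv2, add_zero]
  have hv7 : v ^ 7 = 1 := mul_right_cancel₀ hv0 (by rw [← pow_succ, hv8, one_mul])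
  have hcub : ∀ x y k l, k ^ 8 = k → l ^ 8 = l → l ≠ 0 →
      β (k * x) (l * y) = a1 x y * (k * l ^ 2) + a2 x y * (k ^ 2 * l) + a4 x y * (k ^ 4 * l ^ 6) := by
    intro x y k l hk hl hl0
    have hl7 : l ^ 7 = 1 := mul_right_cancel₀ hl0 (by rw [← pow_succ, hl, one_mul])
    have h := hβh l (k * l ^ 6 * x) y hl
    rw [hlinp x y (k * l ^ 6) (by rw [mul_pow, hk, ← pow_mul, mul_comm 6, pow_mul, hl]),
      show l * (k * l ^ 6 * x) = l ^ 7 * (k * x) by ring, hl7, one_mul] at h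
    rw [h]
    linear_combination (a1 x y * k * l ^ 2) * hl7 + (a2 x y * k ^ 2 * (l ^ 8 + l)) * hl7
      + (a4 x y * k ^ 4 * l ^ 6 * (l ^ 14 + l ^ 7 + 1)) * hl7
  have ha4 : ∀ x y, a4 x y = 0 := fun x y => by
    have hv3 : (v ^ 3) ^ 8 = v ^ 3 := by rw [← pow_mul, mul_comm, pow_mul, hv8]
    have h := hcub x y 1 (v ^ 3) (one_pow 8) hv3 (pow_ne_zero _ hv0)
    rw [show β (1 * x) (v ^ 3 * y) = β (1 * x) (1 * y) + β (1 * x) (v * y) by rw [← hβr, ← add_mul, e3],
      hcub x y 1 1 (one_pow 8) (one_pow 8) one_ne_zero, hcub x y 1 v (one_pow 8) hv8 hv0] at h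
    refine mul_left_cancel₀ hv0 ?_
    rw [mul_zero]
    simp only [one_pow, one_mul, mul_one] at h
    have e6' : (v ^ 3) ^ 2 = 1 + v ^ 2 := by rw [← pow_mul]; exact e6
    have e18 : (v ^ 3) ^ 6 = v + v ^ 2 := by
      rw [← pow_mul, show 3 * 6 = 7 + 7 + 4 from rfl, pow_add, pow_add, hv7, one_mul, one_mul, e4]
    rw [e6', e18, e3, e6] at h
    linear_combination h - a4 x y * h2F + (a4 x y * v) * h2F
  have hsym : ∀ x y, a1 x y = a2 y x := fun x y => by
    have h1 := hcub x y 1 1 (one_pow 8) (one_pow 8) one_ne_zero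
    have h1' := hcub y x 1 1 (one_pow 8) (one_pow 8) one_ne_zero
    have h3 := hcub x y v 1 hv8 (one_pow 8) one_ne_zero
    have h3' := hcub y x 1 v (one_pow 8) hv8 hv0
    rw [hβs] at h1' h3'
    simp only [ha4, zero_mul, add_zero, one_pow, one_mul, mul_one] at h1 h1' h3 h3'
    rw [h1] at h1'
    rw [h3] at h3'
    have h' : (a1 x y - a2 y x) * (v - v ^ 2) = 0 := by linear_combination h3' - v ^ 2 * h1'
    refine sub_eq_zero.1 ((mul_eq_zero.1 h').resolve_right fun hh => ?_)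
    have : v = 1 := mul_left_cancel₀ hv0 (by linear_combination -hh)
    rw [this] at hv
    exact one_ne_zero (α := F) (by linear_combination hv - h2F)
  have hlin : ∀ k l x y : F, k ^ 8 = k → l ^ 8 = l → Sq (k * x + l * y)
      = k ^ 3 * Sq x + k ^ 2 * l * a2 x y + k * l ^ 2 * a2 y x + l ^ 3 * Sq y := by
    intro k l x y hk hl
    have hb : β (k * x) (l * y) = a1 x y * (k * l ^ 2) + a2 x y * (k ^ 2 * l) := by
      by_cases hl0 : l = 0
      · rw [hl0, zero_mul, hβ0]; ring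
      · rw [hcub x y k l hk hl hl0, ha4, zero_mul, add_zero]
    have e : β (k * x) (l * y) = Sq (k * x + l * y) + Sq (k * x) + Sq (l * y) := rfl
    rw [e, hcube k x hk, hcube l y hl, hsym x y] at hb
    linear_combination hb - (k ^ 3 * Sq x + l ^ 3 * Sq y) * h2F
  have hPr : ∀ x y, a2 x y ^ 8 = a2 x y := fun x y => by
    simp only [a2]
    rw [h8, h8, mul_pow, mul_pow, hβreal, hβreal, hβreal, ← pow_mul v 4 8, ← pow_mul v 2 8, mul_comm 4,
      mul_comm 2, pow_mul, pow_mul, hv8]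
  -- the coordinate
  letI := Fintype.ofFinite (invK a t)
  have hD : ∀ d : invK a t, (d : G) ∈ twoStab a t := fun d => RankOne.invK_le hS d.2
  let c0 : Q → F := fun x => ζ ((hκ.surj (κ x)).choose⁻¹ * x) + ζ ((hκ.surj (κ 1)).choose⁻¹ * 1)
  have hc0m : ∀ x : Q, (((hκ.surj (κ x)).choose⁻¹ * x : Q) : G) ∈ invSub hS h2 := fun x =>
    (hκ.zero_iff _).1 (by
      rw [hκ.add, kap_inv hS h2 hκ, (hκ.surj (κ x)).choose_spec, CharTwo.add_self_eq_zero])
  have hc0z : ∀ x z : Q, (z : G) ∈ invSub hS h2 → c0 (x * z) = c0 x + ζ z := fun x z hz => by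
    have e : κ (x * z) = κ x := by rw [hκ.add, (hκ.zero_iff z).2 hz, add_zero]
    show ζ ((hκ.surj (κ (x * z))).choose⁻¹ * (x * z)) + _ = _ + _ + _
    have e' : (hκ.surj (κ (x * z))).choose = (hκ.surj (κ x)).choose := by simp only [e]
    rw [e', ← mul_assoc, hζ.mul _ _ (hc0m x) hz]
    exact add_right_comm _ _ _
  have hc0r : ∀ x, c0 x ^ 8 = c0 x := fun x => by
    show (_ + _) ^ 8 = _
    rw [h8]
    congr 1 <;> (rw [← hq8]; exact hζ.real _ (hc0m _))
  have hg0 : ∀ d : invK a t, g d ^ 3 ≠ 0 := fun d => pow_ne_zero _ (hκ.nu_ne _ d.2)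
  have hgm : ∀ d c : invK a t, g (d * c : invK a t) = g d * g c := fun d c => by
    obtain ⟨x, hx⟩ := hκ.surj 1
    have h := hκ.act _ (Or.inl (d * c).2) (hD (d * c)) x
    rw [show cq hS (hD (d * c)) x = cq hS (hD d) (cq hS (hD c) x) from Subtype.ext (by simp [cq, mul_assoc]),
      hκ.act _ (Or.inl d.2) (hD d), hκ.act _ (Or.inl c.2) (hD c), hx, mul_one, mul_one] at h
    exact h.symm
  have hodd : (Fintype.card (invK a t) : F) = 1 := by
    have h7 : Fintype.card (invK a t) = 7 := by rw [← Nat.card_eq_fintype_card]; omega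
    rw [h7]
    push_cast
    linear_combination (3 : F) * h2F
  let c : Q → F := fun x => ∑ d : invK a t, c0 (cq hS (hD d) x) / g d ^ 3
  have hcz : ∀ x z : Q, (z : G) ∈ invSub hS h2 → c (x * z) = c x + ζ z := fun x z hz => by
    show ∑ d : invK a t, c0 (cq hS (hD d) (x * z)) / g d ^ 3 = _
    have hterm : ∀ d : invK a t, c0 (cq hS (hD d) (x * z)) / g d ^ 3
        = c0 (cq hS (hD d) x) / g d ^ 3 + ζ z := fun d => by
      have hz' : (cq hS (hD d) z : G) ∈ invSub hS h2 := RankOne.conj_mem_invSub hS h2 (hD d) hz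
      rw [cq_mul hS, hc0z _ _ hz', hact _ d.2 (hD d) z hz, add_div, mul_div_cancel_left₀ _ (hg0 d)]
    rw [Finset.sum_congr rfl fun d _ => hterm d, Finset.sum_add_distrib, Finset.sum_const, Finset.card_univ,
      nsmul_eq_mul, hodd, one_mul]
  have hcr : ∀ x, c x ^ 8 = c x := fun x => by
    have : Fact (Nat.Prime 2) := ⟨Nat.prime_two⟩
    show (∑ d : invK a t, c0 (cq hS (hD d) x) / g d ^ 3) ^ 8 = _
    rw [show (8 : ℕ) = 2 ^ 3 from rfl, sum_pow_char_pow 2 3]
    refine Finset.sum_congr rfl fun d _ => ?_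
    rw [show (2 : ℕ) ^ 3 = 8 from rfl, div_pow, hc0r, ← pow_mul, mul_comm, pow_mul,
      show g d ^ 8 = g d by rw [← hq8]; exact hκ.nu_real _ d.2]
  have hcZ : ∀ z : Q, (z : G) ∈ invSub hS h2 → c z = c 1 + ζ z := fun z hz => by
    rw [← hcz 1 z hz, one_mul]
  have hc1 : c 1 = 0 := Finset.sum_eq_zero fun d _ => by
    rw [show cq hS (hD d) 1 = 1 from Subtype.ext (by simp [cq]),
      show c0 1 = 0 from CharTwo.add_self_eq_zero _, zero_div]
  have hcact : ∀ k ∈ invK a t, ∀ (hkD : k ∈ twoStab a t) (x : Q),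
      c (cq hS hkD x) = g k ^ 3 * c x := by
    intro k hk hkD x
    obtain ⟨d', rfl⟩ : ∃ d : invK a t, (d : G) = k := ⟨⟨k, hk⟩, rfl⟩
    show ∑ d : invK a t, c0 (cq hS (hD d) (cq hS hkD x)) / g d ^ 3
      = _ * ∑ d : invK a t, c0 (cq hS (hD d) x) / g d ^ 3
    rw [Finset.mul_sum]
    refine Fintype.sum_equiv (Equiv.mulRight d') _ _ fun d => ?_
    show _ = g d' ^ 3 * (c0 (cq hS (hD (d * d')) x) / g (d * d' : invK a t) ^ 3)
    rw [show cq hS (hD (d * d')) x = cq hS (hD d) (cq hS hkD x) from Subtype.ext (by simp [cq, mul_assoc]),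
      hgm, mul_pow]
    have := hκ.nu_ne _ d'.2
    field_simp
  have K : Scal hS h2 8 3 κ c g :=
    { add := hκ.add
      zero_iff := hκ.zero_iff
      cen := fun x z hz => by rw [hcz x z hz, hcZ z hz, hc1, zero_add]
      cen_real := fun z _ => hcr z
      cen_inj := fun z hz h => hζ.inj z hz (by rwa [hcZ z hz, hc1, zero_add] at h)
      cen_onto := fun s hs => by
        obtain ⟨z, hz, hzs⟩ := hζ.onto s (by rw [hq8]; exact hs)
        exact ⟨z, hz, by rw [hcZ z hz, hc1, zero_add, hzs]⟩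
      nu_ne := hκ.nu_ne
      nu_real := fun k hk => by rw [← hq8]; exact hκ.nu_real k hk
      nu_inv := hκ.nu_inv
      nu_onto := fun r hr' hr0 => hκ.nu_onto r (by rw [hq8]; exact hr') hr0
      act := fun k hk hkD x => ⟨hκ.act k (Or.inl hk) hkD x, hcact k hk hkD x⟩ }
  refine Scal.pocket_false (hq8 ▸ C) hr K hcr hκ.surj Sq a2 (fun x => ?_) hSqr hPr hSq0 hlin
  have e : x⁻¹ = x * (x * x) := inv_eq_of_mul_eq_one_right (by
    rw [← mul_assoc]
    exact Subtype.ext (RankOne.invSub_sq hS h2 (hsqm x)))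
  rw [e, hcz x _ (hsqm x), hsq]

omit C in
/-- **The unitary case.** -/
theorem recog_of_unitary : ∃ (F : Type) (_ : Field F) (_ : Fintype F),
    Fintype.card F = qSize a t ^ 2 ∧
      Nonempty (↥(Q ⊔ Subgroup.zpowers t) ≃* Cfsg.PSU 3 F (qSize a t)) := by
  obtain ⟨n, hn2, hn⟩ := RankOne.qSize_pow hS h2
  obtain ⟨F, _, _, hF, h2F, ⟨C⟩⟩ := U3Rec.exists_field_ctx hn (by omega)
  have : CharP F 2 := CharTwo.of_one_ne_zero_of_two_eq_zero one_ne_zero h2F
  refine ⟨F, inferInstance, inferInstance, hF, ?_⟩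
  have hW : wSub a t ≠ ⊥ := fun h => by
    obtain ⟨d, hd, hdc⟩ := hU.card_w
    have := Nat.le_of_dvd (by norm_num) (hd.trans (Nat.gcd_dvd_left _ _))
    have := RankOne.four_le_qSize hS h2
    rw [h, Subgroup.card_bot] at hdc
    omega
  have hr := RankOne.rInvol_of_cube hS h2 hU.toIsCube hW
  obtain ⟨κ, g, ζ, hκ, hζ, hN | ⟨hq8, Sq, hsq, hadd, hcube⟩⟩ := exists_sq_coord hS h2 hU C
  · obtain ⟨e, K⟩ := exists_scal_norm hS h2 hU C hκ hζ hN
    exact K.recog_psu C hn (by omega) hF hr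
  · exact absurd (no_pocket hS h2 hU C hκ hζ hr hq8 Sq hsq hadd hcube) id

end Cfsg.Agent.Lib.RankOneU3
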