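import Mathlib.GroupTheory.OrderOfElement
import Mathlib.GroupTheory.Index
import Mathlib.Algebra.Field.Basic

/-!
The shape of the centraliser of an involution of `PGU₃(q)`, `q` even, as a group with two coordinates.
-/

set_option autoImplicit false

namespace Cfsg.Agent.RankOneU3

variable {K K' : Type*} [Group K] [Group K'] {F : Type*} [Field F]

/-- `K` is an extension of a group of order `q³` with `q - 1` involutions, all central, by a cyclic group of order
`q + 1`: `χ` gives the quotient and `c` the coordinate modulo the involutions. -/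
structure CentType (q : ℕ) (A : Subgroup K) (χ : K →* Fˣ) (c : K → F) : Prop where
  card_eq : Nat.card K = q ^ 3 * (q + 1)
  card_ker : Nat.card χ.ker = q ^ 3
  card_A : Nat.card A = q
  central : A ≤ Subgroup.center K
  invol : ∀ y, y * y = 1 ↔ y ∈ A
  le_ker : A ≤ χ.ker
  sq_mem : ∀ y ∈ χ.ker, y * y ∈ A
  sq_onto : ∀ a ∈ A, ∃ y ∈ χ.ker, y * y = a
  norm : ∀ y, χ y ^ (q + 1) = 1
  add : ∀ x ∈ χ.ker, ∀ z ∈ χ.ker, c (x * z) = c x + c z
  zero_iff : ∀ x ∈ χ.ker, c x = 0 ↔ x ∈ A
  surj : ∀ v : F, ∃ x ∈ χ.ker, c x = v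
  conj : ∀ y, ∀ x ∈ χ.ker, c (y * x * y⁻¹) = (χ y : F) * c x

theorem CentType.of_equiv {q : ℕ} {A : Subgroup K} {χ : K →* Fˣ} {c : K → F} (h : CentType q A χ c)
    (e : K' ≃* K) : CentType q (A.comap e.toMonoidHom) (χ.comp e.toMonoidHom) fun y => c (e y) where
  card_eq := by rw [Nat.card_congr e.toEquiv, h.card_eq]
  card_ker := by
    rw [← MonoidHom.comap_ker, ← h.card_ker]
    exact Nat.card_congr (e.toEquiv.subtypeEquiv fun y => Iff.rfl)
  card_A := by
    rw [← h.card_A]
    exact Nat.card_congr (e.toEquiv.subtypeEquiv fun y => Iff.rfl)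
  central y hy := Subgroup.mem_center_iff.2 fun z => e.injective (by
    rw [map_mul, map_mul]; exact Subgroup.mem_center_iff.1 (h.central hy) (e z))
  invol y := by
    rw [← e.injective.eq_iff, map_mul, map_one, h.invol]; rfl
  le_ker _ hy := h.le_ker hy
  sq_mem y hy := by
    show e (y * y) ∈ A
    rw [map_mul]; exact h.sq_mem _ hy
  sq_onto a ha := by
    obtain ⟨y, hy, hya⟩ := h.sq_onto _ ha
    refine ⟨e.symm y, ?_, e.injective ?_⟩
    · show χ (e (e.symm y)) = 1
      rwa [e.apply_symm_apply]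
    · rw [map_mul, e.apply_symm_apply]; exact hya
  norm y := h.norm _
  add x hx z hz := by rw [map_mul]; exact h.add _ hx _ hz
  zero_iff x hx := h.zero_iff _ hx
  surj v := by
    obtain ⟨x, hx, hxv⟩ := h.surj v
    refine ⟨e.symm x, ?_, ?_⟩
    · show χ (e (e.symm x)) = 1
      rwa [e.apply_symm_apply]
    · rwa [e.apply_symm_apply]
  conj y x hx := by rw [map_mul, map_mul, map_inv]; exact h.conj _ _ hx

end Cfsg.Agent.RankOneU3
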