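import Cfsg.Agent.Lib.RankOneU3.StructureMap
import Mathlib.RingTheory.RootsOfUnity.PrimitiveRoots

/-!
# Squaring forms invariant under a large torus

`Sq` is a map from `F` (with `q ^ 2` elements) to its fixed field `K` with biadditive polarisation,
multiplied by scalars under `K*`, invariant under `w` of norm one whose order times `d ≤ 3` is
`q + 1`. Then `Sq` is an additive image of the norm, except possibly for `q = 8` where it may be of
degree three.
-/

set_option autoImplicit false

namespace Cfsg.Agent.Lib.RankOneU3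

variable {F : Type*} [Field F] [Fintype F] [CharP F 2]

omit [Fintype F] in
/-- An additive group closed under products containing `t = w + w⁻¹` bounds the order of `w`. -/
theorem orderOf_le_of_trace {R : AddSubgroup F} {w : F} [Finite F] (hw : w ≠ 0)
    (hne : w + w⁻¹ ≠ 0) (h1 : (1 : F) ∈ R) (ht : w + w⁻¹ ∈ R)
    (hmul : ∀ x ∈ R, ∀ y ∈ R, x * y ∈ R) {m : ℕ} (hF : Nat.card F = 2 ^ m) :
    orderOf w ≤ Nat.card R + 1 := by
  classical
  have := Fintype.ofFinite F
  obtain ⟨l, -, hl⟩ := (Nat.dvd_prime_pow Nat.prime_two).1 (hF ▸ R.card_addSubgroup_dvd_card)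
  set t := w + w⁻¹ with htdef
  let Γ : Finset F := Finset.univ.filter (fun x => x ∈ R ∧ x ≠ 0)
  have hΓ : Γ.card + 1 = Nat.card R := by
    have e : (Finset.univ.filter (fun x : F => x ∈ R)).card = Nat.card R := by
      rw [Nat.card_eq_fintype_card, Fintype.card_subtype]
    rw [← e, ← Finset.card_erase_add_one (s := Finset.univ.filter (fun x : F => x ∈ R)) (a := (0 : F))
        (by simp [R.zero_mem]),
      show Γ = (Finset.univ.filter (fun x : F => x ∈ R)).erase 0 by ext x; simp [Γ, and_comm]]
  have htpow : t ^ Γ.card = 1 := pow_card_of_mul_closed Γ t hne (fun x hx => by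
    simp only [Γ, Finset.mem_filter] at hx; exact hx.2.2) (fun x hx => by
    simp only [Γ, Finset.mem_filter, Finset.mem_univ, true_and] at hx ⊢
    exact ⟨hmul t ht x hx.1, mul_ne_zero hne hx.2⟩)
  have htr : t ^ (2 ^ l) = t := by rw [← hl, ← hΓ, pow_succ, htpow, one_mul]
  have hv : w ^ (2 ^ l) + (w ^ (2 ^ l))⁻¹ = w + w⁻¹ := by
    rw [← inv_pow, ← add_pow_q (F := F) (n := l) rfl]; exact htr
  set v := w ^ (2 ^ l) with hvdef
  have hv0 : v ≠ 0 := pow_ne_zero _ hw
  have hfac : (v - w) * (v * w - 1) = 0 := by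
    field_simp at hv
    linear_combination hv
  rw [hl]
  rcases mul_eq_zero.1 hfac with h | h
  · have e : w ^ (2 ^ l - 1) = 1 := by
      have h' : w ^ (2 ^ l - 1) * w = w := by
        rw [← pow_succ, Nat.sub_add_cancel Nat.one_le_two_pow]; exact sub_eq_zero.1 h
      exact mul_right_cancel₀ hw (by rw [h', one_mul])
    by_cases h0 : 2 ^ l - 1 = 0
    · exfalso
      have hl0 : 2 ^ l = 1 := by have := Nat.one_le_two_pow (n := l); omega
      have hR : Nat.card R = 1 := hl.trans hl0
      have h10 : (1 : F) = 0 := by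
        have := Nat.card_eq_one_iff_unique.1 hR |>.1
        exact congrArg Subtype.val (Subsingleton.elim (⟨1, h1⟩ : R) ⟨0, R.zero_mem⟩)
      exact one_ne_zero h10
    · exact le_trans (orderOf_le_of_pow_eq_one (Nat.pos_of_ne_zero h0) e) (by omega)
  · exact orderOf_le_of_pow_eq_one (Nat.succ_pos _) (by rw [pow_succ]; exact sub_eq_zero.1 h)

/-- The result of the analysis of a squaring form. -/
theorem sq_form_cases {q n : ℕ} (hn : q = 2 ^ n) (hn2 : 2 ≤ n) (hcard : Fintype.card F = q ^ 2)
    (Sq : F → F) (hreal : ∀ y, Sq y ^ q = Sq y) (hanis : ∀ y, Sq y = 0 → y = 0)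
    (hadd : ∀ x y z, Sq (x + y + z) + Sq (x + y) + Sq z
      = Sq (x + z) + Sq x + Sq z + (Sq (y + z) + Sq y + Sq z))
    (hscale : ∀ k, k ^ q = k → k ≠ 0 → ∃ χ, ∀ y, Sq (k * y) = χ * Sq y)
    (hinjK : ∀ k, k ^ q = k → Sq k = Sq 1 → k = 1)
    {w : F} (hw : w ^ (q + 1) = 1) (hinv : ∀ y, Sq (w * y) = Sq y) {d : ℕ} (hd : d ≤ 3)
    (hord : orderOf w * d = q + 1) :
    (∃ Φ : F → F, (∀ x y, x ^ q = x → y ^ q = y → Φ (x + y) = Φ x + Φ y) ∧
      (∀ x, x ^ q = x → Φ x ^ q = Φ x) ∧ (∀ x, x ^ q = x → Φ x = 0 → x = 0) ∧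
      ∀ y, Sq y = Φ (y ^ (q + 1))) ∨
    (q = 8 ∧ ∃ (c : F) (j : ℕ), c ≠ 0 ∧ c ^ q = c ∧ (j = 1 ∨ j = 2 ∨ j = 4) ∧
      ∀ k y, k ^ q = k → Sq (k * y) / c = (k ^ 3) ^ j * (Sq y / c)) := by
  classical
  have hq4 : 4 ≤ q := by rw [hn]; exact le_trans (show 4 ≤ 2 ^ 2 by norm_num) (Nat.pow_le_pow_right Nat.two_pos hn2)
  have hq0 : q ≠ 0 := by omega
  have hw0 : w ≠ 0 := fun h => by rw [h, zero_pow (Nat.succ_ne_zero q)] at hw; exact zero_ne_one hw
  have hwq : w ^ q = w⁻¹ := eq_inv_of_mul_eq_one_left (by rw [← pow_succ]; exact hw)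
  set τ : F := w + w⁻¹ with hτ
  have hτf : τ ^ q = τ := by
    rw [hτ, add_pow_q hn, inv_pow, hwq, inv_inv, add_comm]
  have hw1 : w ≠ 1 := fun h => by
    rw [h, orderOf_one, one_mul] at hord; omega
  have hτ0 : τ ≠ 0 := fun h => by
    have h1 : w * w = 1 := by
      have := CharTwo.add_eq_zero.1 h
      nth_rewrite 1 [this]
      exact inv_mul_cancel₀ hw0
    exact hw1 (CharTwo.sq_injective (by show w ^ 2 = 1 ^ 2; rw [pow_two, h1, one_pow]))
  have hww : w * w = τ * w + 1 := by
    rw [hτ, add_mul, inv_mul_cancel₀ hw0]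
    linear_combination -CharTwo.add_self_eq_zero (1 : F)
  have hSq0 : Sq 0 = 0 := by
    have h := hadd 0 0 0
    simp only [add_zero] at h
    linear_combination -h - (CharTwo.add_self_eq_zero (Sq 0))
  -- polarisation
  let β : F → F → F := fun x y => Sq (x + y) + Sq x + Sq y
  have hβl : ∀ x y z, β (x + y) z = β x z + β y z := hadd
  have hβs : ∀ x y, β x y = β y x := fun x y => by
    show Sq (x + y) + _ + _ = Sq (y + x) + _ + _
    rw [add_comm x y]; ring
  have hβr : ∀ x y z, β x (y + z) = β x y + β x z := fun x y z => by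
    rw [hβs, hβl, hβs y, hβs z]
  have hβw : ∀ x y, β (w * x) (w * y) = β x y := fun x y => by
    show Sq (w * x + w * y) + Sq (w * x) + Sq (w * y) = _
    rw [← mul_add, hinv, hinv, hinv]
  have hβd : ∀ x, β x x = 0 := fun x => by
    show Sq (x + x) + Sq x + Sq x = 0
    rw [CharTwo.add_self_eq_zero, hSq0, zero_add, CharTwo.add_self_eq_zero]
  set c : F := Sq 1 with hc
  have hc0 : c ≠ 0 := fun h => one_ne_zero (hanis 1 h)
  let ψ : F → F := fun k => Sq k / c
  have hψ : ∀ k y, k ^ q = k → Sq (k * y) = ψ k * Sq y := by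
    intro k y hk
    by_cases hk0 : k = 0
    · show _ = Sq k / c * _
      simp [hk0, hSq0]
    obtain ⟨χ, hχ⟩ := hscale k hk hk0
    have h1 := hχ 1
    rw [mul_one] at h1
    show _ = Sq k / c * _
    rw [hχ, h1, ← hc, mul_div_cancel_right₀ _ hc0]
  have hψmul : ∀ k l, k ^ q = k → ψ (k * l) = ψ k * ψ l := fun k l hk => by
    show Sq (k * l) / c = ψ k * (Sq l / c)
    rw [hψ k l hk]; ring
  have hψ1 : ψ 1 = 1 := div_self hc0
  by_cases hadd' : ∀ k l, k ^ q = k → l ^ q = l → ψ (k + l) = ψ k + ψ l
  · -- the norm case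
    refine Or.inl ⟨fun x => Sq (x ^ (q / 2)), ?_, fun x _ => hreal _, ?_, ?_⟩
    all_goals
      have hhalf : q / 2 + q / 2 = q := by
        have : 2 ∣ q := hn ▸ dvd_pow_self 2 (by omega)
        omega
      have hroot : ∀ {x : F}, x ^ q = x → x ^ (q / 2) * x ^ (q / 2) = x := fun {x} hx => by
        rw [← pow_add, hhalf, hx]
      have hrootf : ∀ {x : F}, x ^ q = x → (x ^ (q / 2)) ^ q = x ^ (q / 2) := fun {x} hx => by
        rw [← pow_mul, mul_comm, pow_mul, hx]
      have hSqk : ∀ k, Sq k = c * ψ k := fun k => (mul_div_cancel₀ _ hc0).symm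
    · intro x y hx hy
      have e : (x + y) ^ (q / 2) = x ^ (q / 2) + y ^ (q / 2) := by
        apply CharTwo.sq_injective
        show ((x + y) ^ (q / 2)) ^ 2 = (x ^ (q / 2) + y ^ (q / 2)) ^ 2
        rw [CharTwo.add_sq, pow_two, pow_two, pow_two, hroot hx, hroot hy,
          hroot (by rw [add_pow_q hn, hx, hy])]
      show Sq _ = Sq _ + Sq _
      rw [e, hSqk, hSqk, hSqk, hadd' _ _ (hrootf hx) (hrootf hy)]; ring
    · intro x hx h
      rw [← hroot hx, hanis _ h, mul_zero]
    · intro y
      -- write `y = a + b w`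
      set b : F := (y + y ^ q) / τ with hb
      have hbf : b ^ q = b := by
        rw [hb, div_pow, add_pow_q hn, pow_q_q hcard, hτf, add_comm]
      set a : F := y + b * w with ha
      have haf : a ^ q = a := by
        rw [ha, add_pow_q hn, mul_pow, hbf, hwq]
        have h1 : b * τ = y + y ^ q := by rw [hb, div_mul_cancel₀ _ hτ0]
        rw [hτ] at h1
        linear_combination h1 - b * CharTwo.add_self_eq_zero w
          + CharTwo.add_self_eq_zero (y ^ q) - CharTwo.add_self_eq_zero (0 : F)
      have hy : y = a + b * w := by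
        rw [ha]; linear_combination -(CharTwo.add_self_eq_zero (b * w))
      -- the mixed form
      let f : F → F := fun x => β 1 (x * w)
      have hβhom : ∀ s x y, s ^ q = s → β (s * x) (s * y) = ψ s * β x y := fun s x y hs => by
        show Sq (s * x + s * y) + Sq (s * x) + Sq (s * y) = ψ s * (_ + _ + _)
        rw [← mul_add, hψ _ _ hs, hψ _ _ hs, hψ _ _ hs]; ring
      have hbal : ∀ s x, s ^ q = s → x ^ q = x → β s (x * w) = f (s * x) := by
        intro s x hs hx
        have hs1 : (s + 1) ^ q = s + 1 := by rw [add_pow_q hn, hs, one_pow]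
        have e1 := hβhom (s + 1) 1 (x * w) hs1
        have e2 := hβhom s 1 (x * w) hs
        rw [mul_one] at e1 e2
        rw [hadd' s 1 hs (one_pow q), hψ1, show (s + 1) * (x * w) = s * (x * w) + x * w by ring,
          hβl, hβr, hβr] at e1
        have e3 : β s (x * w) + f (s * x) = 0 := by
          show β s (x * w) + β 1 (s * x * w) = 0
          rw [show s * x * w = s * (x * w) by ring]
          linear_combination e1 - e2
        exact CharTwo.add_eq_zero.1 e3
      have hf : ∀ x, x ^ q = x → f x = ψ (x ^ (q / 2)) * f 1 := by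
        intro x hx
        set s := x ^ (q / 2)
        have h1 := hbal s s (hrootf hx) (hrootf hx)
        rw [hroot hx] at h1
        rw [← h1]
        have h2 := hβhom s 1 w (hrootf hx)
        rw [mul_one] at h2
        show _ = _ * β 1 (1 * w)
        rw [one_mul]; exact h2
      have hval : ∀ a b, a ^ q = a → b ^ q = b →
          Sq (a + b * w) = c * (ψ a + ψ b) + ψ ((a * b) ^ (q / 2)) * f 1 := by
        intro a b ha hb
        have hSw : Sq (b * w) = c * ψ b := by
          rw [hψ b w hb, show Sq w = c by rw [hc, ← hinv 1, mul_one]]; ring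
        have h1 : β a (b * w) = f (a * b) := hbal a b ha hb
        rw [hf (a * b) (by rw [mul_pow, ha, hb])] at h1
        have e : β a (b * w) = Sq (a + b * w) + Sq a + Sq (b * w) := rfl
        rw [e, hSw, hSqk a] at h1
        linear_combination h1 - CharTwo.add_self_eq_zero (c * ψ a) - CharTwo.add_self_eq_zero (c * ψ b)
      -- the constant
      have hγ : f 1 = c * ψ (τ ^ (q / 2)) := by
        have h1 := hval 1 1 (one_pow q) (one_pow q)
        rw [one_mul, one_mul, one_pow, hψ1] at h1
        have h2 := hval 1 (1 + τ) (one_pow q) (by rw [add_pow_q hn, one_pow, hτf])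
        have e : w * (1 + w) = 1 + (1 + τ) * w := by rw [mul_add, hww]; ring
        rw [← e, hinv, h1, hψ1, one_mul, hadd' 1 τ (one_pow q) hτf, hψ1] at h2
        have h1τ : (1 + τ) ^ (q / 2) = 1 + τ ^ (q / 2) := by
          apply CharTwo.sq_injective
          show ((1 + τ) ^ (q / 2)) ^ 2 = (1 + τ ^ (q / 2)) ^ 2
          rw [CharTwo.add_sq, pow_two, pow_two, pow_two, hroot hτf, one_mul,
            hroot (by rw [add_pow_q hn, hτf, one_pow])]
        simp only [one_mul] at h2
        rw [h1τ, hadd' 1 _ (one_pow q) (hrootf hτf), hψ1] at h2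
        have hψτ : ψ τ = ψ (τ ^ (q / 2)) * ψ (τ ^ (q / 2)) := by
          rw [← hψmul _ _ (hrootf hτf), hroot hτf]
        have hτr : ψ (τ ^ (q / 2)) ≠ 0 := by
          refine div_ne_zero (fun h0 => hτ0 ?_) hc0
          rw [← hroot hτf, hanis _ h0, mul_zero]
        refine mul_left_cancel₀ hτr ?_
        linear_combination -h2 - c * hψτ
          - c * (ψ (τ ^ (q / 2)) * ψ (τ ^ (q / 2))) * (CharTwo.two_eq_zero (R := F))
      have hN : y ^ (q + 1) = a * a + b * b + τ * (a * b) := by
        rw [hy, pow_succ _ q, add_pow_q hn, mul_pow, haf, hbf, hwq, hτ]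
        linear_combination (b * b) * inv_mul_cancel₀ hw0
      have hab : (a * b) ^ q = a * b := by rw [mul_pow, haf, hbf]
      have e : (y ^ (q + 1)) ^ (q / 2) = a + b + τ ^ (q / 2) * (a * b) ^ (q / 2) := by
        apply CharTwo.sq_injective
        show ((y ^ (q + 1)) ^ (q / 2)) ^ 2 = (a + b + τ ^ (q / 2) * (a * b) ^ (q / 2)) ^ 2
        rw [CharTwo.add_sq, CharTwo.add_sq, mul_pow (τ ^ (q / 2))]
        simp only [pow_two]
        rw [hroot hτf, hroot hab, hroot (by rw [pow_succ, mul_pow, pow_q_q hcard, mul_comm]), hN]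
      show Sq y = Sq ((y ^ (q + 1)) ^ (q / 2))
      rw [e, hSqk (_ + _), hadd' _ _ (by rw [add_pow_q hn, haf, hbf])
        (by rw [mul_pow, hrootf hτf, hrootf hab]), hadd' a b haf hbf, hψmul _ _ (hrootf hτf), hy,
        hval a b haf hbf, hγ]
      ring
  · -- only `q = 8` is left
    obtain ⟨k₀, l₀, hk₀, hl₀, hne⟩ : ∃ k l, k ^ q = k ∧ l ^ q = l ∧ ψ (k + l) ≠ ψ k + ψ l := by
      by_contra! h
      exact hadd' h
    have hbal : ∀ k l, β (τ * k) l = β k (τ * l) := by
      intro k l
      have h2 : ∀ x y, β x (τ * y) = β x (w * y) + β y (w * x) := by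
        intro x y
        have h1 := hβw x (w * y)
        rw [← mul_assoc, hww, show (τ * w + 1) * y = w * (τ * y) + y by ring, hβr, hβw,
          hβs (w * x)] at h1
        linear_combination h1 - CharTwo.add_self_eq_zero (β y (w * x))
      rw [h2 k l, hβs, h2 l k, add_comm]
    let R : AddSubgroup F :=
      { carrier := {r | r ^ q = r ∧ ∀ k l, k ^ q = k → l ^ q = l → β (r * k) l = β k (r * l)}
        zero_mem' := ⟨zero_pow hq0, fun k l _ _ => by
          have h0 : ∀ z, β 0 z = 0 := fun z => by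
            show Sq (0 + z) + Sq 0 + Sq z = 0
            rw [zero_add, hSq0, add_zero, CharTwo.add_self_eq_zero]
          rw [zero_mul, zero_mul, h0, hβs, h0]⟩
        add_mem' := fun {x y} hx hy => ⟨by rw [add_pow_q hn, hx.1, hy.1], fun k l hk hl => by
          rw [add_mul, add_mul, hβl, hβr, hx.2 k l hk hl, hy.2 k l hk hl]⟩
        neg_mem' := fun {x} hx => by rw [CharTwo.neg_eq]; exact hx }
    have h1R : (1 : F) ∈ R := ⟨one_pow q, fun k l _ _ => by rw [one_mul, one_mul]⟩
    have hmulR : ∀ x ∈ R, ∀ y ∈ R, x * y ∈ R := fun x hx y hy => by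
      refine ⟨by rw [mul_pow, hx.1, hy.1], fun k l hk hl => ?_⟩
      rw [mul_assoc, hx.2 (y * k) l (by rw [mul_pow, hy.1, hk]) hl,
        hy.2 k (x * l) hk (by rw [mul_pow, hx.1, hl])]
      ring_nf
    have hm := orderOf_le_of_trace (R := R) hw0 hτ0 h1R ⟨hτf, fun k l _ _ => hbal k l⟩ hmulR
      (m := n * 2) (by rw [Nat.card_eq_fintype_card, hcard, hn, ← pow_mul])
    -- `R` is proper
    have hproper : ∃ x, x ^ q = x ∧ x ∉ R := by
      by_contra! hall
      have hL : ∀ k, k ^ q = k → β 1 k = 0 := by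
        intro k hk
        set s := k ^ (q / 2)
        have hs : s ^ q = s := by rw [← pow_mul, mul_comm, pow_mul, hk]
        have hss : s * s = k := by
          have h2 : 2 ∣ q := hn ▸ dvd_pow_self 2 (by omega)
          rw [← pow_add, show q / 2 + q / 2 = q by omega, hk]
        have h1 := (hall s hs).2 1 s (one_pow q) hs
        rw [mul_one, hβd, hss] at h1
        exact h1.symm
      apply hne
      have h1 := (hall k₀ hk₀).2 1 l₀ (one_pow q) hl₀
      rw [mul_one, hL _ (by rw [mul_pow, hk₀, hl₀])] at h1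
      show Sq (k₀ + l₀) / c = Sq k₀ / c + Sq l₀ / c
      have e : Sq (k₀ + l₀) + Sq k₀ + Sq l₀ = 0 := h1
      rw [← add_div]
      congr 1
      linear_combination e - CharTwo.add_self_eq_zero (Sq k₀) - CharTwo.add_self_eq_zero (Sq l₀)
    obtain ⟨x, hxf, hxR⟩ := hproper
    let K : Finset F := Finset.univ.filter (fun y : F => y ^ q = y)
    have hKle : K.card ≤ q := by
      have hne' : (Polynomial.X ^ q - Polynomial.X : Polynomial F) ≠ 0 :=
        FiniteField.X_pow_card_sub_X_ne_zero F (by omega)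
      refine le_trans (Finset.card_le_card (t :=
        (Polynomial.X ^ q - Polynomial.X : Polynomial F).roots.toFinset) fun y hy => ?_) ?_
      · simp only [K, Finset.mem_filter] at hy
        rw [Multiset.mem_toFinset, Polynomial.mem_roots hne']
        simp [hy.2]
      · refine le_trans (Multiset.toFinset_card_le _) ?_
        refine le_trans (Polynomial.card_roots' _) ?_
        rw [FiniteField.X_pow_card_sub_X_natDegree_eq F (by omega)]
    have hsq : Nat.card R * Nat.card R ≤ q := by
      refine le_trans ?_ hKle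
      rw [← Nat.card_prod]
      let g : R × R → K := fun p => ⟨(p.1 : F) + p.2 * x, by
        simp only [K, Finset.mem_filter, Finset.mem_univ, true_and]
        rw [add_pow_q hn, mul_pow, p.1.2.1, p.2.2.1, hxf]⟩
      have hg : Function.Injective g := by
        rintro ⟨a, b⟩ ⟨a', b'⟩ h
        have h' : (a : F) + b * x = a' + b' * x := congrArg Subtype.val h
        by_cases hb : (b : F) = b'
        · rw [hb] at h'
          exact Prod.ext (Subtype.ext (add_right_cancel h')) (Subtype.ext hb)
        · exfalso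
          apply hxR
          -- `x = (a' - a) / (b - b')`, and the inverse is a power
          set e : F := (b : F) - b' with he
          have he0 : e ≠ 0 := sub_ne_zero.2 hb
          have heR : e ∈ R := sub_mem b.2 b'.2
          have hpow : ∀ j : ℕ, e ^ j ∈ R := fun j => by
            induction j with
            | zero => rw [pow_zero]; exact h1R
            | succ j ih => rw [pow_succ]; exact hmulR _ ih _ heR
          obtain ⟨j, hj⟩ : ∃ j, Fintype.card F - 1 = j + 1 :=
            ⟨Fintype.card F - 2, by have := Fintype.one_lt_card (α := F); omega⟩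
          have hpe := FiniteField.pow_card_sub_one_eq_one e he0
          rw [hj, pow_succ] at hpe
          have hx : x = e ^ j * ((a' : F) - a) := by
            have : e * x = (a' : F) - a := by rw [he]; linear_combination h'
            rw [← this, ← mul_assoc, hpe, one_mul]
          rw [hx]
          exact hmulR _ (hpow j) _ (sub_mem a'.2 a.2)
      have := Nat.card_le_card_of_injective g hg
      rwa [Nat.card_eq_fintype_card (α := K), Fintype.card_coe] at this
    set r := Nat.card R
    have h3 : q + 1 ≤ 3 * (r + 1) := by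
      rw [← hord, mul_comm]; exact Nat.mul_le_mul hd hm
    have hr3 : r ≤ 3 := by
      by_contra hgt
      push Not at hgt
      nlinarith
    have hr2 : r ≤ 2 := by
      by_contra hgt
      have : r = 3 := by omega
      rw [this] at hsq h3
      have : q = 9 ∨ q = 10 ∨ q = 11 := by omega
      have h2 : 2 ∣ q := hn ▸ dvd_pow_self 2 (by omega)
      have : q = 10 := by omega
      rw [hn] at this
      have : n < 4 := by
        by_contra hn4
        have := Nat.pow_le_pow_right (show 1 ≤ 2 by norm_num) (show 4 ≤ n by omega)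
        omega
      interval_cases n <;> simp at *
    have hn3 : n = 3 := by
      have hn4 : n < 4 := by
        by_contra hn4
        have := Nat.pow_le_pow_right (show 1 ≤ 2 by norm_num) (show 4 ≤ n by omega)
        omega
      interval_cases n
      · exfalso
        rw [hn] at hord
        have : d ≠ 0 := fun h => by rw [h, mul_zero] at hord; simp at hord
        have : orderOf w ≤ 3 := by omega
        interval_cases d <;> omega
      · rfl
    have hq8 : q = 8 := by rw [hn, hn3]; norm_num
    subst hq8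
    refine Or.inr ⟨rfl, c, ?_⟩
    -- a generator of the fixed field
    obtain ⟨u, huf, hu0, hu1⟩ : ∃ u : F, u ^ 8 = u ∧ u ≠ 0 ∧ u ≠ 1 := by
      by_cases hx0 : x = 0
      · exact absurd (hx0 ▸ R.zero_mem) hxR
      exact ⟨x, hxf, hx0, fun h => hxR (h ▸ h1R)⟩
    have hu7 : u ^ 7 = 1 := mul_right_cancel₀ hu0 (by rw [← pow_succ, huf, one_mul])
    have huord : orderOf u = 7 := by
      have : Fact (Nat.Prime 7) := ⟨by decide⟩
      exact orderOf_eq_prime hu7 hu1
    have hK' : ∀ k : F, k ^ 8 = k → k = 0 ∨ ∃ i, i < 7 ∧ k = u ^ i := by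
      intro k hk
      by_cases hk0 : k = 0
      · exact Or.inl hk0
      · refine Or.inr ?_
        have hprim : IsPrimitiveRoot u 7 := huord ▸ IsPrimitiveRoot.orderOf u
        obtain ⟨i, hi, he⟩ := hprim.eq_pow_of_pow_eq_one (ξ := k)
          (mul_right_cancel₀ hk0 (by rw [← pow_succ, hk, one_mul]))
        exact ⟨i, hi, he.symm⟩
    have hupf : ∀ i : ℕ, (u ^ i) ^ 8 = u ^ i := fun i => by rw [← pow_mul, mul_comm, pow_mul, huf]
    have hψpow : ∀ i : ℕ, ψ (u ^ i) = ψ u ^ i := fun i => by
      induction i with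
      | zero => rw [pow_zero, pow_zero, hψ1]
      | succ i ih => rw [pow_succ', pow_succ', hψmul u _ huf, ih]
    have hψu : ψ u ^ 8 = ψ u := by
      show (Sq u / c) ^ 8 = Sq u / c
      rw [div_pow, hreal, hreal]
    rcases hK' _ hψu with h0 | ⟨e, he7, he⟩
    · exact absurd (hanis u ((div_eq_zero_iff.1 h0).resolve_right hc0)) hu0
    have hψk : ∀ k, k ^ 8 = k → ψ k = k ^ e ∨ k = 0 := by
      intro k hk
      rcases hK' k hk with h | ⟨i, -, rfl⟩
      · exact Or.inr h
      · left
        rw [hψpow, he, ← pow_mul, ← pow_mul, mul_comm]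
    have hnadd : e ≠ 1 ∧ e ≠ 2 ∧ e ≠ 4 := by
      have hgen : ∀ j : ℕ, j ≠ 0 → e = j → (∀ a b : F, (a + b) ^ j = a ^ j + b ^ j) → False := by
        intro j hj hej hlin
        have hv : ∀ k, k ^ 8 = k → ψ k = k ^ j := fun k hk => by
          rcases hψk k hk with h | h
          · rw [h, hej]
          · show Sq k / c = k ^ j
            rw [h, hSq0, zero_div, zero_pow hj]
        exact hne (by rw [hv _ (by rw [add_pow_q hn, hk₀, hl₀]), hv _ hk₀, hv _ hl₀, hlin])
      refine ⟨fun h => hgen 1 one_ne_zero h fun a b => by simp,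
        fun h => hgen 2 two_ne_zero h fun a b => CharTwo.add_sq a b,
        fun h => hgen 4 (by norm_num) h fun a b => ?_⟩
      rw [show 4 = 2 * 2 from rfl, pow_mul, pow_mul, pow_mul, CharTwo.add_sq, CharTwo.add_sq]
    have he0 : e ≠ 0 := fun h => hu1 (hinjK u huf (by
      rw [h, pow_zero] at he
      exact (div_eq_one_iff_eq hc0).1 he))
    obtain ⟨j, hj, hje⟩ : ∃ j, (j = 1 ∨ j = 2 ∨ j = 4) ∧ (3 * j) % 7 = e := by
      rcases (show e = 3 ∨ e = 5 ∨ e = 6 by omega) with rfl | rfl | rfl
      · exact ⟨1, Or.inl rfl, rfl⟩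
      · exact ⟨4, Or.inr (Or.inr rfl), rfl⟩
      · exact ⟨2, Or.inr (Or.inl rfl), rfl⟩
    refine ⟨j, hc0, hreal 1, hj, fun k y hk => ?_⟩
    rw [hψ k y hk, mul_div_assoc]
    congr 1
    rcases hψk k hk with h | h
    · rw [h, ← pow_mul, ← hje]
      rcases hK' k hk with rfl | ⟨i, -, rfl⟩
      · rcases hj with rfl | rfl | rfl <;> norm_num
      · rw [← pow_mul, ← pow_mul]
        exact pow_eq_pow_of_modEq (by
          rw [Nat.ModEq]
          rw [Nat.mul_mod, Nat.mod_mod, ← Nat.mul_mod]) hu7
    · show Sq k / c = _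
      rw [h, hSq0, zero_div, zero_pow (by norm_num : 3 ≠ 0), zero_pow (by omega)]

end Cfsg.Agent.Lib.RankOneU3
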