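import Mathlib.FieldTheory.Finite.GaloisField
import Mathlib.Algebra.CharP.Two

/-!
# A large semiregular abelian group of automorphisms of an elementary abelian 2-group

An abelian group `T` acting freely on the nonzero elements of an elementary abelian group of order
`q ^ 2`, with `|T| * d = q ^ 2 - 1` and `d ≤ 3`, acts irreducibly, hence by scalars of the field
with `q ^ 2` elements.
-/

set_option autoImplicit false

namespace Cfsg.Agent.Lib.RankOneU3

/-- Coordinates for a large semiregular abelian group. -/
theorem exists_field_semiregular {U : Type*} [AddCommGroup U] [Finite U] {T : Type*} [CommGroup T]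
    [Finite T] (act : T → U → U) (hone : ∀ u, act 1 u = u)
    (hmul : ∀ k l u, act (k * l) u = act k (act l u))
    (hadd : ∀ k u w, act k (u + w) = act k u + act k w) (htwo : ∀ u : U, u + u = 0)
    (hfree : ∀ k u, u ≠ 0 → act k u = u → k = 1)
    {F : Type} [Field F] [Fintype F] {q d : ℕ} (hq : 4 ≤ q) (hq2 : Even q)
    (hU : Nat.card U = q ^ 2) (hF : Fintype.card F = q ^ 2) (hd : d ≤ 3)
    (hT : Nat.card T * d + 1 = q ^ 2) :
    ∃ (e : U ≃+ F) (g : T →* Fˣ), Function.Injective g ∧ ∀ k u, e (act k u) = (g k : F) * e u := by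
  classical
  let a : T → AddMonoid.End U := fun k => AddMonoidHom.mk' (act k) (hadd k)
  have hodd : Odd (Nat.card T) := by
    by_contra h
    rw [Nat.not_odd_iff_even] at h
    have h1 : Even (q ^ 2) := Nat.even_pow.2 ⟨hq2, two_ne_zero⟩
    rw [← hT, Nat.even_add_one] at h1
    exact h1 (h.mul_right d)
  -- irreducibility
  have hirr : ∀ W : AddSubgroup U, (∀ k, ∀ w ∈ W, act k w ∈ W) → W = ⊥ ∨ W = ⊤ := by
    intro W hW
    by_contra! hne
    obtain ⟨w0, hw0, hw0'⟩ : ∃ w ∈ W, w ≠ 0 := by
      by_contra! h
      exact hne.1 (eq_bot_iff.2 fun w hw => AddSubgroup.mem_bot.2 (h w hw))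
    obtain ⟨u0, hu0⟩ : ∃ u, u ∉ W := by
      by_contra! h
      exact hne.2 (eq_top_iff.2 fun u _ => h u)
    have hzero : ∀ k, act k 0 = 0 := fun k => map_zero (a k)
    have hcancel : ∀ k u, act k⁻¹ (act k u) = u := fun k u => by
      rw [← hmul, inv_mul_cancel, hone]
    -- freeness on the factor group
    have hquot : ∀ k, act k u0 - u0 ∈ W → k = 1 := by
      intro k hk
      by_contra hk1
      have hm : Odd (orderOf k) := hodd.of_dvd_nat (orderOf_dvd_natCard k)
      set s : U := ∑ i ∈ Finset.range (orderOf k), act (k ^ i) u0 with hs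
      have hfix : act k s = s := by
        show a k s = s
        rw [hs, map_sum]
        show ∑ i ∈ Finset.range (orderOf k), act k (act (k ^ i) u0) = _
        simp only [← hmul, ← pow_succ']
        have h1 := Finset.sum_range_succ' (fun i => act (k ^ i) u0) (orderOf k)
        rw [Finset.sum_range_succ, pow_orderOf_eq_one, pow_zero] at h1
        exact (add_right_cancel h1).symm
      have hs0 : s = 0 := by
        by_contra h
        exact hk1 (hfree k s h hfix)
      have hmem : ∀ i : ℕ, act (k ^ i) u0 - u0 ∈ W := by
        intro i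
        induction i with
        | zero => rw [pow_zero, hone, sub_self]; exact zero_mem _
        | succ i ih =>
          have h1 : act (k ^ (i + 1)) u0 - u0
              = a k (act (k ^ i) u0 - u0) + (act k u0 - u0) := by
            rw [map_sub]
            show _ = act k (act (k ^ i) u0) - act k u0 + _
            rw [← hmul, ← pow_succ']
            abel
          rw [h1]
          exact add_mem (hW k _ ih) hk
      have h2 : ∑ i ∈ Finset.range (orderOf k), (act (k ^ i) u0 - u0) ∈ W :=
        sum_mem fun i _ => hmem i
      rw [Finset.sum_sub_distrib, ← hs, hs0, zero_sub, Finset.sum_const, Finset.card_range] at h2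
      obtain ⟨j, hj⟩ := hm
      rw [hj, succ_nsmul, mul_nsmul, two_nsmul, htwo, nsmul_zero, zero_add, neg_mem_iff] at h2
      exact hu0 h2
    have hcW : Nat.card T + 1 ≤ Nat.card W := by
      let f : Option T → W := fun o => o.elim 0 fun k => ⟨act k w0, hW k w0 hw0⟩
      have hf : Function.Injective f := by
        have hne0 : ∀ k, act k w0 ≠ 0 := fun k h => hw0' (by rw [← hcancel k w0, h, hzero])
        rintro (- | k) (- | l) h
        · rfl
        · exact absurd (congrArg Subtype.val h).symm (hne0 l)
        · exact absurd (congrArg Subtype.val h) (hne0 k)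
        · have h' : act k w0 = act l w0 := congrArg Subtype.val h
          have := hfree (l⁻¹ * k) w0 hw0' (by rw [hmul, h', hcancel])
          rw [inv_mul_eq_one] at this
          rw [this]
      have := Nat.card_le_card_of_injective f hf
      rwa [Finite.card_option] at this
    have hcQ : Nat.card T + 1 ≤ Nat.card (U ⧸ W) := by
      let f : Option T → U ⧸ W := fun o => o.elim 0 fun k => ((act k u0 : U) : U ⧸ W)
      have hf : Function.Injective f := by
        have hne0 : ∀ k, ((act k u0 : U) : U ⧸ W) ≠ 0 := fun k h => hu0 (by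
          rw [QuotientAddGroup.eq_zero_iff] at h
          rw [← hcancel k u0]
          exact hW _ _ h)
        rintro (- | k) (- | l) h
        · rfl
        · exact absurd h.symm (hne0 l)
        · exact absurd h (hne0 k)
        · have h1 : act k u0 - act l u0 ∈ W := QuotientAddGroup.eq_iff_sub_mem.1 h
          have h2 : act (l⁻¹ * k) u0 - u0 ∈ W := by
            have h3 := hW l⁻¹ _ h1
            rw [show act l⁻¹ (act k u0 - act l u0) = act l⁻¹ (act k u0) - act l⁻¹ (act l u0) from
              map_sub (a l⁻¹) _ _, hcancel, ← hmul] at h3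
            exact h3
          have := hquot _ h2
          rw [inv_mul_eq_one] at this
          rw [this]
      have := Nat.card_le_card_of_injective f hf
      rwa [Finite.card_option] at this
    have h := AddSubgroup.card_eq_card_quotient_mul_card_addSubgroup W
    rw [hU] at h
    have h3 : Nat.card T * 3 + 1 ≥ q ^ 2 := by
      rw [← hT]
      exact Nat.add_le_add_right (Nat.mul_le_mul_left _ hd) 1
    have h4 := Nat.mul_le_mul hcQ hcW
    rw [← h] at h4
    have h5 : q ^ 2 ≥ 16 := by nlinarith
    have h6 : Nat.card T ≤ 1 := by nlinarith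
    omega
  -- the commutative ring generated by the operators
  let R : Subring (AddMonoid.End U) := Subring.closure (Set.range a)
  have hcomm : R ≤ Subring.centralizer (R : Set (AddMonoid.End U)) := by
    have h1 : R ≤ Subring.centralizer (Set.range a) := Subring.closure_le.2 (by
      rintro _ ⟨k, rfl⟩
      refine Subring.mem_centralizer_iff.2 ?_
      rintro _ ⟨l, rfl⟩
      refine AddMonoidHom.ext fun u => ?_
      show act l (act k u) = act k (act l u)
      rw [← hmul, ← hmul, mul_comm])
    refine Subring.closure_le.2 ?_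
    rintro _ ⟨k, rfl⟩
    refine Subring.mem_centralizer_iff.2 fun f hf => ?_
    exact (Subring.mem_centralizer_iff.1 (h1 hf) (a k) ⟨k, rfl⟩).symm
  have hRc : ∀ f ∈ R, ∀ g ∈ R, f * g = g * f := fun f hf g hg =>
    (Subring.mem_centralizer_iff.1 (hcomm hg) f hf)
  have haR : ∀ k, a k ∈ R := fun k => Subring.subset_closure ⟨k, rfl⟩
  have hker : ∀ f ∈ R, ∀ u, u ≠ 0 → f u = 0 → f = 0 := by
    intro f hf u hu h
    rcases hirr (AddMonoidHom.ker f) (fun k w hw => by
      show f (a k w) = 0
      have e : f (a k w) = a k (f w) := DFunLike.congr_fun (hRc f hf _ (haR k)) w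
      rw [e, show f w = 0 from hw, map_zero]) with h1 | h1
    · exact absurd (AddSubgroup.mem_bot.1 (h1 ▸ (show u ∈ AddMonoidHom.ker f from h))) hu
    · exact AddMonoidHom.ext fun w => (h1 ▸ AddSubgroup.mem_top w : w ∈ AddMonoidHom.ker f)
  obtain ⟨u0, hu0⟩ : ∃ u : U, u ≠ 0 := by
    have : Nontrivial U := Finite.one_lt_card_iff_nontrivial.1 (by rw [hU]; nlinarith)
    exact exists_ne 0
  let evh : R →+ U := AddMonoidHom.mk' (fun f : R => f.1 u0) fun _ _ => rfl
  have hinj : Function.Injective evh := (injective_iff_map_eq_zero evh).2 fun f hf =>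
    Subtype.ext (hker f f.2 u0 hu0 hf)
  have hsurj : Function.Surjective evh := by
    rcases hirr evh.range (fun k w hw => by
      obtain ⟨f, rfl⟩ := hw
      exact ⟨⟨a k * f.1, mul_mem (haR k) f.2⟩, rfl⟩) with h | h
    · have h1 : evh 1 ∈ evh.range := ⟨1, rfl⟩
      rw [h, AddSubgroup.mem_bot] at h1
      exact absurd h1 hu0
    · exact AddMonoidHom.range_eq_top.1 h
  have : Finite R := Finite.of_injective evh hinj
  have hfield : IsField R := by
    refine ⟨⟨0, 1, fun e => hu0 ?_⟩, fun f g => Subtype.ext (hRc f f.2 g g.2), fun {f} hf => ?_⟩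
    · exact (congrArg evh e).symm.trans (map_zero evh)
    · have hmulinj : Function.Injective fun g : R => f * g := by
        intro g g' h
        refine hinj ?_
        have h' : (f : AddMonoid.End U) (evh g) = (f : AddMonoid.End U) (evh g') :=
          congrArg (fun x : R => x.1 u0) h
        by_contra hne
        refine hf (Subtype.ext (hker f f.2 _ (sub_ne_zero.2 hne) ?_))
        rw [map_sub, h', sub_self]
      obtain ⟨g, hg⟩ := Finite.surjective_of_injective hmulinj 1
      exact ⟨g, hg⟩
  letI : Field R := hfield.toField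
  letI : Fintype R := Fintype.ofFinite R
  let ev : R ≃+ U := AddEquiv.ofBijective evh ⟨hinj, hsurj⟩
  let ρ : R ≃+* F := FiniteField.ringEquivOfCardEq (K := R) (K' := F) (by
    rw [hF, ← hU, ← Nat.card_congr ev.toEquiv, Nat.card_eq_fintype_card])
  let gm : T →* R :=
    { toFun := fun k => ⟨a k, haR k⟩
      map_one' := Subtype.ext (AddMonoidHom.ext hone)
      map_mul' := fun k l => Subtype.ext (AddMonoidHom.ext fun u => hmul k l u) }
  refine ⟨ev.symm.trans ρ.toAddEquiv, ((ρ : R →+* F).toMonoidHom.comp gm).toHomUnits,
    fun k l h => ?_, fun k u => ?_⟩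
  · have h1 : ρ (gm k) = ρ (gm l) := congrArg Units.val h
    have h2 : act k u0 = act l u0 := congrArg (fun f : R => f.1 u0) (ρ.injective h1)
    have := hfree (l⁻¹ * k) u0 hu0 (by rw [hmul, h2, ← hmul, inv_mul_cancel, hone])
    rwa [inv_mul_eq_one, eq_comm] at this
  · show ρ (ev.symm (act k u)) = ρ (gm k) * ρ (ev.symm u)
    rw [← map_mul]
    congr 1
    apply ev.injective
    rw [ev.apply_symm_apply]
    show act k u = act k ((ev.symm u).1 u0)
    exact congrArg (act k) (ev.apply_symm_apply u).symm

end Cfsg.Agent.Lib.RankOneU3
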