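import Cfsg.Agent.Lib.RankOneU3.Scal
import Cfsg.Agent.Lib.RankOneU3.TorusField
import Cfsg.Agent.Lib.RankOneU3.NormForm
import Cfsg.Agent.Lib.RankOneW.Basic
import Cfsg.Agent.Lib.U3Rec.Build
import Cfsg.Agent.Lib.PSU3Index.Field

/-!
# Coordinates of `Q` modulo the involutions and the squaring form

In the unitary case the inverted elements and `W` act on `Q / Z` by scalars of the field with `q ^ 2`
elements; the squaring map to the involutions is then a norm, or the pocket `q = 8`.
-/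

set_option autoImplicit false
set_option linter.unusedSectionVars false
set_option linter.style.haveILetI false

namespace Cfsg.Agent.Lib.RankOneU3

open MulAction
open Cfsg.Agent.RankOne (twoStab invSub invK wSub qSize IsUnitary)
open Cfsg.Agent.U3Rec (cq conjAct exists_fixed_in_coset)
open Cfsg.Agent.PSU3Index

universe u

variable {G : Type u} {Ω : Type*} [Group G] [MulAction G Ω] {a : Ω} {t : G} {Q : Subgroup G}
variable [Finite G] (hS : Cfsg.IsRankOneSetup G Ω a t Q)
  (h2 : ∃ x y : G, x ≠ 1 ∧ y ≠ 1 ∧ x ≠ y ∧ x * x = 1 ∧ y * y = 1 ∧ x * y = y * x)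

/-- Coordinates modulo the involutions. -/
structure QuotCoord {F : Type*} [Field F] (q : ℕ) (κ : Q → F) (g : G → F) : Prop where
  add : ∀ x y, κ (x * y) = κ x + κ y
  zero_iff : ∀ x, κ x = 0 ↔ (x : G) ∈ invSub hS h2
  surj : Function.Surjective κ
  act : ∀ d : G, d ∈ invK a t ∨ d ∈ wSub a t → ∀ (hd : d ∈ twoStab a t) (x : Q),
    κ (cq hS hd x) = g d * κ x
  nu_ne : ∀ k ∈ invK a t, g k ≠ 0
  nu_real : ∀ k ∈ invK a t, g k ^ q = g k
  nu_inv : ∀ k ∈ invK a t, g k⁻¹ = (g k)⁻¹
  nu_one : ∀ k ∈ invK a t, g k = 1 → k = 1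
  nu_onto : ∀ r : F, r ^ q = r → r ≠ 0 → ∃ k ∈ invK a t, g k = r

/-- An element of `D` commuting with all involutions of `G_a` and inverted by `t` is trivial. -/
theorem inverted_eq_one {k : G} (hk : k ∈ invK a t) {z : Q} (hz : (z : G) ∈ invSub hS h2) (hz1 : z ≠ 1)
    (h : k * (z : G) = (z : G) * k) : k = 1 := by
  have hzi : (z : G) ∈ Cfsg.involutionsIn (stabilizer G a : Set G) :=
    hz.resolve_left fun e => hz1 (Subtype.ext e)
  obtain ⟨hu, hua⟩ := (RankOne.mem_involutionsIn hS).1 hzi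
  refine RankOne.inverted_conj_inj hS hu hua ((RankOne.mem_invK hS h2).1 hk)
    ((RankOne.mem_invK hS h2).1 (one_mem _)) ?_
  rw [inv_one, one_mul, mul_one, mul_assoc, ← h, inv_mul_cancel_left]

variable [FaithfulSMul G Ω] (hU : IsUnitary a t Q) {F : Type} [Field F] [Fintype F]
  (C : Ctx F (qSize a t))
include hS h2 hU C

theorem card_data : Nat.card Q = qSize a t ^ 3 ∧ Nat.card (invSub hS h2) = qSize a t ∧
    Nat.card (invK a t) + 1 = qSize a t ∧ Fintype.card F = qSize a t ^ 2 := by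
  refine ⟨hU.card_eq, (RankOne.qSize_eq hS h2).symm, ?_, ?_⟩
  · rw [RankOne.card_invK hS h2, RankOne.qSize_eq hS h2]
  · rw [← Nat.card_eq_fintype_card]; exact card_F C

set_option maxHeartbeats 800000 in
/-- The scalars. -/
theorem exists_quot : ∃ (κ : Q → F) (g : G → F), QuotCoord hS h2 (qSize a t) κ g ∧
    ∃ w ∈ wSub a t, (g w) ^ (qSize a t + 1) = 1 ∧
      ∃ d, d ≤ 3 ∧ orderOf (g w) * d = qSize a t + 1 := by
  classical
  obtain ⟨hcQ, hcA, hcK, hcF⟩ := card_data hS h2 hU C
  have hq4 := RankOne.four_le_qSize hS h2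
  obtain ⟨n, hn2, hn⟩ := RankOne.qSize_pow hS h2
  set q := qSize a t with hq
  set A := (invSub hS h2).subgroupOf Q with hA
  have hcentral : A ≤ Subgroup.center Q := fun c hc => Subgroup.mem_center_iff.2 fun z =>
    Subtype.ext (RankOne.invSub_comm hS h2 (Subgroup.mem_subgroupOf.1 hc) z.2).symm
  have : A.Normal := ⟨fun c hc g => by
    rwa [Subgroup.mem_center_iff.1 (hcentral hc) g, mul_inv_cancel_right]⟩
  have hsqA : ∀ c ∈ A, c * c = 1 := fun c hc =>
    Subtype.ext (RankOne.invSub_sq hS h2 (Subgroup.mem_subgroupOf.1 hc))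
  have hmap : ∀ (d : twoStab a t), ∀ c ∈ A, conjAct hS d c ∈ A := fun d c hc =>
    Subgroup.mem_subgroupOf.2 (RankOne.conj_mem_invSub hS h2 d.2 (Subgroup.mem_subgroupOf.1 hc))
  have hcA' : Nat.card A = q := by
    rw [Nat.card_congr (Subgroup.subgroupOfEquivOfLe fun x hx => RankOne.invSub_le_Q hS h2 hx).toEquiv]
    exact hcA
  have hqs : ∀ u : Q ⧸ A, u * u = 1 := fun u => by
    obtain ⟨x, rfl⟩ := QuotientGroup.mk_surjective u
    rw [← QuotientGroup.mk_mul, QuotientGroup.eq_one_iff]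
    exact Subgroup.mem_subgroupOf.2 (RankOne.cube_sq_mem hS h2 hU.toIsCube x.2)
  letI : CommGroup (Q ⧸ A) :=
    { (inferInstance : Group (Q ⧸ A)) with
      mul_comm := fun a b => by
        have ha := inv_eq_of_mul_eq_one_right (hqs a)
        have hb := inv_eq_of_mul_eq_one_right (hqs b)
        have hab := inv_eq_of_mul_eq_one_right (hqs (a * b))
        rw [mul_inv_rev, ha, hb] at hab
        exact hab.symm }
  -- the torus
  obtain ⟨k₀, -, hgen, -, -⟩ := RankOne.exists_generator hS h2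
  have hKcomm : ∀ k l : invK a t, k * l = l * k := fun k l => by
    obtain ⟨i, hi⟩ := (hgen k).1 ((RankOne.mem_invK hS h2).1 k.2)
    obtain ⟨j, hj⟩ := (hgen l).1 ((RankOne.mem_invK hS h2).1 l.2)
    refine Subtype.ext ?_
    show (k : G) * l = l * k
    rw [← hi, ← hj]
    exact (((Commute.refl k₀).zpow_left i).zpow_right j).eq
  letI : CommGroup (invK a t) := { (inferInstance : Group (invK a t)) with mul_comm := hKcomm }
  letI : CommGroup (wSub a t) :=
    { (inferInstance : Group (wSub a t)) with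
      mul_comm := haveI := hU.isCyclic; fun x y => (IsCyclic.isMulCommutative (α := wSub a t)).is_comm.comm x y }
  have hKW : ∀ (k : invK a t) (w : wSub a t), (w : G) * k = k * w := fun k w =>
    RankOne.wSub_comm_inverted hS h2 w.2 ((RankOne.mem_invK hS h2).1 k.2)
  let ι : invK a t × wSub a t →* twoStab a t :=
    { toFun := fun p => ⟨p.1 * p.2, mul_mem (RankOne.invK_le hS p.1.2) (RankOne.wSub_le hS h2 p.2.2)⟩
      map_one' := Subtype.ext (one_mul (1 : G))
      map_mul' := fun p r => Subtype.ext (by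
        show ((p.1 : G) * r.1) * ((p.2 : G) * r.2) = p.1 * p.2 * (r.1 * r.2)
        calc _ = (p.1 : G) * ((r.1 : G) * p.2) * r.2 := by group
          _ = _ := by rw [← hKW r.1 p.2]; group) }
  let M : twoStab a t → Q ⧸ A →* Q ⧸ A := fun d =>
    QuotientGroup.map A A (conjAct hS d).toMonoidHom fun c hc => hmap d c hc
  have hM : ∀ d (x : Q), M d (x : Q ⧸ A) = ((conjAct hS d x : Q) : Q ⧸ A) := fun d x => rfl
  have hMmul : ∀ d d' (u : Q ⧸ A), M (d * d') u = M d (M d' u) := fun d d' u => by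
    obtain ⟨x, rfl⟩ := QuotientGroup.mk_surjective u
    rw [hM, hM, hM, map_mul, MulAut.mul_apply]
  -- freeness
  have hfree : ∀ p : invK a t × wSub a t, ∀ x : Q, x ∉ A →
      x⁻¹ * conjAct hS (ι p) x ∈ A → p = 1 := by
    intro p x hx hfix
    obtain ⟨b, hb, hb'⟩ := exists_fixed_in_coset A hcentral hsqA (conjAct hS (ι p)) (hmap _)
      (m := orderOf (ι p)) (by rw [← Subgroup.orderOf_coe]; exact RankOne.odd_orderOf hS.odd_card (ι p).2)
      (by rw [← map_pow, pow_orderOf_eq_one, map_one]) hfix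
    set x' := x * b with hx'
    have hx'A : x' ∉ A := fun h => hx (by simpa [hx'] using mul_mem h (inv_mem hb))
    have hc : (p.1 : G) * p.2 * x' = (x' : G) * (p.1 * p.2) :=
      mul_inv_eq_iff_eq_mul.1 (congrArg Subtype.val hb')
    have hzz : x' * x' ≠ 1 := fun h => hx'A (Subgroup.mem_subgroupOf.2
      (RankOne.mem_invSub_of_sq hS h2 x'.2 (congrArg Subtype.val h)))
    have hzZ : ((x' * x' : Q) : G) ∈ invSub hS h2 := RankOne.cube_sq_mem hS h2 hU.toIsCube x'.2
    have hwz := ((RankOne.mem_wSub hS h2).1 p.2.2).2 _ hzZ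
    have hcz : (p.1 : G) * ((p.2 : G) * ((x' * x' : Q) : G)) = ((x' * x' : Q) : G) * ((p.1 : G) * p.2) := by
      push_cast
      calc (p.1 : G) * ((p.2 : G) * ((x' : G) * x')) = (p.1 : G) * p.2 * x' * x' := by group
        _ = (x' : G) * ((p.1 : G) * p.2) * x' := by rw [hc]
        _ = (x' : G) * ((p.1 : G) * p.2 * x') := by group
        _ = _ := by rw [hc]; group
    rw [hwz] at hcz
    replace hcz : (p.1 : G) * ((x' * x' : Q) : G) = ((x' * x' : Q) : G) * (p.1 : G) :=
      mul_right_cancel (b := (p.2 : G)) (by simpa only [mul_assoc] using hcz)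
    have hk1 : p.1 = 1 := Subtype.ext (inverted_eq_one hS h2 p.1.2 hzZ hzz hcz)
    rw [hk1, Subgroup.coe_one, one_mul] at hc
    have hw1 : p.2 = 1 := by
      by_contra hne
      exact hx'A (Subgroup.mem_subgroupOf.2 (RankOne.cent_wSub hS h2 hU.toIsCube p.2.2
        (fun h => hne (Subtype.ext h)) x'.2 hc))
    exact Prod.ext hk1 hw1
  obtain ⟨d, hd, hdc⟩ := hU.card_w
  have hd3 : d ≤ 3 := Nat.le_of_dvd (by norm_num) (hd.trans (Nat.gcd_dvd_left _ _))
  obtain ⟨e, g, hginj, heg⟩ := exists_field_semiregular (U := Additive (Q ⧸ A))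
    (T := invK a t × wSub a t) (fun p u => Additive.ofMul (M (ι p) u.toMul))
    (fun u => by
      show Additive.ofMul (M (ι 1) u.toMul) = u
      obtain ⟨x, hx⟩ := QuotientGroup.mk_surjective u.toMul
      rw [← hx, map_one, hM, map_one, MulAut.one_apply, hx]
      rfl)
    (fun p r u => by
      show Additive.ofMul (M (ι (p * r)) u.toMul) = Additive.ofMul (M (ι p) (M (ι r) u.toMul))
      rw [map_mul, hMmul])
    (fun p u v => by
      show Additive.ofMul (M (ι p) (u.toMul * v.toMul)) = _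
      rw [map_mul]; rfl)
    (fun u => Additive.toMul.injective (hqs u.toMul))
    (fun p u hu hfix => by
      obtain ⟨x, hx⟩ := QuotientGroup.mk_surjective u.toMul
      refine hfree p x (fun h => hu (Additive.toMul.injective
        (hx.symm.trans ((QuotientGroup.eq_one_iff x).2 h)))) (QuotientGroup.eq.1 ?_)
      have h : M (ι p) u.toMul = u.toMul := congrArg Additive.toMul hfix
      rw [← hx, hM] at h
      exact h.symm)
    (F := F) (q := q) (d := d) hq4 (hn ▸ (Nat.even_pow.2 ⟨even_two, by omega⟩))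
    (by
      have h := A.card_eq_card_quotient_mul_card_subgroup
      rw [hcA', hcQ, pow_succ] at h
      exact (Nat.eq_of_mul_eq_mul_right (by omega) h).symm)
    hcF hd3
    (by
      rw [Nat.card_prod, mul_assoc, hdc, ← hq]
      obtain ⟨m, hm⟩ : ∃ m, q = m + 1 := ⟨q - 1, by omega⟩
      rw [show Nat.card (invK a t) = m by omega, hm]; ring)
  let κ : Q → F := fun x => e (Additive.ofMul (x : Q ⧸ A))
  let gf : G → F := fun d =>
    if h : d ∈ invK a t then (g (⟨d, h⟩, 1) : F)
    else if h : d ∈ wSub a t then (g (1, ⟨d, h⟩) : F) else 1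
  have hgK : ∀ k : invK a t, gf k = (g (k, 1) : F) := fun k => dif_pos k.2
  have hgW : ∀ w : wSub a t, gf w = (g (1, w) : F) := fun w => by
    by_cases h : (w : G) ∈ invK a t
    · have e1 : t * (w : G) * t = w := by
        rw [← RankOne.wSub_comm_t hS h2 w.2, mul_assoc, hS.mul_self, mul_one]
      have e2 := RankOne.tkt_eq hS h2 h
      rw [e1] at e2
      have e3 : (w : G) ^ 2 = 1 := by
        rw [pow_two]
        nth_rewrite 2 [e2]
        exact mul_inv_cancel _
      have hw1 : (w : G) = 1 := by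
        obtain ⟨j, hj⟩ := RankOne.odd_orderOf hS.odd_card (RankOne.wSub_le hS h2 w.2)
        have := pow_orderOf_eq_one (w : G)
        rwa [hj, pow_succ, pow_mul, e3, one_pow, one_mul] at this
      have hw : w = 1 := Subtype.ext hw1
      subst hw
      rw [show gf ((1 : wSub a t) : G) = (g (⟨_, h⟩, 1) : F) from dif_pos h]
      rw [show ((⟨((1 : wSub a t) : G), h⟩ : invK a t), (1 : wSub a t)) = (1, 1) from Prod.ext (Subtype.ext hw1) rfl]
    · show (dite _ _ _ : F) = _
      rw [dif_neg h, dif_pos w.2]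
  have hact : ∀ p : invK a t × wSub a t, ∀ x, κ (conjAct hS (ι p) x) = (g p : F) * κ x := fun p x =>
    heg p (Additive.ofMul (x : Q ⧸ A))
  have hreal : ∀ k : invK a t, gf k ^ q = gf k := fun k => by
    rw [hgK, ← Units.val_pow_eq_pow_val, ← map_pow]
    refine congrArg (fun u => ((g u : Fˣ) : F)) (Prod.ext ?_ (one_pow q))
    show k ^ q = k
    rw [show q = Nat.card (invK a t) + 1 from hcK.symm, pow_succ, pow_card_eq_one', one_mul]
  refine ⟨κ, gf, ⟨fun x y => ?_, fun x => ?_, fun y => ?_, ?_, fun k hk => ?_,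
    fun k hk => hreal ⟨k, hk⟩, fun k hk => ?_, fun k hk h => ?_, fun r hr hr0 => ?_⟩, ?_⟩
  · show e (Additive.ofMul ((x : Q ⧸ A) * (y : Q ⧸ A))) = _
    rw [ofMul_mul, map_add]
  · show e _ = 0 ↔ _
    rw [map_eq_zero_iff _ e.injective]
    exact (QuotientGroup.eq_one_iff x).trans Subgroup.mem_subgroupOf
  · obtain ⟨x, hx⟩ := QuotientGroup.mk_surjective (e.symm y).toMul
    exact ⟨x, by show e (Additive.ofMul (x : Q ⧸ A)) = y; rw [hx]; simp⟩
  · rintro d (hd' | hd') hd x
    · rw [show gf d = _ from hgK ⟨d, hd'⟩, ← hact]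
      exact congrArg κ (Subtype.ext (by simp [conjAct, cq, ι]))
    · rw [show gf d = _ from hgW ⟨d, hd'⟩, ← hact]
      exact congrArg κ (Subtype.ext (by simp [conjAct, cq, ι]))
  · rw [show gf k = _ from hgK ⟨k, hk⟩]; exact Units.ne_zero _
  · rw [show gf k⁻¹ = _ from hgK ⟨k⁻¹, inv_mem hk⟩, show gf k = _ from hgK ⟨k, hk⟩,
      ← Units.val_inv_eq_inv_val, ← map_inv]
    exact congrArg (fun u => ((g u : Fˣ) : F)) (Prod.ext rfl inv_one.symm)
  · rw [show gf k = _ from hgK ⟨k, hk⟩] at h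
    have h' : g (⟨k, hk⟩, 1) = 1 := Units.ext h
    exact congrArg (fun p => ((p.1 : invK a t) : G)) (hginj (h'.trans (map_one g).symm))
  · have : Fintype (invK a t) := Fintype.ofFinite _
    let φ : invK a t → {r : Hermitian.fixed C.σ // r ≠ 0} := fun k =>
      ⟨⟨gf k, by rw [Hermitian.mem_fixed, C.hσ]; exact hreal k⟩,
        fun h => Units.ne_zero (g (k, 1)) ((hgK k).symm.trans (congrArg Subtype.val h))⟩
    have hφ : Function.Injective φ := fun k l h => by
      have h' : gf k = gf l := congrArg (fun r => ((r.1 : Hermitian.fixed C.σ) : F)) h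
      rw [hgK, hgK] at h'
      exact congrArg Prod.fst (hginj (Units.ext h'))
    have hc : Nat.card {r : Hermitian.fixed C.σ // r ≠ 0} + 1 = q := by
      have := Fintype.ofFinite (Hermitian.fixed C.σ)
      rw [Nat.card_eq_fintype_card, Fintype.card_subtype_compl, Fintype.card_subtype_eq,
        ← Nat.card_eq_fintype_card, C.hq]
      omega
    obtain ⟨k, hk⟩ := ((Nat.bijective_iff_injective_and_card φ).2 ⟨hφ, by omega⟩).2
      ⟨⟨r, by rw [Hermitian.mem_fixed, C.hσ]; exact hr⟩, fun h => hr0 (congrArg Subtype.val h)⟩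
    exact ⟨k, k.2, congrArg (fun r => ((r.1 : Hermitian.fixed C.σ) : F)) hk⟩
  · obtain ⟨w, hw⟩ := (IsCyclic.exists_ofOrder_eq_natCard (α := wSub a t) (h := hU.isCyclic))
    refine ⟨w, w.2, ?_, d, hd3, ?_⟩
    · rw [hgW, ← Units.val_pow_eq_pow_val, ← map_pow, ← hdc, ← hw]
      rw [show (((1 : invK a t), w) ^ (orderOf w * d)) = 1 from Prod.ext (one_pow _)
        (by rw [Prod.pow_snd, pow_mul, pow_orderOf_eq_one, one_pow]; rfl), map_one, Units.val_one]
    · rw [hgW, orderOf_units, orderOf_injective g hginj, Prod.orderOf]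
      simp [hw, hdc, hq]

end Cfsg.Agent.Lib.RankOneU3
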