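import Cfsg.Agent.Lib.RankOneU3.CentType
import Cfsg.Agent.Lib.Involutions.StronglyEmbedded
import Cfsg.Prelude.Def_Involutions
import Mathlib.Algebra.CharP.Two
import Mathlib.FieldTheory.Finite.Basic

/-!
A group with one class of involutions whose centralisers have the shape of those of `PGU₃(q)`, `q` even: the
normaliser of the group of central involutions is strongly embedded.
-/

set_option autoImplicit false
set_option linter.unusedSectionVars false
set_option linter.style.haveILetI false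

namespace Cfsg.Agent.RankOneU3

variable {G : Type*} [Group G] [Finite G] {F : Type*} [Field F] [Fintype F] [CharP F 2]

/-- The centraliser of the chosen involution. -/
abbrev cC (x₀ : G) : Subgroup G := Subgroup.centralizer ({x₀} : Set G)

variable {q : ℕ} {x₀ : G} {A : Subgroup (cC x₀)} {χ : cC x₀ →* Fˣ} {c : cC x₀ → F}

/-- The hypotheses: one class of involutions, centraliser type, no normal Sylow `2`-subgroup. -/
structure EntryHyp (q : ℕ) (x₀ : G) (A : Subgroup (cC x₀)) (χ : cC x₀ →* Fˣ) (c : cC x₀ → F) : Prop where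
  two_lt : 2 < q
  card_F : Fintype.card F = q ^ 2
  order_x : orderOf x₀ = 2
  ctype : CentType q A χ c
  conj : ∀ s t : G, orderOf s = 2 → orderOf t = 2 → IsConj s t
  noNormal : ∀ P : Sylow 2 G, ¬ (P : Subgroup G).Normal

/-- The central involutions with `1`. -/
abbrev AG (A : Subgroup (cC x₀)) : Subgroup G := A.map (cC x₀).subtype

/-- The normal subgroup of order `q³` of the centraliser. -/
abbrev TG (χ : cC x₀ →* Fˣ) : Subgroup G := χ.ker.map (cC x₀).subtype

/-- The normaliser of the central involutions. -/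
abbrev BG (A : Subgroup (cC x₀)) : Subgroup G := Subgroup.normalizer ((AG A : Subgroup G) : Set G)

variable (h : EntryHyp q x₀ A χ c)
include h

theorem q_even : ∃ n, n ≠ 0 ∧ q = 2 ^ n := by
  obtain ⟨m, -, hm⟩ := FiniteField.card F 2
  obtain ⟨n, -, hqn⟩ := (Nat.dvd_prime_pow Nat.prime_two).1 (show q ∣ 2 ^ (m : ℕ) by
    rw [← hm, h.card_F]; exact dvd_pow_self q two_ne_zero)
  refine ⟨n, ?_, hqn⟩
  rintro rfl
  have := h.two_lt
  simp [hqn] at this

theorem even_q : Even q := by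
  obtain ⟨n, hn, rfl⟩ := q_even h
  exact Nat.even_pow.2 ⟨even_two, hn⟩

theorem odd_pred : Odd (q - 1) :=
  Nat.Even.sub_odd (by have := h.two_lt; omega) (even_q h) odd_one

theorem odd_succ : Odd (q + 1) := (even_q h).add_one

theorem coprime_pred : (q ^ 3).Coprime (q - 1) := by
  obtain ⟨n, -, hn⟩ := q_even h
  have h2 : Nat.Coprime 2 (q - 1) := Nat.coprime_two_left.2 (odd_pred h)
  rw [hn] at h2 ⊢
  rw [← pow_mul]
  exact h2.pow_left _

theorem coprime_succ : (q ^ 3).Coprime (q + 1) := by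
  obtain ⟨n, -, hn⟩ := q_even h
  have h2 : Nat.Coprime 2 (q + 1) := Nat.coprime_two_left.2 (odd_succ h)
  rw [hn] at h2 ⊢
  rw [← pow_mul]
  exact h2.pow_left _

theorem coprime_pred_succ : (q - 1).Coprime (q + 1) := by
  have e : q + 1 = q - 1 + 2 := by have := h.two_lt; omega
  rw [e, Nat.coprime_self_add_right, Nat.coprime_two_right]
  exact odd_pred h

omit h in
theorem sq_one_of_order {y : G} (hy : orderOf y = 2) : y * y = 1 := by
  rw [← pow_two, ← hy, pow_orderOf_eq_one]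

omit h in
theorem ne_one_of_order {y : G} (hy : orderOf y = 2) : y ≠ 1 := fun e => by
  rw [e, orderOf_one] at hy; omega

omit h in
theorem order_of_sq {y : G} (hy : y * y = 1) (hne : y ≠ 1) : orderOf y = 2 :=
  orderOf_eq_prime (by rw [pow_two, hy]) hne

theorem mem_AG {y : G} : y ∈ AG A ↔ y ∈ cC x₀ ∧ y * y = 1 := by
  constructor
  · rintro ⟨z, hz, rfl⟩
    exact ⟨z.2, congrArg Subtype.val ((h.ctype.invol z).2 hz)⟩
  · rintro ⟨hy, hyy⟩
    exact ⟨⟨y, hy⟩, (h.ctype.invol _).1 (Subtype.ext hyy), rfl⟩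

theorem x_mem : x₀ ∈ AG A :=
  (mem_AG h).2 ⟨Subgroup.mem_centralizer_singleton_iff.2 rfl, sq_one_of_order h.order_x⟩

theorem AG_comm {a y : G} (ha : a ∈ AG A) (hy : y ∈ cC x₀) : a * y = y * a := by
  obtain ⟨z, hz, rfl⟩ := ha
  exact (congrArg Subtype.val (Subgroup.mem_center_iff.1 (h.ctype.central hz) ⟨y, hy⟩)).symm

theorem AG_sq {a : G} (ha : a ∈ AG A) : a * a = 1 := ((mem_AG h).1 ha).2

theorem AG_order {a : G} (ha : a ∈ AG A) (hne : a ≠ 1) : orderOf a = 2 := order_of_sq (AG_sq h ha) hne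

theorem card_AG : Nat.card (AG A) = q := by
  rw [Subgroup.card_map_of_injective (cC x₀).subtype_injective, h.ctype.card_A]

theorem card_cC {a : G} (ha : orderOf a = 2) :
    Nat.card (Subgroup.centralizer ({a} : Set G)) = q ^ 3 * (q + 1) := by
  obtain ⟨g, rfl⟩ := isConj_iff.1 (h.conj _ _ h.order_x ha)
  have e : Subgroup.centralizer ({g * x₀ * g⁻¹} : Set G) = (cC x₀).map (MulAut.conj g).toMonoidHom := by
    ext y
    rw [Invol.mem_conj_map, Subgroup.mem_centralizer_singleton_iff, Subgroup.mem_centralizer_singleton_iff]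
    constructor
    · intro e1
      calc g⁻¹ * y * g * x₀ = g⁻¹ * (y * (g * x₀ * g⁻¹)) * g := by group
        _ = g⁻¹ * ((g * x₀ * g⁻¹) * y) * g := by rw [e1]
        _ = _ := by group
    · intro e1
      calc y * (g * x₀ * g⁻¹) = g * (g⁻¹ * y * g * x₀) * g⁻¹ := by group
        _ = g * (x₀ * (g⁻¹ * y * g)) * g⁻¹ := by rw [e1]
        _ = _ := by group
  rw [e, Subgroup.card_map_of_injective (MulAut.conj g).injective, h.ctype.card_eq]

theorem cent_eq {a : G} (ha : a ∈ AG A) (hne : a ≠ 1) : Subgroup.centralizer ({a} : Set G) = cC x₀ := by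
  refine (Subgroup.eq_of_le_of_card_ge (fun y hy => ?_) ?_).symm
  · exact Subgroup.mem_centralizer_singleton_iff.2 (AG_comm h ha hy).symm
  · rw [card_cC h (AG_order h ha hne), h.ctype.card_eq]

theorem exists_ne : ∃ a ∈ AG A, a ≠ 1 := ⟨x₀, x_mem h, ne_one_of_order h.order_x⟩

theorem mem_BG_of_conj {a g : G} (ha : a ∈ AG A) (hne : a ≠ 1) (hg : g * a * g⁻¹ ∈ AG A) : g ∈ BG A := by
  have hne' : g * a * g⁻¹ ≠ 1 := fun e => hne (conj_eq_one_iff.1 e)
  rw [Subgroup.mem_normalizer_iff]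
  intro y
  have h1 := cent_eq h ha hne
  have h2 := cent_eq h hg hne'
  show y ∈ AG A ↔ g * y * g⁻¹ ∈ AG A
  rw [mem_AG h, mem_AG h]
  refine and_congr ?_ ?_
  · conv_lhs => rw [← h1]
    conv_rhs => rw [← h2]
    rw [Subgroup.mem_centralizer_singleton_iff, Subgroup.mem_centralizer_singleton_iff,
      show g * y * g⁻¹ * (g * a * g⁻¹) = g * (y * a) * g⁻¹ by group,
      show g * a * g⁻¹ * (g * y * g⁻¹) = g * (a * y) * g⁻¹ by group, mul_left_inj, mul_right_inj]
  · rw [show g * y * g⁻¹ * (g * y * g⁻¹) = g * (y * y) * g⁻¹ by group, conj_eq_one_iff]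

theorem BG_conj {g a : G} (hg : g ∈ BG A) (ha : a ∈ AG A) : g * a * g⁻¹ ∈ AG A :=
  (Subgroup.mem_normalizer_iff.1 hg a).1 ha

theorem cC_le_BG : cC x₀ ≤ BG A := fun y hy => by
  obtain ⟨a, ha, hne⟩ := exists_ne h
  refine mem_BG_of_conj h ha hne ?_
  rwa [← AG_comm h ha hy, mul_inv_cancel_right]

theorem conj_mem_cC {g y : G} (hg : g ∈ BG A) (hy : y ∈ cC x₀) : g * y * g⁻¹ ∈ cC x₀ := by
  obtain ⟨a, ha, hne⟩ := exists_ne h
  rw [← cent_eq h (BG_conj h hg ha) (fun e => hne (conj_eq_one_iff.1 e)), Subgroup.mem_centralizer_singleton_iff,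
    show g * y * g⁻¹ * (g * a * g⁻¹) = g * (y * a) * g⁻¹ by group, ← AG_comm h ha hy]
  group

theorem invol_mem_AG {y : G} (hy : y ∈ BG A) (hyy : y * y = 1) : y ∈ AG A := by
  obtain ⟨a, ha, hne⟩ := exists_ne h
  have hyi : y⁻¹ = y := inv_eq_of_mul_eq_one_right hyy
  obtain ⟨b, hb, hbne, hfix⟩ : ∃ b ∈ AG A, b ≠ 1 ∧ y * b = b * y := by
    set a' := y * a * y⁻¹ with ha'
    have ha'm : a' ∈ AG A := BG_conj h hy ha
    by_cases h1 : a * a' = 1
    · refine ⟨a, ha, hne, ?_⟩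
      have e : a' = a := by
        rw [eq_inv_of_mul_eq_one_right h1]; exact inv_eq_of_mul_eq_one_right (AG_sq h ha)
      calc y * a = y * a * y⁻¹ * y := by group
        _ = a * y := by rw [← ha', e]
    · refine ⟨a * a', mul_mem ha ha'm, h1, ?_⟩
      have e : y * (a * a') * y⁻¹ = a' * a := by
        rw [ha']
        calc y * (a * (y * a * y⁻¹)) * y⁻¹ = y * a * y * a * (y * y)⁻¹ := by group
          _ = y * a * y⁻¹ * a := by rw [hyy, inv_one, mul_one, hyi]
      calc y * (a * a') = y * (a * a') * y⁻¹ * y := by group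
        _ = a * a' * y := by rw [e, AG_comm h ha ((mem_AG h).1 ha'm).1]
  rw [mem_AG h]
  exact ⟨(cent_eq h hb hbne).le (Subgroup.mem_centralizer_singleton_iff.2 hfix), hyy⟩

theorem trans_AG {a b : G} (ha : a ∈ AG A) (hane : a ≠ 1) (hb : b ∈ AG A) (hbne : b ≠ 1) :
    ∃ g ∈ BG A, g * a * g⁻¹ = b := by
  obtain ⟨g, hg⟩ := isConj_iff.1 (h.conj _ _ (AG_order h ha hane) (AG_order h hb hbne))
  exact ⟨g, mem_BG_of_conj h ha hane (hg.symm ▸ hb), hg⟩

theorem card_AG_ne : Nat.card {b : G // b ∈ AG A ∧ b ≠ 1} = q - 1 := by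
  classical
  letI := Fintype.ofFinite (AG A)
  rw [← card_AG h, Nat.card_eq_fintype_card (α := AG A),
    show Fintype.card (AG A) - 1 = Fintype.card {b : AG A // b ≠ 1} by
      rw [Fintype.card_subtype_compl, Fintype.card_subtype_eq], ← Nat.card_eq_fintype_card]
  exact Nat.card_congr
    { toFun := fun b => ⟨⟨b.1, b.2.1⟩, fun e => b.2.2 (congrArg Subtype.val e)⟩
      invFun := fun b => ⟨b.1.1, b.1.2, fun e => b.2 (Subtype.ext e)⟩
      left_inv := fun b => rfl
      right_inv := fun b => rfl }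

/-- A subgroup of the normaliser that is transitive on the central involutions meets the centraliser with index
`q - 1`. -/
theorem card_trans {S : Subgroup G} (hS : S ≤ BG A)
    (ht : ∀ b ∈ AG A, b ≠ 1 → ∃ g ∈ S, g * x₀ * g⁻¹ = b) :
    Nat.card S = (q - 1) * Nat.card ↥((cC x₀).subgroupOf S) := by
  classical
  set X := (cC x₀).subgroupOf S with hX
  let f : S ⧸ X → {b : G // b ∈ AG A ∧ b ≠ 1} := fun p => ⟨(p.out : G) * x₀ * (p.out : G)⁻¹,
    BG_conj h (hS p.out.2) (x_mem h), fun e => ne_one_of_order h.order_x (conj_eq_one_iff.1 e)⟩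
  have hkey : ∀ g g' : S, (g : G) * x₀ * (g : G)⁻¹ = g' * x₀ * (g' : G)⁻¹ ↔ g⁻¹ * g' ∈ X := by
    intro g g'
    rw [hX, Subgroup.mem_subgroupOf, Subgroup.coe_mul, Subgroup.coe_inv,
      Subgroup.mem_centralizer_singleton_iff]
    constructor
    · intro e
      calc (g : G)⁻¹ * g' * x₀ = (g : G)⁻¹ * ((g' : G) * x₀ * (g' : G)⁻¹) * g' := by group
        _ = x₀ * ((g : G)⁻¹ * g') := by rw [← e]; group
    · intro e
      calc (g : G) * x₀ * (g : G)⁻¹ = g * (x₀ * ((g : G)⁻¹ * g')) * (g' : G)⁻¹ := by group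
        _ = _ := by rw [← e]; group
  have hbij : Function.Bijective f := by
    refine ⟨fun p p' e => ?_, fun b => ?_⟩
    · rw [← p.out_eq', ← p'.out_eq', QuotientGroup.eq]
      exact (hkey _ _).1 (congrArg Subtype.val e)
    · obtain ⟨g, hg, hgb⟩ := ht b b.2.1 b.2.2
      refine ⟨((⟨g, hg⟩ : S) : S ⧸ X), Subtype.ext ?_⟩
      refine Eq.trans ?_ hgb
      refine ((hkey ⟨g, hg⟩ _).2 ?_).symm
      exact QuotientGroup.eq.1 (Quotient.out_eq' _).symm
  rw [← card_AG_ne h, ← Nat.card_congr (Equiv.ofBijective f hbij)]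
  exact X.card_eq_card_quotient_mul_card_subgroup

theorem card_BG : Nat.card (BG A) = (q - 1) * (q ^ 3 * (q + 1)) := by
  rw [card_trans h le_rfl (fun b hb hne => trans_AG h (x_mem h) (ne_one_of_order h.order_x) hb hne),
    Nat.card_congr (Subgroup.subgroupOfEquivOfLe (cC_le_BG h)).toEquiv, h.ctype.card_eq]

theorem mem_TG {y : G} : y ∈ TG χ ↔ y ∈ cC x₀ ∧ y ^ q ^ 3 = 1 := by
  constructor
  · rintro ⟨z, hz, rfl⟩
    refine ⟨z.2, ?_⟩
    have : (⟨z, hz⟩ : χ.ker) ^ q ^ 3 = 1 := by rw [← h.ctype.card_ker]; exact pow_card_eq_one'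
    exact congrArg (fun z : χ.ker => ((z : cC x₀) : G)) this
  · rintro ⟨hy, hy'⟩
    refine ⟨⟨y, hy⟩, ?_, rfl⟩
    have h1 : χ ⟨y, hy⟩ ^ q ^ 3 = 1 := by
      rw [← map_pow, show (⟨y, hy⟩ : cC x₀) ^ q ^ 3 = 1 from Subtype.ext hy', map_one]
    have := pow_gcd_eq_one.2 ⟨h1, h.ctype.norm ⟨y, hy⟩⟩
    rwa [Nat.coprime_iff_gcd_eq_one.1 (coprime_succ h), pow_one] at this

theorem TG_le : TG χ ≤ cC x₀ := fun _ hy => ((mem_TG h).1 hy).1

theorem TG_conj {g y : G} (hg : g ∈ BG A) (hy : y ∈ TG χ) : g * y * g⁻¹ ∈ TG χ := by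
  obtain ⟨h1, h2⟩ := (mem_TG h).1 hy
  exact (mem_TG h).2 ⟨conj_mem_cC h hg h1, by rw [conj_pow, h2, mul_one, mul_inv_cancel]⟩

theorem card_TG : Nat.card (TG χ) = q ^ 3 := by
  rw [Subgroup.card_map_of_injective (cC x₀).subtype_injective, h.ctype.card_ker]

theorem BG_ne_top : BG A ≠ ⊤ := by
  intro htop
  have hn : (TG χ).Normal := ⟨fun y hy g => TG_conj h (htop ▸ Subgroup.mem_top g) hy⟩
  obtain ⟨n, -, hn2⟩ := q_even h
  have hp : IsPGroup 2 (TG χ) := IsPGroup.of_card (n := n * 3) (by rw [card_TG h, hn2, pow_mul])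
  have hidx : (TG χ).index = (q - 1) * (q + 1) := by
    have h1 := (TG χ).card_mul_index
    rw [card_TG h, ← Subgroup.card_top (G := G), ← htop, card_BG h] at h1
    exact Nat.eq_of_mul_eq_mul_left (pow_pos (by have := h.two_lt; omega) 3) (h1.trans (by ring))
  have hodd : ¬ 2 ∣ (TG χ).index := by
    rw [hidx, ← even_iff_two_dvd, Nat.not_even_iff_odd]
    exact (odd_pred h).mul (odd_succ h)
  exact h.noNormal (hp.toSylow hodd) hn

theorem se : Cfsg.IsStronglyEmbedded (BG A) := by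
  refine ⟨BG_ne_top h, Invol.even_of_invol_mem h.order_x (cC_le_BG h ((mem_AG h).1 (x_mem h)).1),
    fun g hg => ?_⟩
  rw [← Nat.not_even_iff_odd]
  intro hev
  obtain ⟨y, hy, hy2⟩ := Invol.exists_invol hev
  obtain ⟨hy1, hy3⟩ := Subgroup.mem_inf.1 hy
  rw [Invol.mem_conj_map] at hy3
  have hz : (g⁻¹ * y * g) * (g⁻¹ * y * g) = 1 := by
    rw [show g⁻¹ * y * g * (g⁻¹ * y * g) = g⁻¹ * (y * y) * g by group, sq_one_of_order hy2]; group
  refine hg (mem_BG_of_conj h (invol_mem_AG h hy3 hz) (fun e => ne_one_of_order hy2 ?_) ?_)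
  · calc y = g * (g⁻¹ * y * g) * g⁻¹ := by group
      _ = 1 := by rw [e]; group
  · rw [show g * (g⁻¹ * y * g) * g⁻¹ = y by group]
    exact invol_mem_AG h hy1 (sq_one_of_order hy2)

theorem invol_iff {y : G} : orderOf y = 2 ∧ y ∈ BG A ↔ y ∈ AG A ∧ y ≠ 1 :=
  ⟨fun hy => ⟨invol_mem_AG h hy.2 (sq_one_of_order hy.1), ne_one_of_order hy.1⟩,
    fun hy => ⟨AG_order h hy.1 hy.2, cC_le_BG h ((mem_AG h).1 hy.1).1⟩⟩

theorem card_invol : Nat.card {y : G // orderOf y = 2 ∧ y ∈ BG A} = q - 1 := by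
  rw [Nat.card_congr (Equiv.subtypeEquivRight fun y => invol_iff h), card_AG_ne h]

theorem no_cent {r i : G} (hi : orderOf i = 2) (hri : r * i = i * r) (hr : r ^ (q - 1) = 1) : r = 1 := by
  obtain ⟨g, hg⟩ := isConj_iff.1 (h.conj _ _ hi h.order_x)
  have hmem : g * r * g⁻¹ ∈ cC x₀ := by
    rw [Subgroup.mem_centralizer_singleton_iff, ← hg,
      show g * r * g⁻¹ * (g * i * g⁻¹) = g * (r * i) * g⁻¹ by group, hri]
    group
  have hp : (g * r * g⁻¹) ^ (q - 1) = 1 := by rw [conj_pow, hr, mul_one, mul_inv_cancel]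
  set y : cC x₀ := ⟨g * r * g⁻¹, hmem⟩ with hy
  have hyp : y ^ (q - 1) = 1 := Subtype.ext hp
  have hχ : χ y = 1 := by
    have h1 : χ y ^ (q - 1) = 1 := by rw [← map_pow, hyp, map_one]
    have := pow_gcd_eq_one.2 ⟨h1, h.ctype.norm y⟩
    rwa [Nat.coprime_iff_gcd_eq_one.1 (coprime_pred_succ h), pow_one] at this
  have hT : (g * r * g⁻¹) ^ q ^ 3 = 1 := ((mem_TG h).1 ⟨y, hχ, rfl⟩).2
  have := pow_gcd_eq_one.2 ⟨hT, hp⟩
  rw [Nat.coprime_iff_gcd_eq_one.1 (coprime_pred h), pow_one] at this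
  exact conj_eq_one_iff.1 this

end Cfsg.Agent.RankOneU3
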