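import Cfsg.Agent.Lib.PSU3Index.Field
import Cfsg.Agent.Lib.RankOneU3.Entry
import Cfsg.Prelude.Def_LieClassical

/-!
The centraliser of an involution of `PGU₃(q)`, `q` even, in coordinates; the entry hypotheses.
-/

set_option autoImplicit false
set_option linter.unusedSectionVars false
set_option linter.style.haveILetI false

namespace Cfsg.Agent.RankOneU3

open Matrix Hermitian PSU3Index
open Cfsg.Agent.SU3Root (uu rootE)

variable {F : Type*} [Field F] [Fintype F] [CharP F 2] {q : ℕ} (C : Ctx F q)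

local notation "M3" => Matrix (Fin 3) (Fin 3) F
set_option quotPrecheck false in
local notation "GU3" => ↥(Cfsg.GU 3 F q)
set_option quotPrecheck false in
local notation "PGU3" => GU3 ⧸ Subgroup.center GU3

/-- The matrix in the antidiagonal frame. -/
def gmat (g : GU3) : M3 := C.fr.Q * (g : GL (Fin 3) F).1 * C.fr.P

theorem gmat_mul (g h : GU3) : gmat C (g * h) = gmat C g * gmat C h := by
  show C.fr.Q * ((g : GL (Fin 3) F).1 * (h : GL (Fin 3) F).1) * C.fr.P = _
  rw [gmat, gmat, show C.fr.Q * (g : GL (Fin 3) F).1 * C.fr.P * (C.fr.Q * (h : GL (Fin 3) F).1 * C.fr.P) =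
    C.fr.Q * (g : GL (Fin 3) F).1 * (C.fr.P * C.fr.Q) * (h : GL (Fin 3) F).1 * C.fr.P by
      simp only [Matrix.mul_assoc], C.fr.hPQ, Matrix.mul_one]
  simp only [Matrix.mul_assoc]

theorem gmat_one : gmat C 1 = 1 := by
  show C.fr.Q * (1 : M3) * C.fr.P = 1
  rw [Matrix.mul_one, C.fr.hQP]

theorem gmat_inj {g h : GU3} (e : gmat C g = gmat C h) : g = h := by
  have hb : ∀ M : M3, C.fr.P * (C.fr.Q * M * C.fr.P) * C.fr.Q = M := fun M => by
    rw [show C.fr.P * (C.fr.Q * M * C.fr.P) * C.fr.Q = C.fr.P * C.fr.Q * M * (C.fr.P * C.fr.Q) by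
      simp only [Matrix.mul_assoc], C.fr.hPQ, Matrix.one_mul, Matrix.mul_one]
  apply Subtype.ext
  apply Units.ext
  exact (hb _).symm.trans ((congrArg (fun M => C.fr.P * M * C.fr.Q) e).trans (hb _))

theorem gmat_form (g : GU3) : (gmat C g)ᵀ * (SU3Root.J : M3) * (gmat C g).map C.σ = SU3Root.J := by
  have h := (HermSU.mem_GU_iff C.hσ _).1 g.2
  rw [gmat, transpose_mul, transpose_mul, Matrix.map_mul, Matrix.map_mul, ← C.fr.hform]
  set A := (g : GL (Fin 3) F).1
  have h1 : C.fr.Qᵀ * C.fr.Pᵀ = 1 := by rw [← transpose_mul, C.fr.hPQ, transpose_one]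
  have h2 : C.fr.P.map C.σ * C.fr.Q.map C.σ = 1 := by
    rw [← Matrix.map_mul, C.fr.hPQ, Matrix.map_one _ (map_zero _) (map_one _)]
  rw [show C.fr.Pᵀ * (Aᵀ * C.fr.Qᵀ) * (C.fr.Pᵀ * C.fr.P.map C.σ) *
      (C.fr.Q.map C.σ * A.map C.σ * C.fr.P.map C.σ) =
    C.fr.Pᵀ * Aᵀ * (C.fr.Qᵀ * C.fr.Pᵀ) * (C.fr.P.map C.σ * C.fr.Q.map C.σ) * A.map C.σ * C.fr.P.map C.σ by
      simp only [Matrix.mul_assoc],
    h1, h2, Matrix.mul_one, Matrix.mul_one, Matrix.mul_assoc C.fr.Pᵀ Aᵀ (A.map C.σ), h, Matrix.mul_one]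

theorem exists_gel {M : M3} (hM : Mᵀ * (SU3Root.J : M3) * M.map C.σ = SU3Root.J) (hd : M.det ≠ 0) :
    ∃ g : GU3, gmat C g = M := by
  have hdet : (C.fr.P * M * C.fr.Q).det ≠ 0 := by
    rw [det_mul, det_mul, mul_right_comm, ← det_mul, C.fr.hPQ, det_one, one_mul]
    exact hd
  refine ⟨⟨GeneralLinearGroup.mkOfDetNeZero _ hdet, (HermSU.mem_GU_iff C.hσ _).2 ?_⟩, ?_⟩
  · show (C.fr.P * M * C.fr.Q)ᵀ * (C.fr.P * M * C.fr.Q).map C.σ = 1
    rw [transpose_mul, transpose_mul, Matrix.map_mul, Matrix.map_mul,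
      show C.fr.Qᵀ * (Mᵀ * C.fr.Pᵀ) * (C.fr.P.map C.σ * M.map C.σ * C.fr.Q.map C.σ) =
        C.fr.Qᵀ * (Mᵀ * (C.fr.Pᵀ * C.fr.P.map C.σ) * M.map C.σ) * C.fr.Q.map C.σ by
          simp only [Matrix.mul_assoc],
      C.fr.hform, hM, ← C.fr.hform, show C.fr.Qᵀ * (C.fr.Pᵀ * C.fr.P.map C.σ) * C.fr.Q.map C.σ =
        (C.fr.Qᵀ * C.fr.Pᵀ) * (C.fr.P.map C.σ * C.fr.Q.map C.σ) by simp only [Matrix.mul_assoc],
      ← transpose_mul, ← Matrix.map_mul, C.fr.hPQ, transpose_one,
      Matrix.map_one _ (map_zero C.σ) (map_one C.σ), one_mul]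
  · show C.fr.Q * (C.fr.P * M * C.fr.Q) * C.fr.P = M
    rw [show C.fr.Q * (C.fr.P * M * C.fr.Q) * C.fr.P = C.fr.Q * C.fr.P * M * (C.fr.Q * C.fr.P) by
      simp only [Matrix.mul_assoc], C.fr.hQP, Matrix.one_mul, Matrix.mul_one]

theorem center_iff (g : GU3) : g ∈ Subgroup.center GU3 ↔ ∃ z : F, gmat C g = z • (1 : M3) := by
  constructor
  · intro hg
    obtain ⟨z, hz⟩ := HermSU.scalar_of_commute C.hne C.hinv C.hσ (n := 3) (by norm_num) C.hq g.1.1 fun A hA => by
      have := Subgroup.mem_center_iff.1 hg ⟨_, HermSU.toGL_mem_GU ⟨A, hA⟩⟩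
      exact (congrArg (fun X : GU3 => X.1.1) this).symm
    refine ⟨z, ?_⟩
    rw [gmat, hz, ← Matrix.smul_one_eq_diagonal, Matrix.mul_smul, Matrix.mul_one, Matrix.smul_mul, C.fr.hQP]
  · rintro ⟨z, hz⟩
    refine Subgroup.mem_center_iff.2 fun h => gmat_inj C ?_
    rw [gmat_mul, gmat_mul, hz, Matrix.mul_smul, Matrix.smul_mul, Matrix.mul_one, Matrix.one_mul]

theorem mk_eq_iff (g h : GU3) : (g : PGU3) = h ↔ ∃ z : F, gmat C h = z • gmat C g := by
  rw [QuotientGroup.eq, center_iff C]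
  constructor
  · rintro ⟨z, hz⟩
    refine ⟨z, ?_⟩
    rw [show h = g * (g⁻¹ * h) by group, gmat_mul, hz, Matrix.mul_smul, Matrix.mul_one]
  · rintro ⟨z, hz⟩
    refine ⟨z, ?_⟩
    rw [gmat_mul, hz, Matrix.mul_smul, ← gmat_mul, inv_mul_cancel, gmat_one]

/-- The shape of a matrix commuting with a root element. -/
structure IsCentM (M : M3) : Prop where
  h10 : M 1 0 = 0
  h20 : M 2 0 = 0
  h21 : M 2 1 = 0
  h22 : M 2 2 = M 0 0

theorem centM_rel {g : GU3} (hg : IsCentM (gmat C g)) :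
    gmat C g 0 0 * C.σ (gmat C g 0 0) = 1 ∧ gmat C g 1 1 * C.σ (gmat C g 1 1) = 1 ∧
      gmat C g 0 1 * C.σ (gmat C g 0 0) = -(gmat C g 1 1 * C.σ (gmat C g 1 2)) ∧
      gmat C g 0 2 * C.σ (gmat C g 0 0) + C.σ (gmat C g 0 2 * C.σ (gmat C g 0 0)) +
        gmat C g 1 2 * C.σ (gmat C g 1 2) = 0 := by
  have h := gmat_form C g
  set M := gmat C g
  have e : ∀ i j, (Mᵀ * (SU3Root.J : M3) * M.map C.σ) i j = (SU3Root.J : M3) i j := fun i j => by rw [h]
  have h02 := e 0 2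
  have h11 := e 1 1
  have h12 := e 1 2
  have h22 := e 2 2
  simp [SU3Root.J, Matrix.mul_apply, Fin.sum_univ_three, hg.h10, hg.h20, hg.h21, hg.h22] at h02 h11 h12 h22
  refine ⟨h02, h11, by linear_combination h12, ?_⟩
  rw [map_mul, C.hinv]
  linear_combination h22

theorem centM_ne {g : GU3} (hg : IsCentM (gmat C g)) : gmat C g 0 0 ≠ 0 ∧ gmat C g 1 1 ≠ 0 := by
  obtain ⟨h0, h1, -, -⟩ := centM_rel C hg
  exact ⟨fun e => by rw [e, zero_mul] at h0; exact zero_ne_one h0,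
    fun e => by rw [e, zero_mul] at h1; exact zero_ne_one h1⟩

theorem exists_model (C : Ctx F q) : ∃ y : PGU3, orderOf y = 2 ∧
    ∃ (A : Subgroup ↥(Subgroup.centralizer ({y} : Set PGU3))) (χ : ↥(Subgroup.centralizer ({y} : Set PGU3)) →* Fˣ)
      (c : ↥(Subgroup.centralizer ({y} : Set PGU3)) → F), CentType q A χ c := by
  classical
  have h2 : (2 : F) = 0 := CharTwo.two_eq_zero
  have hdet1 : ∀ a b : F, (uu C.σ a b).det ≠ 0 := fun a b => by simp [uu, det_fin_three]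
  have huu : ∀ {a b : F}, b + C.σ b + a * C.σ a = 0 → ∃ g : GU3, gmat C g = uu C.σ a b := fun {a b} h =>
    exists_gel C (SU3Root.uni_uu C.hinv h).1 (hdet1 a b)
  obtain ⟨u₀, hu₀⟩ := huu (a := 0) (b := 1) (by rw [map_one, zero_mul, add_zero, CharTwo.add_self_eq_zero])
  set y : PGU3 := (u₀ : PGU3) with hy
  have hy2 : orderOf y = 2 := by
    refine orderOf_eq_prime ?_ fun e => ?_
    · rw [pow_two, hy, ← QuotientGroup.mk_mul, QuotientGroup.eq_one_iff, center_iff C]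
      refine ⟨1, ?_⟩
      rw [one_smul, gmat_mul, hu₀]
      ext i j
      fin_cases i <;> fin_cases j <;> simp [uu, Matrix.mul_apply, Fin.sum_univ_three, CharTwo.add_self_eq_zero]
    · rw [hy, QuotientGroup.eq_one_iff, center_iff C] at e
      obtain ⟨z, hz⟩ := e
      have := congrFun (congrFun hz 0) 2
      rw [hu₀] at this
      simp [uu] at this
  set K := Subgroup.centralizer ({y} : Set PGU3) with hK
  have hcent : ∀ g : GU3, (g : PGU3) ∈ K ↔ IsCentM (gmat C g) := by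
    intro g
    rw [hK, Subgroup.mem_centralizer_singleton_iff, hy, ← QuotientGroup.mk_mul, ← QuotientGroup.mk_mul,
      mk_eq_iff C, gmat_mul, gmat_mul, hu₀]
    constructor
    · rintro ⟨z, hz⟩
      set M := gmat C g
      have hz1 : z = 1 := by
        have hdM : IsUnit M.det := by
          refine isUnit_iff_ne_zero.2 fun h0 => ?_
          have h := congrArg Matrix.det (gmat_form C g)
          rw [det_mul, det_mul, det_transpose, h0, zero_mul, zero_mul] at h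
          simp [SU3Root.J, det_fin_three] at h
        have e1 : (uu C.σ 0 1 : M3) = z • (M * uu C.σ 0 1 * M⁻¹) := by
          rw [← Matrix.smul_mul, ← hz, Matrix.mul_assoc, Matrix.mul_nonsing_inv _ hdM, Matrix.mul_one]
        have e2 := congrArg Matrix.trace e1
        rw [Matrix.trace_smul, Matrix.trace_mul_cycle, Matrix.nonsing_inv_mul _ hdM, Matrix.one_mul,
          Matrix.trace_fin_three] at e2
        simp [uu, smul_eq_mul] at e2
        linear_combination (1 - z) * h2 - e2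
      rw [hz1, one_smul] at hz
      have e : ∀ i j, ((uu C.σ 0 1 : M3) * M) i j = (M * uu C.σ 0 1) i j := fun i j => by rw [hz]
      have a0 := e 0 0
      have a1 := e 0 1
      have a2 := e 0 2
      have a12 := e 1 2
      simp [uu, Matrix.mul_apply, Fin.sum_univ_three] at a0 a1 a2 a12
      exact ⟨a12, a0, a1, by linear_combination a2⟩
    · intro hg
      refine ⟨1, ?_⟩
      rw [one_smul]
      ext i j
      fin_cases i <;> fin_cases j <;>
        simp [uu, Matrix.mul_apply, Fin.sum_univ_three, hg.h10, hg.h20, hg.h21, hg.h22, add_comm]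
  -- representatives
  have hrep : ∀ k : K, ∃ g : GU3, (g : PGU3) = k ∧ IsCentM (gmat C g) := fun k => by
    obtain ⟨g, hg⟩ := QuotientGroup.mk_surjective (k : PGU3)
    exact ⟨g, hg, (hcent g).1 (hg.symm ▸ k.2)⟩
  choose r hr hrc using hrep
  let X : GU3 → F := fun g => gmat C g 1 1 / gmat C g 0 0
  let Cv : GU3 → F := fun g => gmat C g 1 2 / gmat C g 1 1
  let Bv : GU3 → F := fun g => gmat C g 0 2 / gmat C g 1 1
  have hinvar : ∀ (k : K) (g : GU3), (g : PGU3) = k →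
      IsCentM (gmat C g) ∧ X g = X (r k) ∧ Cv g = Cv (r k) ∧ Bv g = Bv (r k) := by
    intro k g hg
    have hgc := (hcent g).1 (hg.symm ▸ k.2)
    obtain ⟨z, hz⟩ := (mk_eq_iff C (r k) g).1 ((hr k).trans hg.symm)
    have hz0 : z ≠ 0 := fun e => (centM_ne C hgc).1 (by rw [hz, e, zero_smul]; rfl)
    refine ⟨hgc, ?_, ?_, ?_⟩ <;>
    · simp only [X, Cv, Bv, hz, Matrix.smul_apply, smul_eq_mul]
      exact mul_div_mul_left _ _ hz0
  have hmul : ∀ g h : GU3, IsCentM (gmat C g) → IsCentM (gmat C h) →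
      X (g * h) = X g * X h ∧ Cv (g * h) = Cv h + Cv g * (gmat C h 0 0 / gmat C h 1 1) := by
    intro g h hg hh
    obtain ⟨g0, g1⟩ := centM_ne C hg
    obtain ⟨h0, h1⟩ := centM_ne C hh
    simp only [X, Cv, gmat_mul, Matrix.mul_apply, Fin.sum_univ_three, hg.h10, hh.h10, hh.h20,
      hh.h21, hh.h22, zero_mul, mul_zero, zero_add, add_zero]
    constructor <;> field_simp
  let χ : K →* Fˣ := MonoidHom.mk' (fun k => Units.mk0 (X (r k)) (div_ne_zero (centM_ne C (hrc k)).2 (centM_ne C (hrc k)).1))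
    fun k l => Units.ext (by
      show X (r (k * l)) = X (r k) * X (r l)
      rw [← (hmul _ _ (hrc k) (hrc l)).1]
      exact (hinvar (k * l) (r k * r l) (by rw [QuotientGroup.mk_mul, hr, hr]; rfl)).2.1.symm)
  let c : K → F := fun k => Cv (r k)
  -- the kernel
  have hker : ∀ k : K, k ∈ χ.ker ↔ gmat C (r k) 1 1 = gmat C (r k) 0 0 := fun k => by
    rw [MonoidHom.mem_ker, Units.ext_iff]
    show X (r k) = 1 ↔ _
    exact div_eq_one_iff_eq (centM_ne C (hrc k)).1
  have hkform : ∀ k ∈ χ.ker, Bv (r k) + C.σ (Bv (r k)) + c k * C.σ (c k) = 0 ∧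
      gmat C (r k) = gmat C (r k) 0 0 • uu C.σ (c k) (Bv (r k)) := by
    intro k hk
    have h11 := (hker k).1 hk
    have hc := hrc k
    obtain ⟨r0, r1, r2, r3⟩ := centM_rel C hc
    obtain ⟨n0, n1⟩ := centM_ne C hc
    have hs : C.σ (gmat C (r k) 0 0) = (gmat C (r k) 0 0)⁻¹ := eq_inv_of_mul_eq_one_right r0
    simp only [Bv, c, Cv, h11]
    refine ⟨?_, ?_⟩
    · rw [map_div₀, map_div₀, hs]
      rw [map_mul, C.hinv, hs] at r3
      field_simp at r3 ⊢
      linear_combination r3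
    · ext i j
      fin_cases i <;> fin_cases j <;> simp [uu, hc.h10, hc.h20, hc.h21, hc.h22, h11]
      · rw [hs]
        rw [h11, hs] at r2
        field_simp at r2 ⊢
        linear_combination r2
      · rw [mul_div_cancel₀ _ n0]
      · rw [mul_div_cancel₀ _ n0]
  have hmkK : ∀ {a b : F}, b + C.σ b + a * C.σ a = 0 → ∃ k : K, k ∈ χ.ker ∧ c k = a ∧ Bv (r k) = b := by
    intro a b h
    obtain ⟨g, hg⟩ := huu h
    have hgK : IsCentM (gmat C g) := by
      rw [hg]; exact ⟨by simp [uu], by simp [uu], by simp [uu], by simp [uu]⟩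
    refine ⟨⟨g, (hcent g).2 hgK⟩, ?_⟩
    obtain ⟨-, e1, e2, e3⟩ := hinvar ⟨g, (hcent g).2 hgK⟩ g rfl
    refine ⟨?_, ?_, ?_⟩
    · rw [MonoidHom.mem_ker, Units.ext_iff]
      show X (r _) = 1
      rw [← e1]
      simp [X, hg, uu]
    · show Cv (r _) = a
      rw [← e2]
      simp [Cv, hg, uu]
    · rw [← e3]
      simp [Bv, hg, uu]
  have hkinj : ∀ k ∈ χ.ker, ∀ l ∈ χ.ker, c k = c l → Bv (r k) = Bv (r l) → k = l := by
    intro k hk l hl hc hb
    obtain ⟨-, ek⟩ := hkform k hk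
    obtain ⟨-, el⟩ := hkform l hl
    refine Subtype.ext ?_
    rw [← hr k, ← hr l, mk_eq_iff C]
    refine ⟨gmat C (r l) 0 0 / gmat C (r k) 0 0, ?_⟩
    refine el.trans ?_
    conv_rhs => arg 2; rw [ek]
    rw [smul_smul, div_mul_cancel₀ _ (centM_ne C (hrc k)).1, hc, hb]
  let pairs := {p : F × F // p.2 + C.σ p.2 + p.1 * C.σ p.1 = 0}
  have hkequiv : Nat.card χ.ker = Nat.card pairs :=
    Nat.card_eq_of_bijective (fun k => ⟨(c k.1, Bv (r k.1)), (hkform k.1 k.2).1⟩)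
      ⟨fun k l e => Subtype.ext (hkinj _ k.2 _ l.2 (congrArg (fun p : pairs => p.1.1) e)
        (congrArg (fun p : pairs => p.1.2) e)), fun p => by
        obtain ⟨k, hk, h1, h2⟩ := hmkK p.2
        exact ⟨⟨k, hk⟩, Subtype.ext (Prod.ext h1 h2)⟩⟩
  have htr : ∀ a : F, ∃ b, b + C.σ b + a * C.σ a = 0 := fun a => by
    obtain ⟨b, hb⟩ := Hermitian.exists_trace C.hne C.hinv (x := -(a * C.σ a))
      (by rw [map_neg, map_mul, C.hinv, mul_comm])
    exact ⟨b, by linear_combination hb⟩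
  choose b₀ hb₀ using htr
  have hfix : ∀ a b : F, b + C.σ b + a * C.σ a = 0 → b + b₀ a ∈ fixed C.σ := fun a b h => by
    show C.σ (b + b₀ a) = b + b₀ a
    rw [map_add]
    linear_combination h + hb₀ a - (a * C.σ a + b + b₀ a) * h2
  have hpairs : Nat.card pairs = q ^ 3 := by
    have e : pairs ≃ F × fixed C.σ :=
      { toFun := fun p => (p.1.1, ⟨p.1.2 + b₀ p.1.1, hfix _ _ p.2⟩)
        invFun := fun p => ⟨(p.1, (p.2 : F) + b₀ p.1), by
          have hf : C.σ (p.2 : F) = p.2 := p.2.2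
          show (p.2 : F) + b₀ p.1 + C.σ ((p.2 : F) + b₀ p.1) + p.1 * C.σ p.1 = 0
          rw [map_add, hf]
          linear_combination hb₀ p.1 + (p.2 : F) * h2⟩
        left_inv := fun p => Subtype.ext (Prod.ext rfl (by
          show p.1.2 + b₀ p.1.1 + b₀ p.1.1 = p.1.2
          rw [add_assoc, CharTwo.add_self_eq_zero, add_zero]))
        right_inv := fun p => Prod.ext rfl (Subtype.ext (by
          show (p.2 : F) + b₀ p.1 + b₀ p.1 = p.2
          rw [add_assoc, CharTwo.add_self_eq_zero, add_zero])) }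
    rw [Nat.card_congr e, Nat.card_prod, C.hq, card_F C, ← pow_succ]
  -- the products in the kernel
  have hkmul : ∀ k ∈ χ.ker, ∀ l ∈ χ.ker,
      c (k * l) = c k + c l ∧ Bv (r (k * l)) = Bv (r k) + Bv (r l) - C.σ (c k) * c l := by
    intro k hk l hl
    obtain ⟨hgc, -, e2, e3⟩ := hinvar (k * l) (r k * r l) (by rw [QuotientGroup.mk_mul, hr, hr]; rfl)
    have n0 := (centM_ne C (hrc k)).1
    have n1 := (centM_ne C (hrc l)).1
    have hprod : gmat C (r k * r l) = (gmat C (r k) 0 0 * gmat C (r l) 0 0) •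
        uu C.σ (c k + c l) (Bv (r k) + Bv (r l) - C.σ (c k) * c l) := by
      rw [gmat_mul]
      conv_lhs => rw [(hkform k hk).2, (hkform l hl).2, Matrix.smul_mul, Matrix.mul_smul, smul_smul, uu_mul]
    refine ⟨?_, ?_⟩
    · show Cv (r (k * l)) = _
      rw [← e2]
      simp [Cv, hprod, uu, n0, n1]
    · rw [← e3]
      simp [Bv, hprod, uu, n0, n1]
  have hc1 : ∀ k ∈ χ.ker, c k = 0 → C.σ (Bv (r k)) = Bv (r k) := fun k hk h0 => by
    have := (hkform k hk).1
    rw [h0, zero_mul, add_zero] at this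
    linear_combination this - Bv (r k) * h2
  have hone : c 1 = 0 ∧ Bv (r 1) = 0 := by
    obtain ⟨-, -, e2, e3⟩ := hinvar 1 1 rfl
    refine ⟨?_, ?_⟩
    · show Cv (r 1) = 0
      rw [← e2]; simp [Cv, gmat_one]
    · rw [← e3]; simp [Bv, gmat_one]
  let A : Subgroup K :=
    { carrier := {k | k ∈ χ.ker ∧ c k = 0}
      mul_mem' := fun {k l} hk hl => ⟨mul_mem hk.1 hl.1, by rw [(hkmul k hk.1 l hl.1).1, hk.2, hl.2, add_zero]⟩
      one_mem' := ⟨one_mem _, hone.1⟩
      inv_mem' := fun {k} hk => ⟨inv_mem hk.1, by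
        have := (hkmul k hk.1 k⁻¹ (inv_mem hk.1)).1
        rw [mul_inv_cancel, hone.1, hk.2, zero_add] at this
        exact this.symm⟩ }
  have hsq : ∀ k ∈ χ.ker, c (k * k) = 0 ∧ Bv (r (k * k)) = c k * C.σ (c k) := fun k hk => by
    obtain ⟨e1, e2⟩ := hkmul k hk k hk
    refine ⟨by rw [e1]; exact CharTwo.add_self_eq_zero _, ?_⟩
    rw [e2]
    linear_combination (Bv (r k) - C.σ (c k) * c k) * h2
  refine ⟨y, hy2, A, χ, c, ?_⟩
  have hrange : χ.range = HermSU.normOne C.σ := by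
    ext u
    constructor
    · rintro ⟨k, rfl⟩
      obtain ⟨r0, r1, -, -⟩ := centM_rel C (hrc k)
      show X (r k) * C.σ (X (r k)) = 1
      simp only [X, map_div₀]
      rw [div_mul_div_comm, r1, r0, div_one]
    · intro hu
      have hu' : (u : F) * C.σ (u : F) = 1 := hu
      obtain ⟨g, hg⟩ := exists_gel C (M := !![(1 : F), 0, 0; 0, (u : F), 0; 0, 0, 1]) (by
        ext i j
        fin_cases i <;> fin_cases j <;> simp [SU3Root.J, Matrix.mul_apply, Fin.sum_univ_three, hu'])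
        (by simp [det_fin_three])
      have hgK : IsCentM (gmat C g) := by rw [hg]; exact ⟨by simp, by simp, by simp, by simp⟩
      refine ⟨⟨g, (hcent g).2 hgK⟩, Units.ext ?_⟩
      show X (r _) = (u : F)
      rw [← (hinvar ⟨g, (hcent g).2 hgK⟩ g rfl).2.1]
      simp [X, hg]
  have hnorm : ∀ k : K, χ k ^ (q + 1) = 1 := fun k => by
    have h : χ k ∈ HermSU.normOne C.σ := hrange ▸ ⟨k, rfl⟩
    refine Units.ext ?_
    rw [Units.val_pow_eq_pow_val, pow_succ', ← C.hσ, Units.val_one]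
    exact h
  refine
    { card_eq := ?_
      card_ker := hkequiv.trans hpairs
      card_A := ?_
      central := ?_
      invol := ?_
      le_ker := fun k hk => hk.1
      sq_mem := fun k hk => ⟨mul_mem hk hk, (hsq k hk).1⟩
      sq_onto := ?_
      norm := hnorm
      add := fun k hk l hl => (hkmul k hk l hl).1
      zero_iff := fun k hk => ⟨fun h0 => ⟨hk, h0⟩, fun h => h.2⟩
      surj := fun v => by
        obtain ⟨k, hk, hkv, -⟩ := hmkK (hb₀ v)
        exact ⟨k, hk, hkv⟩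
      conj := ?_ }
  · rw [← χ.ker.card_mul_index, Subgroup.index_ker, hrange, hkequiv, hpairs,
      HermSU.card_normOne C.hne C.hinv C.hq]
  · refine Eq.trans ?_ C.hq
    refine Nat.card_eq_of_bijective (fun k : A => (⟨Bv (r k.1), hc1 _ k.2.1 k.2.2⟩ : fixed C.σ))
      ⟨fun k l e => Subtype.ext (hkinj _ k.2.1 _ l.2.1 (k.2.2.trans l.2.2.symm) (congrArg Subtype.val e)),
        fun b => ?_⟩
    have hb : C.σ (b : F) = b := b.2
    obtain ⟨k, hk, h1, h3⟩ := hmkK (a := 0) (b := (b : F)) (by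
      rw [hb, zero_mul, add_zero]; exact CharTwo.add_self_eq_zero _)
    exact ⟨⟨k, hk, h1⟩, Subtype.ext h3⟩
  · intro k hk
    rw [Subgroup.mem_center_iff]
    intro l
    refine Subtype.ext ?_
    rw [Subgroup.coe_mul, Subgroup.coe_mul, ← hr k, ← hr l, ← QuotientGroup.mk_mul, ← QuotientGroup.mk_mul]
    congr 1
    refine gmat_inj C ?_
    obtain ⟨hk1, hk0⟩ := hk
    rw [gmat_mul, gmat_mul, (hkform k hk1).2, hk0, Matrix.mul_smul, Matrix.smul_mul]
    congr 1
    have hl := hrc l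
    ext i j
    fin_cases i <;> fin_cases j <;>
      simp [uu, Matrix.mul_apply, Fin.sum_univ_three, hl.h10, hl.h20, hl.h21, hl.h22] <;> ring
  · intro k
    constructor
    · intro hk
      have h1 : χ k * χ k = 1 := by rw [← map_mul, hk, map_one]
      have hk1 : k ∈ χ.ker := by
        have e : ((χ k : F) - 1) * ((χ k : F) - 1) = 0 := by
          have := congrArg Units.val h1
          rw [Units.val_mul, Units.val_one] at this
          linear_combination this + (1 - (χ k : F)) * h2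
        exact MonoidHom.mem_ker.2 (Units.ext (sub_eq_zero.1 (mul_self_eq_zero.1 e)))
      refine ⟨hk1, ?_⟩
      have h3 := (hsq k hk1).2
      rw [hk, hone.2] at h3
      exact (mul_eq_zero.1 h3.symm).elim id fun e => (map_eq_zero C.σ).1 e
    · rintro ⟨hk1, hk0⟩
      obtain ⟨e1, e2⟩ := hsq k hk1
      refine hkinj _ (mul_mem hk1 hk1) 1 (one_mem _) (e1.trans hone.1.symm) ?_
      rw [e2, hk0, zero_mul, hone.2]
  · rintro a ⟨ha, ha0⟩
    obtain ⟨v, hv⟩ := Hermitian.exists_norm C.hne C.hinv (x := Bv (r a)) (hc1 a ha ha0)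
    obtain ⟨k, hk, hkv, -⟩ := hmkK (hb₀ v)
    refine ⟨k, hk, hkinj _ (mul_mem hk hk) a ha ((hsq k hk).1.trans ha0.symm) ?_⟩
    rw [(hsq k hk).2, hkv, hv]
  · intro l k hk
    obtain ⟨-, -, e, -⟩ := hinvar (l * k * l⁻¹) (r l * r k * (r l)⁻¹)
      (by rw [QuotientGroup.mk_mul, QuotientGroup.mk_mul, QuotientGroup.mk_inv, hr, hr]; rfl)
    show Cv (r (l * k * l⁻¹)) = X (r l) * Cv (r k)
    rw [← e]
    have hli : IsCentM (gmat C (r l)⁻¹) := (hcent _).1 (by
      rw [QuotientGroup.mk_inv, hr]; exact inv_mem l.2)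
    have hlk : IsCentM (gmat C (r l * r k)) := (hcent _).1 (by
      rw [QuotientGroup.mk_mul, hr, hr]; exact mul_mem l.2 k.2)
    rw [(hmul _ _ hlk hli).2, (hmul _ _ (hrc l) (hrc k)).2, show gmat C (r k) 0 0 / gmat C (r k) 1 1 = 1 by
      rw [(hker k).1 hk, div_self (centM_ne C (hrc k)).1], mul_one]
    have h1 := (hmul _ _ (hrc l) hli).2
    rw [mul_inv_cancel] at h1
    have hC1 : Cv 1 = 0 := by simp [Cv, gmat_one]
    have hX := (hmul _ _ (hrc l) hli).1
    rw [mul_inv_cancel] at hX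
    have hX1 : X 1 = 1 := by simp [X, gmat_one]
    rw [hC1] at h1
    have e0 : gmat C (r l)⁻¹ 0 0 / gmat C (r l)⁻¹ 1 1 = (X (r l)⁻¹)⁻¹ := (inv_div _ _).symm
    rw [e0] at h1 ⊢
    have hXi : (X (r l)⁻¹)⁻¹ = X (r l) := inv_eq_of_mul_eq_one_left (hX.symm.trans hX1)
    rw [hXi] at h1 ⊢
    linear_combination -h1

/-- The entry hypotheses from the hypotheses on the centralisers. -/
theorem exists_entry {G : Type*} [Group G] [Finite G] (hq : 2 < q) (hF : Fintype.card F = q ^ 2)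
    (heven : Even (Nat.card G)) (hconj : ∀ s t : G, orderOf s = 2 → orderOf t = 2 → IsConj s t)
    (hC : ∀ (x : G) (y : PGU3), orderOf x = 2 → orderOf y = 2 →
      Nonempty (↥(Subgroup.centralizer ({x} : Set G)) ≃* ↥(Subgroup.centralizer ({y} : Set PGU3))))
    (hS : ∀ P : Sylow 2 G, ¬ (P : Subgroup G).Normal) :
    ∃ (x₀ : G) (A : Subgroup (cC x₀)) (χ : cC x₀ →* Fˣ) (c : cC x₀ → F), EntryHyp q x₀ A χ c := by
  obtain ⟨C'⟩ := PSU3Index.exists_ctx hF
  obtain ⟨y, hy, A, χ, c, h⟩ := exists_model C'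
  obtain ⟨x, hx⟩ := exists_prime_orderOf_dvd_card' (G := G) 2 heven.two_dvd
  obtain ⟨e⟩ := hC x y hx hy
  exact ⟨x, _, _, _, ⟨hq, hF, hx, h.of_equiv e, hconj, hS⟩⟩

end Cfsg.Agent.RankOneU3
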