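import Mathlib

/-!
A group acting additively on the field with `q²` elements, in which a normal subgroup with abelian quotient
of order `q - 1` acts as the norm-one multiplications, acts by multiplications.
-/

set_option autoImplicit false
set_option linter.style.haveILetI false

namespace Cfsg.Agent.RankOneU3

variable {B : Type*} [Group B] [Finite B] {F : Type*} [Field F] [Fintype F] [CharP F 2] {q : ℕ}

/-- An injective additive map normalising a large group of multiplications is semilinear. -/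
theorem exists_semilinear (hF : Fintype.card F = q ^ 2) {U : Set F} (hU : q < U.ncard) (f : F → F)
    (hadd : ∀ u v, f (u + v) = f u + f v) (hinj : Function.Injective f)
    (hnorm : ∀ u ∈ U, ∃ m, ∀ v, f (u * v) = m * f v) :
    ∃ τ : F ≃+* F, ∀ u v, f (u * v) = τ u * f v := by
  classical
  have h0 : f 0 = 0 := by
    have := hadd 0 0; rw [add_zero] at this; exact left_eq_add.1 this
  let L : Subfield F :=
    { carrier := {u | ∃ m, ∀ v, f (u * v) = m * f v}
      mul_mem' := by
        rintro a b ⟨m, hm⟩ ⟨k, hk⟩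
        exact ⟨m * k, fun v => by rw [mul_assoc, hm, hk, mul_assoc]⟩
      one_mem' := ⟨1, fun v => by rw [one_mul, one_mul]⟩
      add_mem' := by
        rintro a b ⟨m, hm⟩ ⟨k, hk⟩
        exact ⟨m + k, fun v => by rw [add_mul, hadd, hm, hk, add_mul]⟩
      zero_mem' := ⟨0, fun v => by rw [zero_mul, zero_mul, h0]⟩
      neg_mem' := by
        rintro a ⟨m, hm⟩
        exact ⟨m, fun v => by rw [CharTwo.neg_eq, hm]⟩
      inv_mem' := by
        rintro a ⟨m, hm⟩
        by_cases ha : a = 0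
        · exact ⟨0, fun v => by rw [ha, inv_zero, zero_mul, zero_mul, h0]⟩
        · refine ⟨m⁻¹, fun v => ?_⟩
          have hm0 : m ≠ 0 := fun h => by
            have := hm 1
            rw [h, zero_mul, mul_one, ← h0] at this
            exact ha (hinj this)
          rw [eq_inv_mul_iff_mul_eq₀ hm0, ← hm, mul_inv_cancel_left₀ ha] }
  have hUL : U ⊆ (L : Set F) := fun u hu => hnorm u hu
  have hLtop : ∀ u : F, u ∈ L := by
    have hcard : q < Nat.card L := by
      refine hU.trans_le ?_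
      exact (Set.ncard_le_ncard hUL (Set.toFinite _)).trans (le_of_eq (Nat.card_coe_set_eq _).symm)
    have hpow : Nat.card F = Nat.card L ^ Module.finrank L F := Module.natCard_eq_pow_finrank
    rw [Nat.card_eq_fintype_card, hF] at hpow
    have hk : Module.finrank L F = 1 := by
      have hpos : 0 < Module.finrank L F := Module.finrank_pos
      by_contra h
      have h2 : Nat.card L ^ 2 ≤ q ^ 2 := hpow ▸ Nat.pow_le_pow_right Nat.card_pos (by omega)
      have := Nat.pow_le_pow_iff_left two_ne_zero |>.1 h2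
      omega
    intro u
    have heq : (L : Set F) = Set.univ := by
      refine Set.eq_of_subset_of_ncard_le (Set.subset_univ _) ?_ (Set.toFinite _)
      rw [Set.ncard_univ, ← Nat.card_coe_set_eq (L : Set F), Nat.card_eq_fintype_card (α := F), hF, hpow, hk,
        pow_one]
      exact le_rfl
    exact (Set.ext_iff.1 heq u).2 trivial
  choose μ hμ using hLtop
  have h1 : f 1 ≠ 0 := fun h => one_ne_zero (hinj (h.trans h0.symm))
  have hμ1 : ∀ u, f u = μ u * f 1 := fun u => by rw [← hμ u 1, mul_one]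
  have hμinj : Function.Injective μ := fun u v h => hinj (by rw [hμ1 u, hμ1 v, h])
  let τ : F →+* F :=
    { toFun := μ
      map_one' := by
        refine mul_right_cancel₀ h1 ?_
        rw [← hμ, one_mul, one_mul]
      map_mul' := fun u v => mul_right_cancel₀ h1 (by rw [← hμ, mul_assoc u v 1, hμ, hμ, mul_assoc])
      map_zero' := mul_right_cancel₀ h1 (by rw [← hμ, zero_mul, zero_mul, h0])
      map_add' := fun u v => mul_right_cancel₀ h1 (by rw [← hμ1, hadd, hμ1 u, hμ1 v, add_mul]) }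
  exact ⟨RingEquiv.ofBijective τ ⟨hμinj, (Finite.injective_iff_surjective).1 hμinj⟩, fun u v => hμ u v⟩

theorem two_pow_bound {x e : ℕ} (hx : 2 ≤ x) (h : x ^ e - 1 ≤ e * (x - 1)) : e ≤ 1 := by
  by_contra he
  push Not at he
  obtain ⟨y, rfl⟩ : ∃ y, x = y + 2 := ⟨x - 2, by omega⟩
  obtain ⟨k, rfl⟩ : ∃ k, e = k + 2 := ⟨e - 2, by omega⟩
  have key : ∀ k, (k + 2) * (y + 1) + 1 < (y + 2) ^ (k + 2) := by
    intro k
    induction k with
    | zero => ring_nf; nlinarith
    | succ k ih => rw [pow_succ]; nlinarith [Nat.mul_le_mul_right (y + 2) ih, Nat.zero_le (k * y), Nat.zero_le (k * y * y)]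
  have := key k
  rw [show y + 2 - 1 = y + 1 by omega] at h
  omega

/-- The linearity theorem. -/
theorem linear_of_torus (hq : 2 < q) (hF : Fintype.card F = q ^ 2) (C : Subgroup B)
    (ρ : B → F → F) (hadd : ∀ b u v, ρ b (u + v) = ρ b u + ρ b v) (hone : ∀ v, ρ 1 v = v)
    (hmul : ∀ b b' v, ρ (b * b') v = ρ b (ρ b' v)) (χ : B → F) (hχ : ∀ y ∈ C, ∀ v, ρ y v = χ y * v)
    (hnorm : ∀ y ∈ C, χ y ^ (q + 1) = 1) (hmany : q < (χ '' (C : Set B)).ncard)
    (hnormal : C.Normal) (hab : ∀ b b' : B, b * b' * b⁻¹ * b'⁻¹ ∈ C) (hidx : C.index = q - 1)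
    (hker : ∀ b, (∀ v, ρ b v = v) → b ∈ C) :
    ∃ Λ : B →* Fˣ, ∀ b v, ρ b v = (Λ b : F) * v := by
  classical
  have hinv : ∀ b, Function.Injective (ρ b) := fun b u v h => by
    have := congrArg (ρ b⁻¹) h
    rwa [← hmul, ← hmul, inv_mul_cancel, hone, hone] at this
  have hne : ∀ b, ρ b 1 ≠ 0 := fun b h => by
    refine one_ne_zero (hinv b (h.trans ?_))
    have := hadd b 0 0
    rw [add_zero] at this
    exact (left_eq_add.1 this).symm
  have hsemi : ∀ b, ∃ τ : F ≃+* F, ∀ u v, ρ b (u * v) = τ u * ρ b v := fun b => by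
    refine exists_semilinear hF hmany (ρ b) (hadd b) (hinv b) ?_
    rintro _ ⟨y, hy, rfl⟩
    refine ⟨χ (b * y * b⁻¹), fun v => ?_⟩
    rw [← hχ y hy, ← hmul, ← hχ _ (hnormal.conj_mem y hy b), ← hmul, inv_mul_cancel_right]
  choose τ hτ using hsemi
  let Ψ : B →* (F ≃+* F) := MonoidHom.mk' τ fun b b' => RingEquiv.ext fun u => by
    refine mul_right_cancel₀ (hne (b * b')) ?_
    show τ (b * b') u * ρ (b * b') 1 = τ b (τ b' u) * ρ (b * b') 1
    rw [← hτ, hmul, hτ b', hτ b, hmul]
  have hΨ : ∀ b u v, ρ b (u * v) = Ψ b u * ρ b v := hτ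
  have hC : C ≤ Ψ.ker := fun y hy => MonoidHom.mem_ker.2 (RingEquiv.ext fun u => by
    refine mul_right_cancel₀ (hne y) ?_
    show Ψ y u * ρ y 1 = u * ρ y 1
    rw [← hΨ, hχ y hy, hχ y hy]; ring)
  -- the Frobenius of order two
  obtain ⟨m, hm⟩ : ∃ m : ℕ, Fintype.card F = 2 ^ m := by
    obtain ⟨m, -, hm⟩ := FiniteField.card F 2
    exact ⟨m, hm⟩
  obtain ⟨n, -, hqn⟩ := (Nat.dvd_prime_pow Nat.prime_two).1 (show q ∣ 2 ^ m by
    rw [← hm, hF]; exact dvd_pow_self q two_ne_zero)
  have hn : n ≠ 0 := by rintro rfl; simp [hqn] at hq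
  have hqodd : Odd (q - 1) := Nat.Even.sub_odd (by omega) (hqn ▸ (Nat.even_pow.2 ⟨even_two, hn⟩)) odd_one
  let σ : F ≃+* F := iterateFrobeniusEquiv F 2 n
  have hσ : ∀ x, σ x = x ^ q := fun x => by rw [hqn]; exact iterateFrobenius_def 2 n x
  have hcardF : ∀ x : F, x ^ (q * q) = x := fun x => by rw [← pow_two, ← hF, FiniteField.pow_card]
  have hσ1 : σ ≠ 1 := fun h => by
    have hsub : χ '' (C : Set B) ⊆ {1} := by
      rintro _ ⟨y, hy, rfl⟩
      have h1 : χ y ^ q = χ y := by rw [← hσ, h]; rfl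
      have h2 := hnorm y hy
      rw [pow_succ, h1] at h2
      have h3 : (χ y - 1) * (χ y - 1) = 0 := by
        linear_combination h2 + (1 - χ y) * CharTwo.two_eq_zero (R := F)
      simpa [sub_eq_zero] using h3
    have := (Set.ncard_le_ncard hsub (Set.toFinite _)).trans_eq (Set.ncard_singleton _)
    omega
  have hσσ : σ * σ = 1 := RingEquiv.ext fun x => by
    show σ (σ x) = x
    rw [hσ, hσ, ← pow_mul, hcardF]
  -- the group generated by the field parts and the Frobenius
  let H : Subgroup (F ≃+* F) := Ψ.range ⊔ Subgroup.zpowers σ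
  haveI : Finite (F ≃+* F) := Finite.of_injective (fun σ => (σ : F → F)) DFunLike.coe_injective
  set e := Nat.card Ψ.range with he
  have he_dvd : e ∣ q - 1 := by
    rw [he, ← Subgroup.index_ker, ← hidx]
    exact Subgroup.index_dvd_of_le hC
  have hodd : Odd e := hqodd.of_dvd_nat he_dvd
  have h2e : 2 * e ≤ Nat.card H := by
    refine Nat.le_of_dvd Nat.card_pos (Nat.Coprime.mul_dvd_of_dvd_of_dvd ?_ ?_ ?_)
    · exact (Nat.coprime_two_left).2 hodd
    · have h2 : orderOf σ = 2 := orderOf_eq_prime (by rw [pow_two, hσσ]) hσ1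
      rw [← h2, ← Nat.card_zpowers]
      exact Subgroup.card_dvd_of_le le_sup_right
    · exact Subgroup.card_dvd_of_le le_sup_left
  letI : Fintype H := Fintype.ofFinite H
  let L := FixedPoints.subfield H F
  have hL : q ^ 2 = Nat.card L ^ Nat.card H := by
    rw [← hF, ← Nat.card_eq_fintype_card, Module.natCard_eq_pow_finrank (K := L),
      Nat.card_eq_fintype_card (α := H), FixedPoints.finrank_eq_card H F]
  have hL2 : 2 ≤ Nat.card L := Finite.one_lt_card
  have hqe : Nat.card L ^ e ≤ q := by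
    have h1 : (Nat.card L ^ e) ^ 2 ≤ q ^ 2 := by
      rw [hL, ← pow_mul]
      exact Nat.pow_le_pow_right (by omega) (by omega)
    exact (Nat.pow_le_pow_iff_left two_ne_zero).1 h1
  -- norms of the linear part
  let K := Ψ.ker
  have hlin : ∀ b ∈ K, ∀ v, ρ b v = ρ b 1 * v := fun b hb v => by
    rw [mul_comm, show ρ b v = ρ b (v * 1) by rw [mul_one], hΨ, MonoidHom.mem_ker.1 hb]; rfl
  let Φ : K →* Fˣ := MonoidHom.mk' (fun b => Units.mk0 (ρ (b : B) 1 ^ (q + 1)) (pow_ne_zero _ (hne _)))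
    fun b b' => Units.ext (by
      show ρ ((b : B) * b') 1 ^ (q + 1) = ρ (b : B) 1 ^ (q + 1) * ρ (b' : B) 1 ^ (q + 1)
      rw [hmul, hlin b b.2, mul_pow])
  have hroots : ∀ u : F, u ^ (q + 1) = 1 → u ∈ χ '' (C : Set B) := by
    have hsub : χ '' (C : Set B) ⊆ ((Polynomial.nthRoots (q + 1) (1 : F)).toFinset : Set F) := by
      rintro _ ⟨y, hy, rfl⟩
      simp [Polynomial.mem_nthRoots (Nat.succ_pos q), hnorm y hy]
    intro u hu
    rw [Set.eq_of_subset_of_ncard_le hsub (by
      rw [Set.ncard_coe_finset]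
      exact ((Multiset.toFinset_card_le _).trans (Polynomial.card_nthRoots _ _)).trans hmany) (Set.toFinite _)]
    simp [Polynomial.mem_nthRoots (Nat.succ_pos q), hu]
  have hΦker : ∀ b : K, Φ b = 1 → (b : B) ∈ C := fun b hb => by
    obtain ⟨y, hy, hyb⟩ := hroots (ρ (b : B) 1) (congrArg Units.val hb)
    have : y⁻¹ * (b : B) ∈ C := hker _ fun v => by
      rw [hmul, hlin b b.2, ← hyb, ← hχ y hy, ← hmul, inv_mul_cancel, hone]
    simpa using mul_mem hy this
  have hΦL : ∀ b : K, ((Φ b : Fˣ) : F) ∈ L := fun b => by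
    set x := ρ (b : B) 1 with hx
    have hle : H ≤ MulAction.stabilizer (F ≃+* F) (x ^ (q + 1)) := by
      refine sup_le ?_ ((Subgroup.zpowers_le).2 ?_)
      · rintro _ ⟨g, rfl⟩
        show Ψ g (x ^ (q + 1)) = x ^ (q + 1)
        set y := g * (b : B) * g⁻¹ * (b : B)⁻¹ with hy
        have hyC : y ∈ C := hab g b
        have h1 : Ψ g x * ρ g 1 = χ y * x * ρ g 1 := by
          rw [← hΨ, mul_one, hx, ← hmul, show g * (b : B) = y * b * g by rw [hy]; group, hmul, hmul, hχ y hyC,
            hlin b b.2, mul_assoc]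
        rw [map_pow, mul_right_cancel₀ (hne g) h1, mul_pow, hnorm y hyC, one_mul]
      · show σ (x ^ (q + 1)) = x ^ (q + 1)
        rw [hσ, ← pow_mul, show (q + 1) * q = q * q + q by ring, pow_add, hcardF, ← pow_succ']
    exact fun h => MulAction.mem_stabilizer_iff.1 (hle h.2)
  have hK : Nat.card K ≤ Nat.card C * (Nat.card L - 1) := by
    rw [← Φ.ker.card_mul_index, Subgroup.index_ker]
    refine Nat.mul_le_mul ?_ ?_
    · exact Nat.card_le_card_of_injective (fun b : Φ.ker => (⟨(b.1 : B), hΦker b.1 b.2⟩ : C))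
        fun b b' h => Subtype.ext (Subtype.ext (congrArg (fun z : C => (z : B)) h))
    · have hz : Nat.card {z : L // z ≠ 0} = Nat.card L - 1 := by
        letI := Fintype.ofFinite L
        rw [Nat.card_eq_fintype_card, Nat.card_eq_fintype_card, Fintype.card_subtype_compl,
          Fintype.card_subtype_eq]
      rw [← hz]
      refine Nat.card_le_card_of_injective (fun u : Φ.range => (⟨⟨((u : Fˣ) : F), ?_⟩, fun h => ?_⟩ :
        {z : L // z ≠ 0})) fun u v h => Subtype.ext (Units.ext (congrArg (fun z => ((z.1 : L) : F)) h))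
      · obtain ⟨b, hb⟩ := u.2
        rw [← hb]; exact hΦL b
      · exact (u : Fˣ).ne_zero (congrArg Subtype.val h)
  have hcount : q - 1 ≤ e * (Nat.card L - 1) := by
    refine Nat.le_of_mul_le_mul_left ?_ (Nat.card_pos (α := C))
    rw [← hidx, C.card_mul_index, ← Ψ.ker.card_mul_index, Subgroup.index_ker, ← he]
    calc Nat.card Ψ.ker * e ≤ Nat.card C * (Nat.card L - 1) * e := Nat.mul_le_mul_right _ hK
      _ = _ := by ring
  have he1 : e ≤ 1 := two_pow_bound hL2 ((Nat.sub_le_sub_right hqe 1).trans hcount)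
  have hbot : Ψ.range = ⊥ := Subgroup.eq_bot_of_card_le _ he1
  refine ⟨MonoidHom.mk' (fun b => Units.mk0 (ρ b 1) (hne b)) fun b b' => Units.ext ?_, fun b v => ?_⟩
  · show ρ (b * b') 1 = ρ b 1 * ρ b' 1
    rw [hmul, hlin b (MonoidHom.mem_ker.2 (Subgroup.mem_bot.1 (hbot ▸ ⟨b, rfl⟩)))]
  · exact hlin b (MonoidHom.mem_ker.2 (Subgroup.mem_bot.1 (hbot ▸ ⟨b, rfl⟩))) v

end Cfsg.Agent.RankOneU3
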