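import Cfsg.Agent.Lib.RankOneU3.Entry
import Cfsg.Agent.Lib.RankOneU3.SemiLinear
import Cfsg.Agent.S1224
import Cfsg.Agent.S1225
import Mathlib.GroupTheory.FixedPointFree
import Mathlib.GroupTheory.Commutator.Basic

/-!
Two points: the Weyl element centralises the part of the two-point stabiliser in the centraliser and inverts the
quotient; hence the point stabiliser acts linearly on the coordinate.
-/

set_option autoImplicit false
set_option linter.unusedSectionVars false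
set_option linter.style.haveILetI false

namespace Cfsg.Agent.RankOneU3

open MulAction

variable {G : Type*} [Group G] [Finite G] {F : Type*} [Field F] [Fintype F] [CharP F 2]
variable {q : ℕ} {x₀ : G} {A : Subgroup (cC x₀)} {χ : cC x₀ →* Fˣ} {c : cC x₀ → F}

/-- The two-point stabiliser. -/
abbrev DD (A : Subgroup (cC x₀)) (t : G) : Subgroup G := BG A ⊓ (BG A).map (MulAut.conj t).toMonoidHom

/-- The base point. -/
abbrev pt (A : Subgroup (cC x₀)) : G ⧸ BG A := ((1 : G) : G ⧸ BG A)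

variable (h : EntryHyp q x₀ A χ c)
include h

omit h in
theorem stab_pt : stabilizer G (pt A) = BG A := MulAction.stabilizer_quotient _

omit h in
theorem smul_pt (g : G) : g • pt A = (g : G ⧸ BG A) := by
  rw [MulAction.Quotient.smul_mk, smul_eq_mul, mul_one]

omit h in
theorem mem_DD {t d : G} (ht : t * t = 1) : d ∈ DD A t ↔ d ∈ BG A ∧ t * d * t ∈ BG A := by
  rw [Subgroup.mem_inf, Invol.mem_conj_map, inv_eq_of_mul_eq_one_right ht]

theorem odd_DD {t : G} (ht : t ∉ BG A) : Odd (Nat.card (DD A t)) := (se h).2.2 t ht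

theorem exists_swapper {x y : G ⧸ BG A} (hxy : x ≠ y) : ∃ i : G, orderOf i = 2 ∧ i • x = y := by
  have h1 := S1224.result (BG A) (se h) x y hxy
  rw [card_invol h] at h1
  have hne : Nonempty {i : G // orderOf i = 2 ∧ i • x = y} := by
    by_contra hno
    rw [not_nonempty_iff] at hno
    rw [Nat.card_of_isEmpty] at h1
    have := h.two_lt
    omega
  exact ⟨hne.some, hne.some.2⟩

section
variable {t : G} (ht : orderOf t = 2) (htB : t ∉ BG A)
include ht htB

theorem DD_trans {b : G} (hb : b ∈ AG A) (hne : b ≠ 1) : ∃ g ∈ DD A t, g * x₀ * g⁻¹ = b :=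
  (S1225.result (BG A) (se h) t ht htB x₀ b h.order_x (cC_le_BG h ((mem_AG h).1 (x_mem h)).1)
    (AG_order h hb hne) (cC_le_BG h ((mem_AG h).1 hb).1)).1

theorem conj_t_DD {d : G} (hd : d ∈ DD A t) : t * d * t ∈ DD A t := by
  have htt := sq_one_of_order ht
  obtain ⟨h1, h2⟩ := (mem_DD htt).1 hd
  refine (mem_DD htt).2 ⟨h2, ?_⟩
  rwa [show t * (t * d * t) * t = t * t * d * (t * t) by group, htt, one_mul, mul_one]

theorem BG_eq_mul {g : G} (hg : g ∈ BG A) : ∃ d ∈ DD A t, ∃ y ∈ cC x₀, g = d * y := by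
  obtain ⟨d, hd, hdb⟩ := DD_trans h ht htB (BG_conj h hg (x_mem h))
    (fun e => ne_one_of_order h.order_x (conj_eq_one_iff.1 e))
  refine ⟨d, hd, d⁻¹ * g, ?_, by group⟩
  rw [Subgroup.mem_centralizer_singleton_iff]
  calc d⁻¹ * g * x₀ = d⁻¹ * (g * x₀ * g⁻¹) * g := by group
    _ = x₀ * (d⁻¹ * g) := by rw [← hdb]; group

/-- The part of the two-point stabiliser in the centraliser commutes with the Weyl element. -/
theorem t_cent_iff {d : G} (hd : d ∈ DD A t) : d * t = t * d ↔ d ∈ cC x₀ := by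
  classical
  set D := DD A t
  set X := (cC x₀).subgroupOf D with hX
  set Y := (Subgroup.centralizer ({t} : Set G)).subgroupOf D with hY
  have hYX : Y ≤ X := by
    intro y hy
    rw [hY, Subgroup.mem_subgroupOf] at hy
    rw [hX, Subgroup.mem_subgroupOf]
    have h1 : orderOf (y : G) ∣ q ^ 3 * (q + 1) := by
      rw [← card_cC h ht]; exact Subgroup.orderOf_dvd_natCard _ hy
    have hodd : Odd (orderOf (y : G)) := (odd_DD h htB).of_dvd_nat (Subgroup.orderOf_dvd_natCard _ y.2)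
    obtain ⟨n, -, hn⟩ := q_even h
    have h3 : orderOf (y : G) ∣ q + 1 := by
      refine Nat.Coprime.dvd_of_dvd_mul_left ?_ h1
      rw [hn, ← pow_mul]
      exact (Nat.coprime_two_right.2 hodd).pow_right _
    have hnorm : ((cC x₀).subgroupOf (BG A)).Normal := ⟨fun z hz g => by
      rw [Subgroup.mem_subgroupOf] at hz ⊢
      simpa using conj_mem_cC h g.2 hz⟩
    have hidx : ((cC x₀).subgroupOf (BG A)).index = q - 1 := by
      have h4 := ((cC x₀).subgroupOf (BG A)).card_mul_index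
      rw [Nat.card_congr (Subgroup.subgroupOfEquivOfLe (cC_le_BG h)).toEquiv, h.ctype.card_eq, card_BG h,
        mul_comm (q - 1)] at h4
      exact Nat.eq_of_mul_eq_mul_left (by rw [← h.ctype.card_eq]; exact Nat.card_pos) h4
    have h5 := Subgroup.pow_index_mem ((cC x₀).subgroupOf (BG A)) ⟨y, (Subgroup.mem_inf.1 y.2).1⟩
    rw [hidx, Subgroup.mem_subgroupOf, Subgroup.coe_pow] at h5
    obtain ⟨k, hk⟩ := exists_pow_eq_self_of_coprime (x := (y : G)) (n := q - 1)
      ((coprime_pred_succ h).coprime_dvd_right h3)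
    rw [← hk]
    exact pow_mem h5 k
  have hcard : Nat.card D ≤ (q - 1) * Nat.card Y := by
    have hsw := S1224.result (BG A) (se h) (pt A) (t • pt A) (fun e => htB (by
      rw [← stab_pt (A := A)]; exact mem_stabilizer_iff.2 e.symm))
    rw [card_invol h] at hsw
    rw [← hsw, Y.card_eq_card_quotient_mul_card_subgroup]
    refine Nat.mul_le_mul_right _ (Nat.card_le_card_of_injective
      (fun p : D ⧸ Y => (⟨(p.out : G) * t * (p.out : G)⁻¹, ?_, ?_⟩ :
        {i : G // orderOf i = 2 ∧ i • pt A = t • pt A})) fun p p' e => ?_)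
    · rw [← ht]
      exact (MulAut.conj (p.out : G)).orderOf_eq t
    · obtain ⟨h1, h2⟩ := (mem_DD (sq_one_of_order ht)).1 p.out.2
      rw [mul_smul, mul_smul]
      have e1 : (p.out : G)⁻¹ • pt A = pt A := by
        rw [← mem_stabilizer_iff, stab_pt]; exact inv_mem h1
      have e2 : (t * (p.out : G) * t) • pt A = pt A := by
        rw [← mem_stabilizer_iff, stab_pt]; exact h2
      rw [e1]
      rw [mul_smul, mul_smul] at e2
      have e3 := congrArg (t • ·) e2
      simp only [smul_smul] at e3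
      rwa [← mul_assoc, ← mul_assoc, sq_one_of_order ht, one_mul, mul_smul] at e3
    · have e' : (p.out : G) * t * (p.out : G)⁻¹ = (p'.out : G) * t * (p'.out : G)⁻¹ := congrArg Subtype.val e
      rw [← p.out_eq', ← p'.out_eq', QuotientGroup.eq]
      refine Subgroup.mem_subgroupOf.2 ?_
      rw [Subgroup.coe_mul, Subgroup.coe_inv, Subgroup.mem_centralizer_singleton_iff]
      calc (p.out : G)⁻¹ * p'.out * t = (p.out : G)⁻¹ * ((p'.out : G) * t * (p'.out : G)⁻¹) * p'.out := by group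
        _ = t * ((p.out : G)⁻¹ * p'.out) := by rw [← e']; group
  rw [card_trans h inf_le_left (fun b hb hne => DD_trans h ht htB hb hne)] at hcard
  have heq : Y = X := Subgroup.eq_of_le_of_card_ge hYX
    (Nat.le_of_mul_le_mul_left hcard (by have := h.two_lt; omega))
  have key : (⟨d, hd⟩ : D) ∈ Y ↔ (⟨d, hd⟩ : D) ∈ X := by rw [heq]
  rwa [hY, hX, Subgroup.mem_subgroupOf, Subgroup.mem_subgroupOf, Subgroup.mem_centralizer_singleton_iff] at key

/-- The Weyl element inverts modulo the centraliser. -/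
theorem inverts_mod {d : G} (hd : d ∈ DD A t) : t * d * t * d ∈ cC x₀ := by
  classical
  set D := DD A t
  have htt := sq_one_of_order ht
  set N := (cC x₀).subgroupOf D with hN
  haveI : N.Normal := ⟨fun z hz g => by
    rw [hN, Subgroup.mem_subgroupOf] at hz ⊢
    simpa using conj_mem_cC h (Subgroup.mem_inf.1 g.2).1 hz⟩
  let θ : D →* D := MonoidHom.mk' (fun d => ⟨t * d * t, conj_t_DD h ht htB d.2⟩) fun u v => Subtype.ext (by
    show t * ((u : G) * v) * t = t * u * t * (t * v * t)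
    rw [show t * (u : G) * t * (t * v * t) = t * u * (t * t) * v * t by group, htt, mul_one]
    group)
  have hθN : N ≤ N.comap θ := fun z hz => by
    rw [Subgroup.mem_comap, hN, Subgroup.mem_subgroupOf] at *
    show t * (z : G) * t ∈ cC x₀
    rwa [mul_assoc, (t_cent_iff h ht htB z.2).2 hz, ← mul_assoc, htt, one_mul]
  let φ : D ⧸ N →* D ⧸ N := QuotientGroup.map N N θ hθN
  have hinv : Function.Involutive φ := fun u => by
    obtain ⟨z, rfl⟩ := QuotientGroup.mk_surjective u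
    show ((θ (θ z) : D) : D ⧸ N) = z
    congr 1
    apply Subtype.ext
    show t * (t * (z : G) * t) * t = z
    rw [show t * (t * (z : G) * t) * t = t * t * z * (t * t) by group, htt, one_mul, mul_one]
  have hfpf : MonoidHom.FixedPointFree φ := fun u hu => by
    obtain ⟨z, rfl⟩ := QuotientGroup.mk_surjective u
    rw [QuotientGroup.eq_one_iff, hN, Subgroup.mem_subgroupOf, ← t_cent_iff h ht htB z.2]
    have hx : (θ z : D)⁻¹ * z ∈ N := QuotientGroup.eq.1 hu
    rw [hN, Subgroup.mem_subgroupOf] at hx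
    set x := ((((θ z)⁻¹ * z : D)) : G) with hxdef
    have hxt : x * t = t * x := (t_cent_iff h ht htB ((θ z)⁻¹ * z).2).2 hx
    have hz : (z : G) = t * z * t * x := by
      rw [hxdef]; show (z : G) = t * z * t * ((t * (z : G) * t)⁻¹ * z); group
    have hx2 : x * x = 1 := by
      have e : (z : G) = z * (x * x) := by
        calc (z : G) = t * z * t * x := hz
          _ = t * (t * z * t * x) * t * x := by conv_lhs => rw [hz]
          _ = t * t * z * (t * (x * t)) * x := by group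
          _ = z * (x * x) := by rw [hxt, htt, one_mul, ← mul_assoc t t x, htt, one_mul, mul_assoc]
      exact left_eq_mul.1 e
    have hx1 : x = 1 := by
      have hodd : Odd (orderOf x) := (odd_DD h htB).of_dvd_nat
        (Subgroup.orderOf_dvd_natCard _ ((θ z)⁻¹ * z).2)
      have h2 : orderOf x ∣ 2 := orderOf_dvd_of_pow_eq_one (by rw [pow_two, hx2])
      rcases (Nat.dvd_prime Nat.prime_two).1 h2 with h3 | h3
      · exact orderOf_eq_one_iff.1 h3
      · rw [h3] at hodd; exact absurd hodd (by decide)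
    rw [hx1, mul_one] at hz
    calc (z : G) * t = t * z * t * t := by rw [← hz]
      _ = t * z := by rw [mul_assoc (t * (z : G)), htt, mul_one]
  have hev := congrFun (hfpf.coe_eq_inv_of_involutive hinv) ((⟨d, hd⟩ : D) : D ⧸ N)
  have : θ ⟨d, hd⟩ * ⟨d, hd⟩ ∈ N := by
    rw [← QuotientGroup.eq_one_iff, QuotientGroup.mk_mul]
    show φ ((⟨d, hd⟩ : D) : D ⧸ N) * _ = 1
    rw [hev, inv_mul_cancel]
  rwa [hN, Subgroup.mem_subgroupOf] at this

theorem comm_mem_cC {u v : G} (hu : u ∈ BG A) (hv : v ∈ BG A) : u * v * u⁻¹ * v⁻¹ ∈ cC x₀ := by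
  classical
  set B := BG A
  set N := (cC x₀).subgroupOf B with hN
  haveI : N.Normal := ⟨fun z hz g => by
    rw [hN, Subgroup.mem_subgroupOf] at hz ⊢
    simpa using conj_mem_cC h g.2 hz⟩
  have htt := sq_one_of_order ht
  have hred : ∀ {g : G} (hg : g ∈ B), ∃ d ∈ DD A t, ∃ hd : d ∈ B, ((⟨g, hg⟩ : B) : B ⧸ N) = (⟨d, hd⟩ : B) := by
    intro g hg
    obtain ⟨d, hd, y, hy, rfl⟩ := BG_eq_mul h ht htB hg
    refine ⟨d, hd, (Subgroup.mem_inf.1 hd).1, (QuotientGroup.eq.2 ?_).symm⟩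
    rw [hN, Subgroup.mem_subgroupOf]
    simpa using hy
  have hinvq : ∀ {d : G} (hd : d ∈ DD A t) (hdB : d ∈ B),
      ((⟨t * d * t, (Subgroup.mem_inf.1 (conj_t_DD h ht htB hd)).1⟩ : B) : B ⧸ N) =
        ((⟨d, hdB⟩ : B) : B ⧸ N)⁻¹ := by
    intro d hd hdB
    rw [eq_inv_iff_mul_eq_one, ← QuotientGroup.mk_mul, QuotientGroup.eq_one_iff, hN, Subgroup.mem_subgroupOf]
    exact inverts_mod h ht htB hd
  obtain ⟨d, hd, hdB, hdu⟩ := hred hu
  obtain ⟨e, he, heB, hev⟩ := hred hv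
  have key := hinvq (mul_mem hd he) (mul_mem hdB heB)
  have hsplit : (⟨t * (d * e) * t, (Subgroup.mem_inf.1 (conj_t_DD h ht htB (mul_mem hd he))).1⟩ : B) =
      ⟨t * d * t, (Subgroup.mem_inf.1 (conj_t_DD h ht htB hd)).1⟩ *
        ⟨t * e * t, (Subgroup.mem_inf.1 (conj_t_DD h ht htB he)).1⟩ := Subtype.ext (by
    show t * (d * e) * t = t * d * t * (t * e * t)
    rw [show t * d * t * (t * e * t) = t * d * (t * t) * e * t by group, htt, mul_one]
    group)
  rw [hsplit, QuotientGroup.mk_mul, hinvq hd hdB, hinvq he heB,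
    show (⟨d * e, mul_mem hdB heB⟩ : B) = ⟨d, hdB⟩ * ⟨e, heB⟩ from rfl, QuotientGroup.mk_mul, mul_inv_rev] at key
  have hcomm := congrArg (·⁻¹) key
  simp only [mul_inv_rev, inv_inv] at hcomm
  have : ((⟨u, hu⟩ : B) * ⟨v, hv⟩ * (⟨u, hu⟩ : B)⁻¹ * (⟨v, hv⟩ : B)⁻¹ : B) ∈ N := by
    rw [← QuotientGroup.eq_one_iff, QuotientGroup.mk_mul, QuotientGroup.mk_mul, QuotientGroup.mk_mul,
      QuotientGroup.mk_inv, QuotientGroup.mk_inv, hdu, hev, ← hcomm]
    group
  rwa [hN, Subgroup.mem_subgroupOf] at this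

end

/-- The coordinate on the normal `2`-subgroup. -/
noncomputable def cG (c : cC x₀ → F) (y : G) : F := by
  classical exact if hy : y ∈ cC x₀ then c ⟨y, hy⟩ else 0

omit h in
theorem cG_eq (y : cC x₀) : cG c (y : G) = c y := by simp [cG, y.2]

theorem cG_add {x z : G} (hx : x ∈ TG χ) (hz : z ∈ TG χ) : cG c (x * z) = cG c x + cG c z := by
  obtain ⟨x, hx, rfl⟩ := hx
  obtain ⟨z, hz, rfl⟩ := hz
  rw [← map_mul, Subgroup.subtype_apply, Subgroup.subtype_apply, Subgroup.subtype_apply, cG_eq, cG_eq, cG_eq]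
  exact h.ctype.add x hx z hz

theorem cG_zero_iff {x : G} (hx : x ∈ TG χ) : cG c x = 0 ↔ x ∈ AG A := by
  obtain ⟨x, hx, rfl⟩ := hx
  rw [Subgroup.subtype_apply, cG_eq, h.ctype.zero_iff x hx]
  exact (Subgroup.mem_map_iff_mem (cC x₀).subtype_injective).symm

theorem cG_surj (v : F) : ∃ x ∈ TG χ, cG c x = v := by
  obtain ⟨x, hx, hxv⟩ := h.ctype.surj v
  exact ⟨x, ⟨x, hx, rfl⟩, by rw [cG_eq, hxv]⟩

theorem cG_conj (y : cC x₀) {x : G} (hx : x ∈ TG χ) :
    cG c ((y : G) * x * (y : G)⁻¹) = (χ y : F) * cG c x := by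
  obtain ⟨x, hx, rfl⟩ := hx
  rw [Subgroup.subtype_apply, ← Subgroup.coe_inv, ← Subgroup.coe_mul, ← Subgroup.coe_mul, cG_eq, cG_eq]
  exact h.ctype.conj y x hx

theorem AG_le_TG : AG A ≤ TG χ := Subgroup.map_mono h.ctype.le_ker

theorem cG_conj_congr {b x x' : G} (hb : b ∈ BG A) (hx : x ∈ TG χ) (hx' : x' ∈ TG χ)
    (e : cG c x = cG c x') : cG c (b * x * b⁻¹) = cG c (b * x' * b⁻¹) := by
  have hd : x⁻¹ * x' ∈ TG χ := mul_mem (inv_mem hx) hx'
  have ha : x⁻¹ * x' ∈ AG A := (cG_zero_iff h hd).1 (by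
    have h1 := cG_add h hx hd
    rw [mul_inv_cancel_left, ← e] at h1
    exact left_eq_add.1 h1)
  rw [show b * x' * b⁻¹ = b * x * b⁻¹ * (b * (x⁻¹ * x') * b⁻¹) by group,
    cG_add h (TG_conj h hb hx) (TG_conj h hb hd),
    (cG_zero_iff h (TG_conj h hb hd)).2 (BG_conj h hb ha), add_zero]

/-- The point stabiliser acts by multiplications on the coordinate. -/
theorem exists_lambda : ∃ Λ : BG A →* Fˣ, Function.Surjective Λ ∧
    (∀ (b : BG A), ∀ x ∈ TG χ, cG c ((b : G) * x * (b : G)⁻¹) = (Λ b : F) * cG c x) ∧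
    (∀ b : BG A, Λ b = 1 ↔ (b : G) ∈ TG χ) ∧
    ∀ y : cC x₀, Λ ⟨y, cC_le_BG h y.2⟩ = χ y := by
  classical
  choose sec hsec hsecv using cG_surj h
  let ρ : BG A → F → F := fun b v => cG c ((b : G) * sec v * (b : G)⁻¹)
  have hρ : ∀ (b : BG A) {x : G}, x ∈ TG χ → ρ b (cG c x) = cG c ((b : G) * x * (b : G)⁻¹) :=
    fun b x hx => cG_conj_congr h b.2 (hsec _) hx (hsecv _)
  obtain ⟨t, ht, htB⟩ : ∃ t : G, orderOf t = 2 ∧ t ∉ BG A := by
    obtain ⟨g, hg⟩ : ∃ g : G, g ∉ BG A := by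
      by_contra hno
      push Not at hno
      exact BG_ne_top h (eq_top_iff.2 fun g _ => hno g)
    refine ⟨g * x₀ * g⁻¹, by rw [← h.order_x]; exact (MulAut.conj g).orderOf_eq x₀, fun hm => hg ?_⟩
    exact mem_BG_of_conj h (x_mem h) (ne_one_of_order h.order_x)
      (invol_mem_AG h hm (by rw [show g * x₀ * g⁻¹ * (g * x₀ * g⁻¹) = g * (x₀ * x₀) * g⁻¹ by group,
        sq_one_of_order h.order_x]; group))
  let C' := (cC x₀).subgroupOf (BG A)
  let χ' : BG A → F := fun b => if hb : (b : G) ∈ cC x₀ then (χ ⟨b, hb⟩ : F) else 0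
  have hχ' : ∀ y : BG A, ∀ hy : (y : G) ∈ cC x₀, χ' y = χ ⟨y, hy⟩ := fun y hy => dif_pos hy
  have hker : ∀ b : BG A, (∀ v, ρ b v = v) → b ∈ C' := by
    intro b hb
    rw [Subgroup.mem_subgroupOf, Subgroup.mem_centralizer_singleton_iff]
    obtain ⟨x₁, hx₁, hsq⟩ := h.ctype.sq_onto ⟨x₀, ((mem_AG h).1 (x_mem h)).1⟩
      ((Subgroup.mem_map_iff_mem (cC x₀).subtype_injective).1 (x_mem h))
    have hxT : (x₁ : G) ∈ TG χ := ⟨x₁, hx₁, rfl⟩
    have hx2 : (x₁ : G) * x₁ = x₀ := congrArg Subtype.val hsq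
    have hm := TG_conj h b.2 hxT
    have hd : (x₁ : G)⁻¹ * ((b : G) * x₁ * (b : G)⁻¹) ∈ AG A := by
      refine (cG_zero_iff h (mul_mem (inv_mem hxT) hm)).1 ?_
      have h1 := cG_add h hxT (mul_mem (inv_mem hxT) hm)
      rw [mul_inv_cancel_left, ← hρ b hxT, hb] at h1
      exact left_eq_add.1 h1
    set a := (x₁ : G)⁻¹ * ((b : G) * x₁ * (b : G)⁻¹) with ha
    have e : (b : G) * x₀ * (b : G)⁻¹ = x₀ := by
      calc (b : G) * x₀ * (b : G)⁻¹ = (b : G) * ((x₁ : G) * x₁) * (b : G)⁻¹ := by rw [hx2]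
        _ = (x₁ : G) * a * (x₁ * a) := by rw [ha]; group
        _ = x₁ * (a * x₁) * a := by group
        _ = x₁ * x₁ * (a * a) := by rw [AG_comm h hd x₁.2]; group
        _ = x₀ := by rw [AG_sq h hd, mul_one, hx2]
    calc (b : G) * x₀ = (b : G) * x₀ * (b : G)⁻¹ * b := by group
      _ = x₀ * b := by rw [e]
  have hroots : q < (χ' '' (C' : Set (BG A))).ncard := by
    have hr : Nat.card χ.range = q + 1 := by
      have := χ.ker.card_mul_index
      rw [h.ctype.card_ker, Subgroup.index_ker, h.ctype.card_eq] at this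
      exact Nat.eq_of_mul_eq_mul_left (pow_pos (by have := h.two_lt; omega) 3) this
    have hsub : ((fun u : Fˣ => (u : F)) '' (χ.range : Set Fˣ)) ⊆ χ' '' (C' : Set (BG A)) := by
      rintro _ ⟨_, ⟨y, rfl⟩, rfl⟩
      exact ⟨⟨y, cC_le_BG h y.2⟩, y.2, hχ' _ y.2⟩
    refine lt_of_lt_of_le ?_ (Set.ncard_le_ncard hsub (Set.toFinite _))
    rw [Set.ncard_image_of_injective _ (fun u v e => Units.ext e), ← Nat.card_coe_set_eq]
    exact hr.symm ▸ Nat.lt_succ_self q
  obtain ⟨Λ, hΛ⟩ := linear_of_torus (B := BG A) h.two_lt h.card_F C' ρ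
    (fun b u v => by
      have e1 : cG c (sec u * sec v) = u + v := by rw [cG_add h (hsec u) (hsec v), hsecv, hsecv]
      rw [← e1, hρ b (mul_mem (hsec u) (hsec v))]
      show _ = cG c ((b : G) * sec u * (b : G)⁻¹) + cG c ((b : G) * sec v * (b : G)⁻¹)
      rw [← cG_add h (TG_conj h b.2 (hsec u)) (TG_conj h b.2 (hsec v))]
      congr 1
      group)
    (fun v => by
      show cG c ((1 : G) * sec v * (1 : G)⁻¹) = v
      rw [inv_one, one_mul, mul_one, hsecv])
    (fun b b' v => by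
      show _ = ρ b (cG c _)
      rw [hρ b (TG_conj h b'.2 (hsec v))]
      show cG c (((b : G) * b') * sec v * ((b : G) * b')⁻¹) = _
      congr 1
      group)
    χ' (fun y hy v => by
      show cG c _ = _
      rw [hχ' y hy, cG_conj h ⟨y, hy⟩ (hsec v), hsecv])
    (fun y hy => by rw [hχ' y hy, ← Units.val_pow_eq_pow_val, h.ctype.norm, Units.val_one])
    hroots
    ⟨fun z hz g => by
      rw [Subgroup.mem_subgroupOf] at hz ⊢
      simpa using conj_mem_cC h g.2 hz⟩
    (fun b b' => by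
      rw [Subgroup.mem_subgroupOf]
      simpa using comm_mem_cC h ht htB b.2 b'.2)
    (by
      have h4 := C'.card_mul_index
      rw [Nat.card_congr (Subgroup.subgroupOfEquivOfLe (cC_le_BG h)).toEquiv, h.ctype.card_eq, card_BG h,
        mul_comm (q - 1)] at h4
      exact Nat.eq_of_mul_eq_mul_left (by rw [← h.ctype.card_eq]; exact Nat.card_pos) h4)
    hker
  have hact : ∀ (b : BG A), ∀ x ∈ TG χ, cG c ((b : G) * x * (b : G)⁻¹) = (Λ b : F) * cG c x :=
    fun b x hx => by rw [← hρ b hx, hΛ]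
  obtain ⟨x₁, hx₁, hv⟩ := cG_surj h 1
  have hval : ∀ y : cC x₀, Λ ⟨y, cC_le_BG h y.2⟩ = χ y := fun y => Units.ext (by
    have h1 := hact ⟨y, cC_le_BG h y.2⟩ x₁ hx₁
    rw [cG_conj h y hx₁, hv, mul_one, mul_one] at h1
    exact h1.symm)
  have hk : ∀ b : BG A, Λ b = 1 ↔ (b : G) ∈ TG χ := by
    intro b
    constructor
    · intro hb
      have hbC : (b : G) ∈ cC x₀ := Subgroup.mem_subgroupOf.1 (hker b fun v => by rw [hΛ, hb, Units.val_one, one_mul])
      refine ⟨⟨b, hbC⟩, ?_, rfl⟩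
      show χ ⟨b, hbC⟩ = 1
      rw [← hval, ← hb]
    · rintro ⟨y, hy, hyb⟩
      rw [show b = ⟨y, cC_le_BG h y.2⟩ from Subtype.ext hyb.symm, hval]
      exact hy
  refine ⟨Λ, ?_, hact, hk, hval⟩
  rw [← MonoidHom.range_eq_top]
  refine Subgroup.eq_top_of_card_eq _ ?_
  have h1 := Λ.ker.card_mul_index
  have h2 : Nat.card Λ.ker = q ^ 3 := by
    rw [← card_TG h]
    exact Nat.card_congr
      { toFun := fun b => ⟨((b : BG A) : G), (hk b.1).1 b.2⟩
        invFun := fun y => ⟨⟨y, cC_le_BG h (TG_le h y.2)⟩, (hk _).2 y.2⟩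
        left_inv := fun b => rfl
        right_inv := fun y => rfl }
  rw [h2, Subgroup.index_ker, card_BG h] at h1
  rw [Nat.card_units, Nat.card_eq_fintype_card (α := F), h.card_F]
  refine Nat.eq_of_mul_eq_mul_left (pow_pos (by have := h.two_lt; omega) 3) (h1.trans ?_)
  rw [show q ^ 2 - 1 = (q + 1) * (q - 1) by rw [← Nat.sq_sub_sq, one_pow]]
  ring

end Cfsg.Agent.RankOneU3
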