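import Cfsg.Agent.Lib.RankOneU3.Tau

/-!
# Coordinates of `Q` in which the inverted elements act by scalars

`κ` is the coordinate modulo the involutions, `c` a coordinate which is additive under multiplication
by involutions, and an inverted element with scalar `l` multiplies them by `l` and `l ^ m`.
-/

set_option autoImplicit false
set_option linter.unusedSectionVars false

namespace Cfsg.Agent.Lib.RankOneU3

open MulAction
open Cfsg.Agent.RankOne (twoStab invSub invK RInvol)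
open Cfsg.Agent.U3Rec (gq gq_eq gq_ne gq_gq cq cq_ne gq_cq conj_t)

variable {G Ω : Type*} [Group G] [MulAction G Ω] {a : Ω} {t : G} {Q : Subgroup G}
variable {F : Type*} [Field F]

/-- Coordinates with the inverted elements acting by scalars. -/
structure Scal [Finite G] (hS : Cfsg.IsRankOneSetup G Ω a t Q)
    (h2 : ∃ x y : G, x ≠ 1 ∧ y ≠ 1 ∧ x ≠ y ∧ x * x = 1 ∧ y * y = 1 ∧ x * y = y * x)
    (q m : ℕ) (κ c : Q → F) (ν : G → F) : Prop where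
  add : ∀ x y, κ (x * y) = κ x + κ y
  zero_iff : ∀ x, κ x = 0 ↔ (x : G) ∈ invSub hS h2
  cen : ∀ x z : Q, (z : G) ∈ invSub hS h2 → c (x * z) = c x + c z
  cen_real : ∀ z : Q, (z : G) ∈ invSub hS h2 → c z ^ q = c z
  cen_inj : ∀ z : Q, (z : G) ∈ invSub hS h2 → c z = 0 → z = 1
  cen_onto : ∀ s : F, s ^ q = s → ∃ z : Q, (z : G) ∈ invSub hS h2 ∧ c z = s
  nu_ne : ∀ k ∈ invK a t, ν k ≠ 0
  nu_real : ∀ k ∈ invK a t, ν k ^ q = ν k
  nu_inv : ∀ k ∈ invK a t, ν k⁻¹ = (ν k)⁻¹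
  nu_onto : ∀ r : F, r ^ q = r → r ≠ 0 → ∃ k ∈ invK a t, ν k = r
  act : ∀ k ∈ invK a t, ∀ (hk : k ∈ twoStab a t) (x : Q),
    κ (cq hS hk x) = ν k * κ x ∧ c (cq hS hk x) = ν k ^ m * c x

namespace Scal

variable [Finite G] {hS : Cfsg.IsRankOneSetup G Ω a t Q}
  {h2 : ∃ x y : G, x ≠ 1 ∧ y ≠ 1 ∧ x ≠ y ∧ x * x = 1 ∧ y * y = 1 ∧ x * y = y * x}
  {q m : ℕ} {κ c : Q → F} {ν : G → F} (K : Scal hS h2 q m κ c ν)
include K

theorem kap_cen {z : Q} (hz : (z : G) ∈ invSub hS h2) : κ z = 0 := (K.zero_iff z).2 hz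

theorem kap_mul_cen (x : Q) {z : Q} (hz : (z : G) ∈ invSub hS h2) : κ (x * z) = κ x := by
  rw [K.add, K.kap_cen hz, add_zero]

theorem kap_inv (x : Q) : κ x⁻¹ = -κ x := by
  refine eq_neg_of_add_eq_zero_left ?_
  rw [← K.add, inv_mul_cancel]
  exact K.kap_cen (one_mem _)

theorem ne_one {x : Q} (h : κ x ≠ 0) : x ≠ 1 := fun e => h (by rw [e]; exact K.kap_cen (one_mem _))

theorem notMem {x : Q} (h : κ x ≠ 0) : (x : G) ∉ invSub hS h2 := fun e => h (K.kap_cen e)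

theorem ext {x y : Q} (hκ : κ x = κ y) (hc : c x = c y) : x = y := by
  have hz : ((x⁻¹ * y : Q) : G) ∈ invSub hS h2 := (K.zero_iff _).1 (by
    rw [K.add, K.kap_inv, hκ, neg_add_cancel])
  have h := K.cen x _ hz
  rw [mul_inv_cancel_left, ← hc, left_eq_add] at h
  exact inv_mul_eq_one.1 (K.cen_inj _ hz h)

theorem c_ne {z : Q} (hz : (z : G) ∈ invSub hS h2) (hz1 : z ≠ 1) : c z ≠ 0 := fun h =>
  hz1 (K.cen_inj z hz h)

theorem c_one : c 1 = 0 := by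
  have h := K.cen 1 1 (one_mem _)
  rw [mul_one] at h
  exact left_eq_add.1 h

/-- The map on the scaled points. -/
theorem tq_act {k : G} (hk : k ∈ invK a t) (hkD : k ∈ twoStab a t) {x : Q} (hx : x ≠ 1) :
    κ (tq hS (cq hS hkD x)) = κ (tq hS x) / ν k ∧
      c (tq hS (cq hS hkD x)) = c (tq hS x) / ν k ^ m := by
  rw [tq_cq hS h2 hkD hx, cq_congr hS _ (inv_mem hkD) (RankOne.tkt_eq hS h2 hk),
    (K.act _ (inv_mem hk) (inv_mem hkD) _).1, (K.act _ (inv_mem hk) (inv_mem hkD) _).2, K.nu_inv k hk]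
  constructor
  · rw [div_eq_mul_inv, mul_comm]
  · rw [inv_pow, div_eq_mul_inv, mul_comm]

variable (hr : RInvol hS h2)
include hr

/-- The map on the involutions is `s ↦ γ / s`. -/
theorem exists_gamma (hroot : ∀ r : F, r ^ q = r → r ≠ 0 → ∃ l, l ^ q = l ∧ l ≠ 0 ∧ l ^ m = r) :
    ∃ γ : F, γ ≠ 0 ∧ γ ^ q = γ ∧
      ∀ z : Q, (z : G) ∈ invSub hS h2 → z ≠ 1 → c (gq hS z) = γ / c z := by
  obtain ⟨z₀, hz₀, hc₀⟩ := K.cen_onto 1 (one_pow q)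
  have hz₀1 : z₀ ≠ 1 := fun h => one_ne_zero (α := F) (by rw [← hc₀, h, K.c_one])
  have hg₀ := gq_mem hS h2 hr hz₀ hz₀1
  refine ⟨c (gq hS z₀), K.c_ne hg₀ (gq_ne hS hz₀1), K.cen_real _ hg₀, fun z hz hz1 => ?_⟩
  obtain ⟨l, hlf, hl0, hl⟩ := hroot _ (K.cen_real z hz) (K.c_ne hz hz1)
  obtain ⟨k, hk, hkl⟩ := K.nu_onto l hlf hl0
  have hkD := RankOne.invK_le hS hk
  have e : z = cq hS hkD z₀ := K.ext
    (by rw [(K.act k hk hkD z₀).1, K.kap_cen hz, K.kap_cen hz₀, mul_zero])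
    (by rw [(K.act k hk hkD z₀).2, hkl, hl, hc₀, mul_one])
  rw [e, gq_cq hS hkD hz₀1, cq_congr hS _ (inv_mem hkD) (RankOne.tkt_eq hS h2 hk),
    (K.act _ (inv_mem hk) (inv_mem hkD) _).2, ← e, K.nu_inv k hk, hkl, inv_pow, hl]
  rw [div_eq_mul_inv, mul_comm]

variable (hnorm : ∀ z : Q, (z : G) ∈ invSub hS h2 → z ≠ 1 → c (gq hS z) = (c z)⁻¹)
  (hinj : ∀ u v : F, u ^ q = u → v ^ q = v → u ^ m = v ^ m → u = v)
include hnorm hinj

/-- Translation by involutions on both sides. -/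
theorem relK {x : Q} (hx : κ x ≠ 0) {s l : F} (hs0 : s ≠ 0) (hlf : l ^ q = l) (hl : l ^ m = s ^ 2)
    {z z' : Q} (hz : (z : G) ∈ invSub hS h2) (hcz : c z = s) (hz' : (z' : G) ∈ invSub hS h2)
    (hcz' : c z' = s⁻¹) :
    κ (tq hS (tq hS x * z)) = κ (tq hS (x * z')) / l ∧
      c (tq hS (tq hS x * z)) = (c (tq hS (x * z')) - s) / s ^ 2 := by
  have hz'1 : z' ≠ 1 := fun h => inv_ne_zero hs0 (by rw [← hcz', h, K.c_one])
  obtain ⟨hgZ, k, hk, hkD, he, hkz⟩ := gq_cen hS h2 hr hz' hz'1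
  have hgz : gq hS z' = z := K.ext (by rw [K.kap_cen hgZ, K.kap_cen hz])
    (by rw [hnorm z' hz' hz'1, hcz', inv_inv, hcz])
  rw [hgz] at he hkz
  have hν : ν k ^ m = s ^ 2 := by
    have h := (K.act k hk hkD z').2
    rw [hkz, hcz, hcz'] at h
    field_simp at h
    linear_combination -h
  have hkl : ν k = l := hinj _ _ (K.nu_real k hk) hlf (hν.trans hl.symm)
  have h := tq_mul_cen hS h2 hr hz' hz'1 hkD (by rw [hgz]; exact he) (K.notMem hx)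
  rw [hgz] at h
  refine ⟨?_, ?_⟩
  · rw [h, K.kap_mul_cen _ hz, (K.act k hk hkD _).1, hkl,
      mul_div_cancel_left₀ _ (hkl ▸ K.nu_ne k hk)]
  · rw [h, K.cen _ _ hz, (K.act k hk hkD _).2, hν, hcz, add_sub_cancel_right,
      mul_div_cancel_left₀ _ (pow_ne_zero 2 hs0)]

/-- The block of `x` modulo the involutions, in both directions. -/
theorem relBlock {x : Q} (hx : κ x ≠ 0)
    (hroot : ∀ r : F, r ^ q = r → r ≠ 0 → ∃ l, l ^ q = l ∧ l ≠ 0 ∧ l ^ m = r) :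
    (∀ s : F, s ^ q = s → s ≠ 0 → ∃ z l : F, z ≠ 0 ∧ z ^ q = z ∧ l ^ q = l ∧ l ^ m = s ^ 2 ∧
      ∃ zσ z' u : Q, (zσ : G) ∈ invSub hS h2 ∧ c zσ = z ∧ (z' : G) ∈ invSub hS h2 ∧ c z' = s⁻¹ ∧
        tq hS (x * zσ) = u * tq hS x ∧ κ u = κ (tq hS ((tq hS x)⁻¹ * z')) / l ∧
        c u = (c (tq hS ((tq hS x)⁻¹ * z')) - s) / s ^ 2) ∧
    ∀ zσ : Q, (zσ : G) ∈ invSub hS h2 → zσ ≠ 1 → ∃ s l : F, s ≠ 0 ∧ s ^ q = s ∧ l ^ q = l ∧
      l ^ m = s ^ 2 ∧ ∃ z' u : Q, (z' : G) ∈ invSub hS h2 ∧ c z' = s⁻¹ ∧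
        tq hS (x * zσ) = u * tq hS x ∧ κ u = κ (tq hS ((tq hS x)⁻¹ * z')) / l := by
  have hx' : κ (tq hS x)⁻¹ ≠ 0 := by
    rw [K.kap_inv, neg_ne_zero]
    exact fun h => tq_notMem hS h2 hr (K.notMem hx) ((K.zero_iff _).1 h)
  have hval : ∀ z : Q, (z : G) ∈ invSub hS h2 → z ≠ 1 → ∃ l : F, l ^ q = l ∧ l ^ m = c z ^ 2 ∧
      ∃ z' : Q, (z' : G) ∈ invSub hS h2 ∧ c z' = (c z)⁻¹ ∧
        κ (tq hS (tq hS (tq hS x)⁻¹ * z)) = κ (tq hS ((tq hS x)⁻¹ * z')) / l ∧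
        c (tq hS (tq hS (tq hS x)⁻¹ * z)) = (c (tq hS ((tq hS x)⁻¹ * z')) - c z) / c z ^ 2 := by
    intro z hz hz1
    have hs0 := K.c_ne hz hz1
    obtain ⟨l, hlf, -, hl⟩ := hroot (c z ^ 2) (by rw [← pow_mul, mul_comm, pow_mul, K.cen_real z hz])
      (pow_ne_zero 2 hs0)
    obtain ⟨z', hz', hcz'⟩ := K.cen_onto (c z)⁻¹ (by rw [inv_pow, K.cen_real z hz])
    exact ⟨l, hlf, hl, z', hz', hcz', K.relK hr hnorm hinj hx' hs0 hlf hl hz rfl hz' hcz'⟩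
  obtain ⟨h1, h2'⟩ := tq_block hS h2 hr (K.notMem hx)
  refine ⟨fun s hsf hs0 => ?_, fun zσ hzσ hzσ1 => ?_⟩
  · obtain ⟨z, hz, rfl⟩ := K.cen_onto s hsf
    have hz1 : z ≠ 1 := fun h => hs0 (by rw [h, K.c_one])
    obtain ⟨zσ, hzσ, hzσ1, he⟩ := h1 z hz hz1
    obtain ⟨l, hlf, hl, z', hz', hcz', hκ, hc⟩ := hval z hz hz1
    exact ⟨c zσ, l, K.c_ne hzσ hzσ1, K.cen_real zσ hzσ, hlf, hl, zσ, z', _, hzσ, rfl, hz', hcz', he, hκ, hc⟩
  · obtain ⟨z, hz, hz1, he⟩ := h2' zσ hzσ hzσ1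
    obtain ⟨l, hlf, hl, z', hz', hcz', hκ, -⟩ := hval z hz hz1
    exact ⟨c z, l, K.c_ne hz hz1, K.cen_real z hz, hlf, hl, z', _, hz', hcz', he, hκ⟩

end Scal

end Cfsg.Agent.Lib.RankOneU3
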