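import Cfsg.Agent.Lib.RankOneU3.Coord
import Cfsg.Agent.Lib.Suzuki2.Coord

/-!
# The squaring map in coordinates

The squares are the norms of the coordinates modulo the involutions, or `q = 8` and they are cubic.
-/

set_option autoImplicit false
set_option linter.unusedSectionVars false
set_option linter.style.haveILetI false

namespace Cfsg.Agent.Lib.RankOneU3

open MulAction
open Cfsg.Agent.RankOne (twoStab invSub invK wSub qSize IsUnitary)
open Cfsg.Agent.U3Rec (cq)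
open Cfsg.Agent.PSU3Index

universe u

variable {G : Type u} {Ω : Type*} [Group G] [MulAction G Ω] {a : Ω} {t : G} {Q : Subgroup G}
variable [Finite G] (hS : Cfsg.IsRankOneSetup G Ω a t Q)
  (h2 : ∃ x y : G, x ≠ 1 ∧ y ≠ 1 ∧ x ≠ y ∧ x * x = 1 ∧ y * y = 1 ∧ x * y = y * x)

/-- Coordinates on the involutions. -/
structure InvCoord {F : Type*} [Field F] (q : ℕ) (ζ : Q → F) : Prop where
  mul : ∀ x z : Q, (x : G) ∈ invSub hS h2 → (z : G) ∈ invSub hS h2 → ζ (x * z) = ζ x + ζ z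
  real : ∀ z : Q, (z : G) ∈ invSub hS h2 → ζ z ^ q = ζ z
  inj : ∀ z : Q, (z : G) ∈ invSub hS h2 → ζ z = 0 → z = 1
  onto : ∀ s : F, s ^ q = s → ∃ z : Q, (z : G) ∈ invSub hS h2 ∧ ζ z = s

variable [FaithfulSMul G Ω] (hU : IsUnitary a t Q) {F : Type} [Field F] [Fintype F] [CharP F 2]
  (C : Ctx F (qSize a t))
include hS h2 hU C

/-- Coordinates on the involutions with the inverted elements acting by scalars. -/
theorem exists_inv_coord : ∃ η : Q → F, InvCoord hS h2 (qSize a t) η ∧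
    ∀ k ∈ invK a t, ∃ χ : F, ∀ (hk : k ∈ twoStab a t) (z : Q), (z : G) ∈ invSub hS h2 →
      η (cq hS hk z) = χ * η z := by
  classical
  obtain ⟨-, hcA, -, -⟩ := card_data hS h2 hU C
  set Z := invSub hS h2 with hZ
  have hKZ : ∀ (k : invK a t) (z : Z), (k : G) * z * (k : G)⁻¹ ∈ Z := fun k z =>
    RankOne.conj_mem_invSub hS h2 (RankOne.invK_le hS k.2) z.2
  letI : CommGroup Z :=
    { (inferInstance : Group Z) with
      mul_comm := fun x y => Subtype.ext (RankOne.invSub_comm hS h2 x.2 (RankOne.invSub_le_Q hS h2 y.2)) }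
  obtain ⟨k₀, -, hgen, -, -⟩ := RankOne.exists_generator hS h2
  have hKcomm : ∀ k l : invK a t, k * l = l * k := fun k l => by
    obtain ⟨i, hi⟩ := (hgen k).1 ((RankOne.mem_invK hS h2).1 k.2)
    obtain ⟨j, hj⟩ := (hgen l).1 ((RankOne.mem_invK hS h2).1 l.2)
    refine Subtype.ext ?_
    show (k : G) * l = l * k
    rw [← hi, ← hj]
    exact (((Commute.refl k₀).zpow_left i).zpow_right j).eq
  obtain ⟨⟨s, r⟩, ⟨hs, -, -⟩, -⟩ := RankOne.structure_equation hS
  obtain ⟨L, iL, iLf, iLc, e, g, hg⟩ := Suzuki2.exists_field (U := Additive Z) (K := invK a t)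
    (fun k u => Additive.ofMul ⟨(k : G) * (u.toMul : Z) * (k : G)⁻¹, hKZ k u.toMul⟩)
    (fun u => Additive.toMul.injective (Subtype.ext (by simp)))
    (fun k l u => Additive.toMul.injective (Subtype.ext (by simp [mul_assoc])))
    (fun k u w => Additive.toMul.injective (Subtype.ext (by simp [mul_assoc])))
    (fun u => Additive.toMul.injective (Subtype.ext (RankOne.invSub_sq hS h2 u.toMul.2))) hKcomm
    (fun u w hu hw => by
      have hu' : ((u.toMul : Z) : G) ∈ Cfsg.involutionsIn (stabilizer G a : Set G) :=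
        u.toMul.2.resolve_left fun h => hu (Additive.toMul.injective (Subtype.ext h))
      have hw' : ((w.toMul : Z) : G) ∈ Cfsg.involutionsIn (stabilizer G a : Set G) :=
        w.toMul.2.resolve_left fun h => hw (Additive.toMul.injective (Subtype.ext h))
      obtain ⟨k, hk, hkw⟩ := RankOne.inverted_transitive hS hu' hw'
      refine ⟨⟨k⁻¹, inv_mem (Subgroup.subset_closure hk)⟩,
        Additive.toMul.injective (Subtype.ext ?_), fun l hl => Subtype.ext ?_⟩
      · show k⁻¹ * ((u.toMul : Z) : G) * k⁻¹⁻¹ = _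
        rw [inv_inv]; exact hkw
      · obtain ⟨hui, hua⟩ := (RankOne.mem_involutionsIn hS).1 hu'
        show (l : G) = k⁻¹
        rw [← inv_inv (l : G)]
        refine congrArg _ (RankOne.inverted_conj_inj hS hui hua
          (RankOne.inv_mem_inverted hS ((RankOne.mem_invK hS h2).1 l.2)) hk ?_)
        rw [inv_inv, hkw]
        exact congrArg (fun y : Additive Z => ((y.toMul : Z) : G)) hl)
    ⟨Additive.ofMul ⟨s, Or.inr hs⟩, fun h =>
      hs.2.1 (congrArg (fun y : Additive Z => ((y.toMul : Z) : G)) h)⟩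
  have : Fintype (Hermitian.fixed C.σ) := Fintype.ofFinite _
  let ι : L ≃+* Hermitian.fixed C.σ := FiniteField.ringEquivOfCardEq (K := L) (K' := Hermitian.fixed C.σ) (by
    rw [← Nat.card_eq_fintype_card, ← Nat.card_eq_fintype_card, C.hq, ← Nat.card_congr e.toEquiv]
    exact hcA)
  let η : Q → F := fun x => if h : (x : G) ∈ Z then (ι (e (Additive.ofMul ⟨x, h⟩)) : F) else 0
  have hη : ∀ (x : Q) (h : (x : G) ∈ Z), η x = (ι (e (Additive.ofMul ⟨x, h⟩)) : F) := fun x h => dif_pos h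
  refine ⟨η, ⟨fun x z hx hz => ?_, fun z hz => ?_, fun z hz h => ?_, fun r hr => ?_⟩, fun k hk =>
    ⟨(ι (g ⟨k, hk⟩ : L) : F), fun hkD z hz => ?_⟩⟩
  · rw [hη x hx, hη z hz, hη (x * z) (mul_mem hx hz),
      show (⟨((x * z : Q) : G), mul_mem hx hz⟩ : Z) = ⟨x, hx⟩ * ⟨z, hz⟩ from rfl, ofMul_mul, map_add, map_add]
    rfl
  · rw [hη z hz, ← C.hσ]; exact (ι (e (Additive.ofMul (⟨z, hz⟩ : Z)))).2
  · rw [hη z hz] at h
    have h1 : ι (e (Additive.ofMul (⟨z, hz⟩ : Z))) = 0 := Subtype.ext h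
    rw [map_eq_zero_iff _ ι.injective, map_eq_zero_iff _ e.injective] at h1
    exact Subtype.ext (congrArg (fun y : Z => (y : G)) (congrArg Additive.toMul h1))
  · obtain ⟨u, hu⟩ := e.surjective (ι.symm ⟨r, by rw [Hermitian.mem_fixed, C.hσ]; exact hr⟩)
    refine ⟨⟨((u.toMul : Z) : G), RankOne.invSub_le_Q hS h2 u.toMul.2⟩, u.toMul.2, ?_⟩
    rw [hη _ u.toMul.2, show (⟨((u.toMul : Z) : G), u.toMul.2⟩ : Z) = u.toMul from rfl, ofMul_toMul, hu,
      ι.apply_symm_apply]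
  · rw [hη z hz, hη _ (RankOne.conj_mem_invSub hS h2 hkD hz)]
    have h := congrArg (fun l : L => ((ι l : Hermitian.fixed C.σ) : F)) (hg ⟨k, hk⟩ (Additive.ofMul ⟨z, hz⟩))
    simp only [map_mul, Subfield.coe_mul] at h
    exact h

set_option maxHeartbeats 800000 in
/-- **The squares are norms**, or `q = 8` and they are cubic. -/
theorem exists_sq_coord : ∃ (κ : Q → F) (g : G → F) (ζ : Q → F),
    QuotCoord hS h2 (qSize a t) κ g ∧ InvCoord hS h2 (qSize a t) ζ ∧
      ((∀ x, ζ (x * x) = κ x ^ (qSize a t + 1)) ∨ (qSize a t = 8 ∧ ∃ Sq : F → F,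
        (∀ x, ζ (x * x) = Sq (κ x)) ∧
        (∀ x y z, Sq (x + y + z) + Sq (x + y) + Sq z
          = Sq (x + z) + Sq x + Sq z + (Sq (y + z) + Sq y + Sq z)) ∧
        ∀ k y, k ^ 8 = k → Sq (k * y) = k ^ 3 * Sq y)) := by
  classical
  obtain ⟨κ, g, hκ, w, hw, hw1, d, hd, hdo⟩ := exists_quot hS h2 hU C
  obtain ⟨η, hη, hηk⟩ := exists_inv_coord hS h2 hU C
  obtain ⟨n, hn2, hn⟩ := RankOne.qSize_pow hS h2
  obtain ⟨hcQ, hcA, hcK, hcF⟩ := card_data hS h2 hU C
  set q := qSize a t with hq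
  have hcm : ∀ {z : Q}, (z : G) ∈ invSub hS h2 → ∀ x : Q, x * z = z * x := fun hz x =>
    (z_comm hS h2 hz x).symm
  have hzz : ∀ {z : Q}, (z : G) ∈ invSub hS h2 → z * z = 1 := fun hz =>
    Subtype.ext (RankOne.invSub_sq hS h2 hz)
  have hsq : ∀ x : Q, ((x * x : Q) : G) ∈ invSub hS h2 := fun x =>
    RankOne.cube_sq_mem hS h2 hU.toIsCube x.2
  have hη1 : η 1 = 0 := by
    have := hη.mul 1 1 (one_mem _) (one_mem _)
    rw [one_mul] at this
    exact left_eq_add.1 this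
  -- commutators
  let k : Q → Q → Q := fun u v => (u * v)⁻¹ * (v * u)
  have hk : ∀ u v, v * u = u * v * k u v := fun u v => (mul_inv_cancel_left _ _).symm
  have hkA : ∀ u v, (k u v : G) ∈ invSub hS h2 := fun u v => (hκ.zero_iff _).1 (by
    have h := congrArg κ (hk u v)
    rw [hκ.add, hκ.add, hκ.add u v, add_comm (κ v)] at h
    exact left_eq_add.1 h)
  have hsame : ∀ {x y}, κ x = κ y → ∃ z : Q, (z : G) ∈ invSub hS h2 ∧ y = x * z := fun {x y} h =>
    ⟨x⁻¹ * y, (hκ.zero_iff _).1 (by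
      have e := hκ.add x (x⁻¹ * y)
      rw [mul_inv_cancel_left, ← h] at e
      exact left_eq_add.1 e), (mul_inv_cancel_left x y).symm⟩
  have hsqc : ∀ {x y}, κ x = κ y → x * x = y * y := fun {x y} h => by
    obtain ⟨z, hz, rfl⟩ := hsame h
    rw [show x * z * (x * z) = x * (z * x) * z by group, ← hcm hz,
      show x * (x * z) * z = x * x * (z * z) by group, hzz hz, mul_one]
  have hks : ∀ {u u' v}, κ u = κ u' → k u v = k u' v := fun {u u' v} h => by
    obtain ⟨z, hz, rfl⟩ := hsame h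
    show (u * v)⁻¹ * (v * u) = (u * z * v)⁻¹ * (v * (u * z))
    rw [mul_assoc u z v, ← hcm hz v, ← mul_assoc u v z, ← mul_assoc v u z, hcm hz (u * v),
      hcm hz (v * u), mul_inv_rev]
    group
  have hkη : ∀ u u' v, k (u * u') v = k u v * k u' v := fun u u' v => by
    refine mul_left_cancel (a := u * u' * v) ?_
    rw [← hk (u * u') v, ← mul_assoc v, hk u v, mul_assoc (u * v), ← hcm (hkA u v), ← mul_assoc,
      mul_assoc u v u', hk u' v, ← hcm (hkA u v) (k u' v)]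
    simp only [mul_assoc]
  have hexp : ∀ u v, η (u * v * (u * v)) = η (u * u) + η (v * v) + η (k u v) := fun u v => by
    have e : u * v * (u * v) = u * u * (v * v) * k u v := by
      rw [show u * v * (u * v) = u * (v * u) * v by group, hk u v,
        show u * (u * v * k u v) * v = u * (u * v) * (k u v * v) by group, ← hcm (hkA u v)]
      group
    rw [e, hη.mul _ _ (mul_mem (hsq u) (hsq v)) (hkA u v), hη.mul _ _ (hsq u) (hsq v)]
  let sec : F → Q := fun y => (hκ.surj y).choose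
  have hsec : ∀ y, κ (sec y) = y := fun y => (hκ.surj y).choose_spec
  obtain ⟨Sq, hSq⟩ : ∃ Sq : F → F, ∀ x, η (x * x) = Sq (κ x) :=
    ⟨fun y => η (sec y * sec y), fun x => by
      show η (x * x) = η (sec (κ x) * sec (κ x))
      rw [hsqc (show κ (sec (κ x)) = κ x from hsec _)]⟩
  have hreal : ∀ y, Sq y ^ q = Sq y := fun y => by rw [← hsec y, ← hSq]; exact hη.real _ (hsq _)
  have hanis : ∀ y, Sq y = 0 → y = 0 := fun y h => by
    rw [← hsec y, ← hSq] at h
    rw [← hsec y]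
    refine (hκ.zero_iff _).2 (RankOne.mem_invSub_of_sq hS h2 (sec y).2 ?_)
    exact congrArg Subtype.val (hη.inj _ (hsq _) h)
  have hB : ∀ u v, Sq (κ u + κ v) = Sq (κ u) + Sq (κ v) + η (k u v) := fun u v => by
    rw [← hκ.add, ← hSq, hexp, hSq, hSq]
  have hadd : ∀ x y z, Sq (x + y + z) + Sq (x + y) + Sq z
      = Sq (x + z) + Sq x + Sq z + (Sq (y + z) + Sq y + Sq z) := fun x y z => by
    obtain ⟨u, rfl⟩ := hκ.surj x
    obtain ⟨u', rfl⟩ := hκ.surj y
    obtain ⟨v, rfl⟩ := hκ.surj z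
    rw [hB u v, hB u' v, show κ u + κ u' = κ (u * u') from (hκ.add _ _).symm, hB (u * u') v, hkη,
      hη.mul _ _ (hkA _ _) (hkA _ _)]
    linear_combination (Sq (κ (u * u')) - Sq (κ u) - Sq (κ u') - Sq (κ v)) * (CharTwo.two_eq_zero (R := F))
  have hact : ∀ d : G, d ∈ invK a t ∨ d ∈ wSub a t → ∀ (hd : d ∈ twoStab a t) (x : Q),
      Sq (g d * κ x) = η (cq hS hd (x * x)) := fun d hd' hd x => by
    rw [← hκ.act d hd' hd x, ← hSq, cq_mul hS hd]
  have hscale : ∀ r, r ^ q = r → r ≠ 0 → ∃ χ, ∀ y, Sq (r * y) = χ * Sq y := fun r hr hr0 => by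
    obtain ⟨l, hl, rfl⟩ := hκ.nu_onto r hr hr0
    obtain ⟨χ, hχ⟩ := hηk l hl
    refine ⟨χ, fun y => ?_⟩
    obtain ⟨x, rfl⟩ := hκ.surj y
    rw [hact l (Or.inl hl) (RankOne.invK_le hS hl), hχ _ _ (hsq x), hSq]
  have hinjK : ∀ r, r ^ q = r → Sq r = Sq 1 → r = 1 := fun r hr h => by
    by_cases hr0 : r = 0
    · have := hanis 1 (by
        rw [← h, hr0]
        have := hB 1 1
        rw [(hκ.zero_iff 1).2 (one_mem _), add_zero] at this
        have hk1 : k 1 1 = 1 := by simp [k]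
        rw [hk1, hη1, add_zero, CharTwo.add_self_eq_zero] at this
        exact this)
      exact absurd this one_ne_zero
    obtain ⟨l, hl, rfl⟩ := hκ.nu_onto r hr hr0
    have hlD := RankOne.invK_le hS hl
    obtain ⟨x, hx⟩ := hκ.surj 1
    have e := hact l (Or.inl hl) hlD x
    rw [hx, mul_one, h, ← hx, ← hSq] at e
    have hxx : x * x ≠ 1 := fun h1 => one_ne_zero (α := F) (hanis 1 (by rw [← hx, ← hSq, h1, hη1]))
    have e' : cq hS hlD (x * x) = x * x := by
      have hz := RankOne.conj_mem_invSub hS h2 hlD (hsq x)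
      have h0 : η (cq hS hlD (x * x) * (x * x)) = 0 := by
        rw [hη.mul _ _ hz (hsq x), ← e, CharTwo.add_self_eq_zero]
      rw [eq_inv_of_mul_eq_one_left (hη.inj _ (mul_mem hz (hsq x)) h0)]
      exact inv_eq_of_mul_eq_one_right (hzz (hsq x))
    have hl1 : l = 1 := inverted_eq_one hS h2 hl (hsq x) hxx
      (mul_inv_eq_iff_eq_mul.1 (congrArg Subtype.val e'))
    subst hl1
    have := hκ.act 1 (Or.inl hl) hlD x
    rw [show cq hS hlD x = x from Subtype.ext (by simp [cq]), hx, mul_one] at this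
    exact this.symm
  have hwinv : ∀ y, Sq (g w * y) = Sq y := fun y => by
    obtain ⟨x, rfl⟩ := hκ.surj y
    rw [hact w (Or.inr hw) (RankOne.wSub_le hS h2 hw), ← hSq]
    refine congrArg η (Subtype.ext ?_)
    show w * ((x * x : Q) : G) * w⁻¹ = _
    rw [((RankOne.mem_wSub hS h2).1 hw).2 _ (hsq x), mul_inv_cancel_right]
  rcases sq_form_cases hn hn2 hcF Sq hreal hanis hadd hscale hinjK hw1 hwinv hd hdo with
    ⟨Φ, hΦa, hΦr, hΦ0, hΦ⟩ | ⟨hq8, c, j, hc0, hcf, hj, hsc⟩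
  · -- invert `Φ` on the fixed field
    have : Fintype (Hermitian.fixed C.σ) := Fintype.ofFinite _
    have hfix : ∀ {x : F}, x ∈ Hermitian.fixed C.σ ↔ x ^ q = x := fun {x} => by
      rw [Hermitian.mem_fixed, C.hσ]
    let Ψ : Hermitian.fixed C.σ →+ Hermitian.fixed C.σ :=
      AddMonoidHom.mk' (fun r => ⟨Φ r, hfix.2 (hΦr _ (hfix.1 r.2))⟩)
        fun r s => Subtype.ext (hΦa _ _ (hfix.1 r.2) (hfix.1 s.2))
    have hΨ : Function.Bijective Ψ := Finite.injective_iff_bijective.1 ((injective_iff_map_eq_zero Ψ).2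
      fun r h => Subtype.ext (hΦ0 _ (hfix.1 r.2) (congrArg Subtype.val h)))
    let Ψe : Hermitian.fixed C.σ ≃+ Hermitian.fixed C.σ := AddEquiv.ofBijective Ψ hΨ
    let ζ : Q → F := fun z =>
      if h : η z ^ q = η z then (Ψe.symm ⟨η z, hfix.2 h⟩ : F) else 0
    have hζ : ∀ z : Q, (z : G) ∈ invSub hS h2 → ζ z ^ q = ζ z ∧ Φ (ζ z) = η z := fun z hz => by
      simp only [ζ, dif_pos (hη.real z hz)]
      exact ⟨hfix.1 (Ψe.symm _).2, congrArg Subtype.val (Ψe.apply_symm_apply _)⟩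
    have hΦinj : ∀ x y, x ^ q = x → y ^ q = y → Φ x = Φ y → x = y := fun x y hx hy h => by
      refine CharTwo.add_eq_zero.1 (hΦ0 _ (by rw [add_pow_q hn, hx, hy]) ?_)
      rw [hΦa _ _ hx hy, h, CharTwo.add_self_eq_zero]
    refine ⟨κ, g, ζ, hκ, ⟨fun x z hx hz => ?_, fun z hz => (hζ z hz).1, fun z hz h => ?_, fun s hs => ?_⟩,
      Or.inl fun x => ?_⟩
    · obtain ⟨a1, a2⟩ := hζ x hx
      obtain ⟨b1, b2⟩ := hζ z hz
      obtain ⟨c1, c2⟩ := hζ (x * z) (mul_mem hx hz)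
      refine hΦinj _ _ c1 (by rw [add_pow_q hn, a1, b1]) ?_
      rw [c2, hΦa _ _ a1 b1, a2, b2, hη.mul x z hx hz]
    · refine hη.inj z hz ?_
      have hΦ00 : Φ 0 = 0 := by
        have hz' : (0 : F) ^ q = 0 := zero_pow (by rw [hn]; positivity)
        have := hΦa 0 0 hz' hz'
        rw [add_zero] at this
        exact left_eq_add.1 this
      rw [← (hζ z hz).2, h, hΦ00]
    · obtain ⟨z, hz, hzs⟩ := hη.onto (Φ s) (hΦr s hs)
      exact ⟨z, hz, hΦinj _ _ (hζ z hz).1 hs ((hζ z hz).2.trans hzs)⟩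
    · have hN : (κ x ^ (q + 1)) ^ q = κ x ^ (q + 1) := by rw [pow_succ, mul_pow, pow_q_q hcF, mul_comm]
      refine hΦinj _ _ (hζ _ (hsq x)).1 hN ?_
      rw [(hζ _ (hsq x)).2, hSq, hΦ]
  · -- `q = 8`: straighten the exponent
    obtain ⟨j', hjj, hlin⟩ : ∃ j' : ℕ, (∀ u : F, u ^ 8 = u → (u ^ j) ^ j' = u) ∧
        ∀ x y : F, (x + y) ^ j' = x ^ j' + y ^ j' := by
      have h4 : ∀ x y : F, (x + y) ^ 4 = x ^ 4 + y ^ 4 := fun x y => by
        rw [show 4 = 2 * 2 from rfl, pow_mul, pow_mul, pow_mul, CharTwo.add_sq, CharTwo.add_sq]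
      rcases hj with rfl | rfl | rfl
      · exact ⟨1, fun u _ => by rw [pow_one, pow_one], fun x y => by simp⟩
      · exact ⟨4, fun u hu => by rw [← pow_mul]; exact hu, h4⟩
      · exact ⟨2, fun u hu => by rw [← pow_mul]; exact hu, fun x y => CharTwo.add_sq x y⟩
    have hj0 : j' ≠ 0 := fun h => by
      have := hlin 0 0
      rw [h, pow_zero, CharTwo.add_self_eq_zero] at this
      exact one_ne_zero this
    have hjj' : ∀ u : F, u ^ 8 = u → (u ^ j') ^ j = u := fun u hu => by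
      rw [← pow_mul, mul_comm, pow_mul]; exact hjj u hu
    rw [hq8] at hreal hcf hsc ⊢
    have hη8 : ∀ z : Q, (z : G) ∈ invSub hS h2 → (η z / c) ^ 8 = η z / c := fun z hz => by
      rw [div_pow, hcf]; congr 1; rw [← hq8]; exact hη.real z hz
    refine ⟨κ, g, fun z => (η z / c) ^ j', hq8 ▸ hκ, ?_, Or.inr ⟨rfl, fun y => (Sq y / c) ^ j', fun x => ?_,
      fun x y z => ?_, fun r y hr => ?_⟩⟩
    · refine ⟨fun x z hx hz => ?_, fun z hz => ?_, fun z hz h => ?_, fun s hs => ?_⟩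
      · show _ = _ + _
        rw [hη.mul x z hx hz, add_div, hlin]
      · rw [← pow_mul, mul_comm, pow_mul, hη8 z hz]
      · exact hη.inj z hz ((div_eq_zero_iff.1 (pow_eq_zero_iff hj0 |>.1 h)).resolve_right hc0)
      · obtain ⟨z, hz, hzs⟩ := hη.onto (s ^ j * c)
          (by rw [hq8, mul_pow, hcf, ← pow_mul, mul_comm j, pow_mul, hs])
        exact ⟨z, hz, by show (η z / c) ^ j' = s; rw [hzs, mul_div_cancel_right₀ _ hc0, hjj s hs]⟩
    · show (η (x * x) / c) ^ j' = (Sq (κ x) / c) ^ j'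
      rw [hSq]
    · show (Sq _ / c) ^ j' + (Sq _ / c) ^ j' + (Sq _ / c) ^ j' = _
      simp only [← hlin, ← add_div]
      rw [hadd x y z]
    · show (Sq _ / c) ^ j' = _ * (Sq _ / c) ^ j'
      rw [hsc r y hr, mul_pow]
      congr 1
      exact hjj _ (by rw [← pow_mul, mul_comm, pow_mul, hr])

end Cfsg.Agent.Lib.RankOneU3
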