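import Cfsg.Agent.Lib.U3Rec.Bridge
import Cfsg.Agent.Lib.RankOneW.Small

/-!
# The relations of the map `x ↦ g (x⁻¹)⁻¹` of a rank one group

`g x` is the element of `Q` with `t x t a = g x t a`. Only the involutions of `Q` and the inverted elements of
the two-point stabiliser enter the relations.
-/

set_option autoImplicit false
set_option linter.unusedSectionVars false

namespace Cfsg.Agent.Lib.RankOneU3

open MulAction
open Cfsg.Agent.RankOne (twoStab invSub invK RInvol)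
open Cfsg.Agent.U3Rec (gq gq_spec gq_eq gq_ne gq_gq cq cq_point cq_ne gq_cq exists_form f_eq gq_f gq_mul
  conj_t)

variable {G Ω : Type*} [Group G] [MulAction G Ω] {a : Ω} {t : G} {Q : Subgroup G}
variable [Finite G] (hS : Cfsg.IsRankOneSetup G Ω a t Q)
  (h2 : ∃ x y : G, x ≠ 1 ∧ y ≠ 1 ∧ x ≠ y ∧ x * x = 1 ∧ y * y = 1 ∧ x * y = y * x)

/-- `x ↦ g (x⁻¹)⁻¹`. -/
noncomputable def tq (hS : Cfsg.IsRankOneSetup G Ω a t Q) (x : Q) : Q := (gq hS x⁻¹)⁻¹

theorem cq_mul {d : G} (hd : d ∈ twoStab a t) (x y : Q) :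
    cq hS hd (x * y) = cq hS hd x * cq hS hd y :=
  Subtype.ext (by simp [cq, mul_assoc])

theorem cq_inv {d : G} (hd : d ∈ twoStab a t) (x : Q) : cq hS hd x⁻¹ = (cq hS hd x)⁻¹ :=
  Subtype.ext (by simp [cq, mul_assoc])

theorem cq_congr {d d' : G} (hd : d ∈ twoStab a t) (hd' : d' ∈ twoStab a t) (h : d = d') (x : Q) :
    cq hS hd x = cq hS hd' x := by subst h; rfl

theorem cq_inj {d : G} (hd : d ∈ twoStab a t) {x y : Q} (h : cq hS hd x = cq hS hd y) : x = y :=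
  Subtype.ext (mul_left_cancel (mul_right_cancel (congrArg Subtype.val h)))

theorem cq_cancel {d : G} (hd : d ∈ twoStab a t) (x : Q) : cq hS hd (cq hS (inv_mem hd) x) = x :=
  Subtype.ext (by simp [cq, mul_assoc])

include hS h2

theorem z_inv {z : Q} (hz : (z : G) ∈ invSub hS h2) : z⁻¹ = z :=
  inv_eq_of_mul_eq_one_right (Subtype.ext (by
    rcases hz with e | e
    · simp [e]
    · exact e.2.2))

theorem z_comm {z : Q} (hz : (z : G) ∈ invSub hS h2) (y : Q) : z * y = y * z :=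
  Subtype.ext (RankOne.invSub_comm hS h2 hz y.2)

theorem cq_mem_iff {d : G} (hd : d ∈ twoStab a t) {x : Q} :
    (cq hS hd x : G) ∈ invSub hS h2 ↔ (x : G) ∈ invSub hS h2 := by
  refine ⟨fun h => ?_, fun h => RankOne.conj_mem_invSub hS h2 hd h⟩
  simpa [cq, mul_assoc] using RankOne.conj_mem_invSub hS h2 (inv_mem hd) h

theorem tq_ne {x : Q} (hx : x ≠ 1) : tq hS x ≠ 1 := inv_ne_one.2 (gq_ne hS (inv_ne_one.2 hx))

theorem tq_tq {x : Q} (hx : x ≠ 1) : tq hS (tq hS x) = x := by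
  rw [tq, tq, inv_inv, gq_gq hS (inv_ne_one.2 hx), inv_inv]

theorem tq_cq {d : G} (hd : d ∈ twoStab a t) {x : Q} (hx : x ≠ 1) :
    tq hS (cq hS hd x) = cq hS (conj_t hS hd) (tq hS x) := by
  rw [tq, ← cq_inv hS hd, gq_cq hS hd (inv_ne_one.2 hx), tq, cq_inv hS]

variable (hr : RInvol hS h2)
include hr

/-- The canonical form of a central element. -/
theorem gq_cen {z : Q} (hz : (z : G) ∈ invSub hS h2) (hz1 : z ≠ 1) :
    (gq hS z : G) ∈ invSub hS h2 ∧ ∃ k ∈ invK a t, ∃ hk : k ∈ twoStab a t,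
      t * (z : G) * t = gq hS z * k * t * gq hS z ∧ cq hS hk z = gq hS z := by
  have hzi : (z : G) ∈ Cfsg.involutionsIn (stabilizer G a : Set G) :=
    hz.resolve_left fun h => hz1 (Subtype.ext h)
  obtain ⟨z₁, hz₁, k, hk, e⟩ := RankOne.tzt hS h2 hr hzi
  have hkD := RankOne.invK_le hS hk
  have hz₁Q : z₁ ∈ Q := RankOne.invSub_le_Q hS h2 (Or.inr hz₁)
  have hg : gq hS z = ⟨z₁, hz₁Q⟩ := gq_eq hS hz1 (by
    show t • (z : G) • t • a = z₁ • t • a
    rw [← mul_smul (z : G), ← mul_smul, ← mul_assoc, e]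
    simp only [mul_smul, RankOne.smul_a hS hz₁Q, (RankOne.mem_twoStab hS hkD).2])
  have hgZ : (gq hS z : G) ∈ invSub hS h2 := by rw [hg]; exact Or.inr hz₁
  refine ⟨hgZ, k, hk, hkD, by rw [hg]; exact e, ?_⟩
  have e' : t * (z : G) * t = gq hS z * k * t * gq hS z := by rw [hg]; exact e
  have h := gq_f hS hkD hz1 e' (gq_ne hS hz1)
  rw [gq_gq hS hz1, z_inv hS h2 hgZ] at h
  conv_lhs => rw [h]
  exact cq_cancel hS hkD _

theorem gq_mem {z : Q} (hz : (z : G) ∈ invSub hS h2) (hz1 : z ≠ 1) :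
    (gq hS z : G) ∈ invSub hS h2 := (gq_cen hS h2 hr hz hz1).1

theorem tq_notMem {x : Q} (hx : (x : G) ∉ invSub hS h2) : (tq hS x : G) ∉ invSub hS h2 := fun h => by
  have hx1 : x ≠ 1 := fun e => hx (by rw [e]; exact one_mem _)
  have h' : (gq hS x⁻¹ : G) ∈ invSub hS h2 := by simpa [tq] using inv_mem h
  have h'' := gq_mem hS h2 hr h' (gq_ne hS (inv_ne_one.2 hx1))
  rw [gq_gq hS (inv_ne_one.2 hx1)] at h''
  exact hx (by simpa using inv_mem h'')

/-- Translation by a central element. -/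
theorem tq_mul_cen {z : Q} (hz : (z : G) ∈ invSub hS h2) (hz1 : z ≠ 1) {k : G} (hk : k ∈ twoStab a t)
    (he : t * (z : G) * t = gq hS z * k * t * gq hS z) {y : Q} (hy : (y : G) ∉ invSub hS h2) :
    tq hS (y * z) = cq hS hk (tq hS (tq hS y * gq hS z)) * gq hS z := by
  have hgZ := gq_mem hS h2 hr hz hz1
  have hy' : (y⁻¹ : Q) ≠ 1 := fun h => hy (by rw [inv_eq_one.1 h]; exact one_mem _)
  have hzy : z * y⁻¹ ≠ 1 := fun h => hy (by rw [← mul_inv_eq_one.1 h]; exact hz)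
  have hgy : gq hS z * gq hS y⁻¹ ≠ 1 := fun h => by
    refine tq_notMem hS h2 hr hy ?_
    rw [tq, eq_inv_of_mul_eq_one_right h, inv_inv]
    exact hgZ
  have h := gq_mul hS hk hz1 he hy' hzy hgy
  have e1 : (y * z)⁻¹ = z * y⁻¹ := by rw [mul_inv_rev, z_inv hS h2 hz]
  have e2 : (tq hS y * gq hS z)⁻¹ = gq hS z * gq hS y⁻¹ := by
    rw [mul_inv_rev, tq, inv_inv, z_inv hS h2 hgZ]
  rw [tq, e1, h, mul_inv_rev, z_inv hS h2 hgZ, z_comm hS h2 hgZ, tq, e2, cq_inv hS]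
  rw [z_comm hS h2 hgZ (gq hS y⁻¹)]

/-- The identity from conjugating a central element. -/
theorem gq_conj {y : Q} (hy : (y : G) ∉ invSub hS h2) {d : G} (hd : d ∈ twoStab a t) {f : Q}
    (he : t * (y : G) * t = gq hS y * d * t * f) {z : Q} (hz : (z : G) ∈ invSub hS h2) (hz1 : z ≠ 1) :
    gq hS (y * gq hS (cq hS (inv_mem (conj_t hS hd)) z)) = gq hS y * gq hS (z * gq hS (gq hS y)⁻¹) := by
  have hy1 : y ≠ 1 := fun h => hy (by rw [h]; exact one_mem _)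
  set s1 := cq hS (inv_mem (conj_t hS hd)) z with hs1
  have hs1ne : s1 ≠ 1 := cq_ne hS _ hz1
  have hs1Z : (s1 : G) ∈ invSub hS h2 := (cq_mem_iff hS h2 _).2 hz
  set Y := gq hS y with hY
  have hYn : (Y⁻¹ : Q) ≠ 1 := inv_ne_one.2 (gq_ne hS hy1)
  have hne : y * gq hS s1 ≠ 1 := fun h => hy (by
    rw [eq_inv_of_mul_eq_one_left h, Subgroup.coe_inv]
    exact inv_mem (gq_mem hS h2 hr hs1Z hs1ne))
  have hne2 : z * gq hS Y⁻¹ ≠ 1 := fun h => by
    have hY' : (Y : G) ∈ invSub hS h2 := by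
      have e : gq hS Y⁻¹ = z := by rw [eq_inv_of_mul_eq_one_right h, z_inv hS h2 hz]
      have e2 : Y⁻¹ = gq hS z := by rw [← e, gq_gq hS hYn]
      have := gq_mem hS h2 hr hz hz1
      rw [← e2] at this
      simpa using inv_mem this
    have := gq_mem hS h2 hr hY' (gq_ne hS hy1)
    rw [hY, gq_gq hS hy1] at this
    exact hy this
  refine gq_eq hS hne ?_
  have hti := RankOne.inv_t hS
  -- `t Y t = y t f⁻¹ (t d⁻¹ t)`
  have hB : t * (Y : G) * t = (y : G) * t * (f : G)⁻¹ * (t * d * t)⁻¹ := by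
    calc t * (Y : G) * t = t * ((Y : G) * d * t * f * (f : G)⁻¹ * t⁻¹ * d⁻¹) * t := by group
      _ = t * (t * (y : G) * t * (f : G)⁻¹ * t⁻¹ * d⁻¹) * t := by rw [← he]
      _ = (t * t) * (y : G) * t * (f : G)⁻¹ * (t⁻¹ * d⁻¹ * t) := by group
      _ = _ := by rw [hS.mul_self, one_mul, mul_inv_rev, mul_inv_rev, hti]; group
  have hfc : (f : G) * (s1 : G) = (s1 : G) * f := (RankOne.invSub_comm hS h2 hs1Z f.2).symm
  have hid : t * (Y : G) * t * (z : G) * (t * (Y : G) * t)⁻¹ =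
      (y : G) * (t * (s1 : G) * t) * (y : G)⁻¹ := by
    rw [hB]
    calc _ = (y : G) * t * ((f : G)⁻¹ * ((t * d * t)⁻¹ * (z : G) * (t * d * t)) * f) * t⁻¹ * (y : G)⁻¹ := by
          group
      _ = (y : G) * t * ((f : G)⁻¹ * (s1 : G) * f) * t⁻¹ * (y : G)⁻¹ := by
          simp [hs1, cq, mul_assoc]
      _ = (y : G) * t * (s1 : G) * t⁻¹ * (y : G)⁻¹ := by
          rw [mul_assoc (f : G)⁻¹, ← hfc, inv_mul_cancel_left]
      _ = _ := by rw [hti]; group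
  have e1 : (y : G) • (gq hS s1 : G) • t • a = (y : G) • t • (s1 : G) • t • a := by rw [gq_spec hS hs1ne]
  rw [Subgroup.coe_mul, mul_smul, e1, Subgroup.coe_mul, mul_smul, ← gq_spec hS hne2, Subgroup.coe_mul,
    mul_smul (z : G), ← gq_spec hS hYn]
  have h := congrArg (fun g : G => g • a) hid
  simp only [mul_smul, RankOne.smul_a hS (inv_mem y.2), mul_inv_rev, hti] at h
  rw [← h, U3Rec.t_t hS]
  rw [Subgroup.coe_inv]

/-- The translated value in terms of the map alone. -/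
theorem tq_block {y : Q} (hy : (y : G) ∉ invSub hS h2) :
    (∀ z : Q, (z : G) ∈ invSub hS h2 → z ≠ 1 → ∃ z' : Q, (z' : G) ∈ invSub hS h2 ∧ z' ≠ 1 ∧
      tq hS (y * z') = tq hS (tq hS (tq hS y)⁻¹ * z) * tq hS y) ∧
    ∀ z' : Q, (z' : G) ∈ invSub hS h2 → z' ≠ 1 → ∃ z : Q, (z : G) ∈ invSub hS h2 ∧ z ≠ 1 ∧
      tq hS (y * z') = tq hS (tq hS (tq hS y)⁻¹ * z) * tq hS y := by
  have hyi : (y⁻¹ : Q).1 ∉ invSub hS h2 := fun h => hy (by simpa using inv_mem h)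
  obtain ⟨d, f, hd, he⟩ := exists_form hS (x := y⁻¹) fun h => hyi (by rw [h]; exact one_mem _)
  have hgen : ∀ z : Q, (z : G) ∈ invSub hS h2 → z ≠ 1 →
      tq hS (y * gq hS (cq hS (inv_mem (conj_t hS hd)) z))
        = tq hS (tq hS (tq hS y)⁻¹ * z) * tq hS y := by
    intro z hz hz1
    have hzc : (gq hS (cq hS (inv_mem (conj_t hS hd)) z) : G) ∈ invSub hS h2 :=
      gq_mem hS h2 hr ((cq_mem_iff hS h2 _).2 hz) (cq_ne hS _ hz1)
    have h := gq_conj hS h2 hr hyi hd he hz hz1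
    have e1 : (y * gq hS (cq hS (inv_mem (conj_t hS hd)) z))⁻¹
        = y⁻¹ * gq hS (cq hS (inv_mem (conj_t hS hd)) z) := by
      rw [mul_inv_rev, z_inv hS h2 hzc, z_comm hS h2 hzc]
    have e2 : (gq hS y⁻¹)⁻¹ = tq hS y := rfl
    rw [e2] at h
    have e3 : gq hS (tq hS y) = (tq hS (tq hS y)⁻¹)⁻¹ := by simp [tq]
    have e4 : (tq hS (tq hS y)⁻¹ * z)⁻¹ = z * (tq hS (tq hS y)⁻¹)⁻¹ := by rw [mul_inv_rev, z_inv hS h2 hz]
    conv_lhs => rw [tq, e1, h, mul_inv_rev, e3, ← e4]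
    rfl
  refine ⟨fun z hz hz1 => ⟨_, gq_mem hS h2 hr ((cq_mem_iff hS h2 _).2 hz) (cq_ne hS _ hz1),
    gq_ne hS (cq_ne hS _ hz1), hgen z hz hz1⟩, fun z' hz' hz1' => ?_⟩
  refine ⟨cq hS (conj_t hS hd) (gq hS z'), (cq_mem_iff hS h2 _).2 (gq_mem hS h2 hr hz' hz1'),
    cq_ne hS _ (gq_ne hS hz1'), ?_⟩
  rw [← hgen _ ((cq_mem_iff hS h2 _).2 (gq_mem hS h2 hr hz' hz1')) (cq_ne hS _ (gq_ne hS hz1'))]
  have e : cq hS (inv_mem (conj_t hS hd)) (cq hS (conj_t hS hd) (gq hS z')) = gq hS z' :=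
    Subtype.ext (by simp [cq, mul_assoc])
  rw [e, gq_gq hS hz1']

end Cfsg.Agent.Lib.RankOneU3
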