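import Cfsg.Agent.Lib.RankOneU3.Transitive
import Cfsg.Agent.Lib.U3Rec.Coord

/-!
The torus data of the normal `2`-subgroup of a point stabiliser.
-/

set_option autoImplicit false
set_option linter.unusedSectionVars false
set_option linter.style.haveILetI false

namespace Cfsg.Agent.RankOneU3

universe u v

variable {G : Type u} [Group G] [Finite G] {F : Type v} [Field F] [Fintype F] [CharP F 2]
variable {q : ℕ} {x₀ : G} {A : Subgroup (cC x₀)} {χ : cC x₀ →* Fˣ} {c : cC x₀ → F}
variable (h : EntryHyp q x₀ A χ c)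
include h

/-- Conjugation of the two-point stabiliser on the normal `2`-subgroup. -/
theorem exists_conj_hom {t : G} : ∃ φ : RankOne.twoStab (pt A) t →* MulAut (TG χ),
    ∀ d x, ((φ d x : TG χ) : G) = (d : G) * x * (d : G)⁻¹ := by
  have hB : ∀ d : RankOne.twoStab (pt A) t, (d : G) ∈ BG A := fun d =>
    (stab_pt (A := A)).le (Subgroup.mem_inf.1 d.2).1
  let f : RankOne.twoStab (pt A) t → MulAut (TG χ) := fun d =>
    { toFun := fun x => ⟨(d : G) * x * (d : G)⁻¹, TG_conj h (hB d) x.2⟩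
      invFun := fun x => ⟨(d : G)⁻¹ * x * (d : G), by
        simpa using TG_conj h (inv_mem (hB d)) x.2⟩
      left_inv := fun x => Subtype.ext (by
        show (d : G)⁻¹ * ((d : G) * x * (d : G)⁻¹) * d = x
        group)
      right_inv := fun x => Subtype.ext (by
        show (d : G) * ((d : G)⁻¹ * x * d) * (d : G)⁻¹ = x
        group)
      map_mul' := fun x y => Subtype.ext (by
        show (d : G) * ((x : G) * y) * (d : G)⁻¹ = (d : G) * x * (d : G)⁻¹ * ((d : G) * y * (d : G)⁻¹)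
        group) }
  refine ⟨MonoidHom.mk' f fun d e => MulEquiv.ext fun x => Subtype.ext ?_, fun d x => rfl⟩
  show ((d : G) * e) * (x : G) * ((d : G) * e)⁻¹ = (d : G) * ((e : G) * x * (e : G)⁻¹) * (d : G)⁻¹
  group

/-- The torus data, for any commutative group mapped isomorphically onto the units. -/
theorem torus_data {D : Type u} [CommGroup D] (φ : D →* MulAut (TG χ)) (g : D ≃* Fˣ)
    (hg : ∀ d x, cG c ((φ d x : TG χ) : G) = (g d : F) * cG c (x : G)) :
    U3Rec.TorusData φ ((AG A).subgroupOf (TG χ)) q where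
  central a ha := Subgroup.mem_center_iff.2 fun x => Subtype.ext
    (AG_comm h (Subgroup.mem_subgroupOf.1 ha) (TG_le h x.2)).symm
  sq_mem x := by
    obtain ⟨x, y, hy, rfl⟩ := x
    exact Subgroup.mem_subgroupOf.2 ⟨y * y, h.ctype.sq_mem y hy, rfl⟩
  sq_one a ha := Subtype.ext (AG_sq h (Subgroup.mem_subgroupOf.1 ha))
  sq_onto a ha _ := by
    obtain ⟨b, hb, hba⟩ := Subgroup.mem_subgroupOf.1 ha
    obtain ⟨y, hy, hyb⟩ := h.ctype.sq_onto b hb
    exact ⟨⟨y, y, hy, rfl⟩, Subtype.ext ((congrArg Subtype.val hyb).trans hba)⟩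
  map_mem d a ha := by
    rw [Subgroup.mem_subgroupOf, ← cG_zero_iff h (φ d a).2, hg,
      (cG_zero_iff h a.2).2 (Subgroup.mem_subgroupOf.1 ha), mul_zero]
  transitive x y hx hy := by
    have hxc : cG c (x : G) ≠ 0 := fun e => hx (Subgroup.mem_subgroupOf.2 ((cG_zero_iff h x.2).1 e))
    have hyc : cG c (y : G) ≠ 0 := fun e => hy (Subgroup.mem_subgroupOf.2 ((cG_zero_iff h y.2).1 e))
    obtain ⟨d, hd⟩ := g.surjective (Units.mk0 _ hyc / Units.mk0 _ hxc)
    refine ⟨d, Subgroup.mem_subgroupOf.2 ((cG_zero_iff h ((φ d x)⁻¹ * y).2).1 ?_)⟩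
    have h1 := cG_add h (φ d x).2 ((φ d x)⁻¹ * y).2
    rw [← Subgroup.coe_mul, mul_inv_cancel_left, hg, hd, Units.val_div_eq_div_val, Units.val_mk0, Units.val_mk0,
      div_mul_cancel₀ _ hxc] at h1
    exact left_eq_add.1 h1
  free d x hx hd := by
    have hxc : cG c (x : G) ≠ 0 := fun e => hx (Subgroup.mem_subgroupOf.2 ((cG_zero_iff h x.2).1 e))
    have h1 := cG_add h (φ d x).2 ((φ d x)⁻¹ * x).2
    rw [← Subgroup.coe_mul, mul_inv_cancel_left, hg,
      (cG_zero_iff h ((φ d x)⁻¹ * x).2).2 (Subgroup.mem_subgroupOf.1 hd), add_zero] at h1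
    exact g.injective (Units.ext (by rw [map_one, Units.val_one]; exact (right_eq_mul₀ hxc).1 h1))
  card_A := by rw [Nat.card_congr (Subgroup.subgroupOfEquivOfLe (AG_le_TG h)).toEquiv, card_AG h]
  card_P := card_TG h

end Cfsg.Agent.RankOneU3
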