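import Cfsg.Agent.Lib.RankOneU3.Pair
import Cfsg.Agent.Lib.RankOne.Basic
import Mathlib.RingTheory.IntegralDomain
import Mathlib.GroupTheory.Perm.Cycle.Type

/-!
The normal `2`-subgroup of a point stabiliser is regular on the remaining points: the split rank-one set-up of
a group with the centraliser of an involution of `PGU₃(q)`.
-/

set_option autoImplicit false
set_option linter.unusedSectionVars false
set_option linter.style.haveILetI false

namespace Cfsg.Agent.RankOneU3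

open MulAction

variable {G : Type*} [Group G] [Finite G] {F : Type*} [Field F] [Fintype F] [CharP F 2]
variable {q : ℕ} {x₀ : G} {A : Subgroup (cC x₀)} {χ : cC x₀ →* Fˣ} {c : cC x₀ → F}
variable (h : EntryHyp q x₀ A χ c)
include h

theorem exists_zeta : ∃ ζ : Fˣ, ζ ≠ 1 ∧ ζ ^ (q - 1) = 1 := by
  obtain ⟨g, hg⟩ := IsCyclic.exists_ofOrder_eq_natCard (α := Fˣ)
  rw [Nat.card_units, Nat.card_eq_fintype_card, h.card_F] at hg
  have h1 : q ^ 2 - 1 = (q + 1) * (q - 1) := by rw [← Nat.sq_sub_sq, one_pow]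
  refine ⟨g ^ (q + 1), fun e => ?_, by rw [← pow_mul, ← h1, ← hg, pow_orderOf_eq_one]⟩
  have h2 := Nat.le_of_dvd (by omega) (orderOf_dvd_of_pow_eq_one e)
  rw [hg, h1] at h2
  have := h.two_lt
  have h3 : (q + 1) * 2 ≤ (q + 1) * (q - 1) := Nat.mul_le_mul_left _ (by omega)
  omega

theorem exists_commuting :
    ∃ x y : G, x ≠ 1 ∧ y ≠ 1 ∧ x ≠ y ∧ x * x = 1 ∧ y * y = 1 ∧ x * y = y * x := by
  obtain ⟨y, hy⟩ : ∃ y : {b : G // b ∈ AG A ∧ b ≠ 1}, y.1 ≠ x₀ := by
    by_contra hno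
    push Not at hno
    have hsub : Subsingleton {b : G // b ∈ AG A ∧ b ≠ 1} := ⟨fun u v => Subtype.ext ((hno u).trans (hno v).symm)⟩
    have h1 := Finite.card_le_one_iff_subsingleton.2 hsub
    rw [card_AG_ne h] at h1
    have := h.two_lt
    omega
  exact ⟨x₀, y.1, ne_one_of_order h.order_x, y.2.2, fun e => hy e.symm, sq_one_of_order h.order_x,
    AG_sq h y.2.1, AG_comm h (x_mem h) ((mem_AG h).1 y.2.1).1⟩

theorem fix_comm {i j : G} {z : G ⧸ BG A} (hi : i * i = 1) (hj : j * j = 1) (hiz : i • z = z) (hjz : j • z = z) :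
    i * j = j * i := by
  obtain ⟨g, rfl⟩ := QuotientGroup.mk_surjective z
  have hmem : ∀ {k : G}, k * k = 1 → k • (g : G ⧸ BG A) = g → g⁻¹ * k * g ∈ AG A := by
    intro k hk hkz
    refine invol_mem_AG h ?_ (by rw [show g⁻¹ * k * g * (g⁻¹ * k * g) = g⁻¹ * (k * k) * g by group, hk]; group)
    rw [MulAction.Quotient.smul_mk, smul_eq_mul, eq_comm, QuotientGroup.eq] at hkz
    simpa [mul_assoc] using hkz
  have e := AG_comm h (hmem hi hiz) ((mem_AG h).1 (hmem hj hjz)).1
  calc i * j = g * (g⁻¹ * i * g * (g⁻¹ * j * g)) * g⁻¹ := by group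
    _ = g * (g⁻¹ * j * g * (g⁻¹ * i * g)) * g⁻¹ := by rw [e]
    _ = j * i := by group

theorem DD_inf_TG {t d : G} (htB : t ∉ BG A) (hd : d ∈ DD A t) (hdT : d ∈ TG χ) : d = 1 := by
  have h1 : Odd (orderOf d) := (odd_DD h htB).of_dvd_nat (Subgroup.orderOf_dvd_natCard _ hd)
  have h2 : orderOf d ∣ q ^ 3 := orderOf_dvd_of_pow_eq_one ((mem_TG h).1 hdT).2
  obtain ⟨n, -, hn⟩ := q_even h
  rw [hn, ← pow_mul] at h2
  exact orderOf_eq_one_iff.1 (Nat.eq_one_of_dvd_coprimes ((Nat.coprime_two_right.2 h1).pow_right _) dvd_rfl h2)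

section
variable {Λ : BG A →* Fˣ} (hact : ∀ (b : BG A), ∀ x ∈ TG χ, cG c ((b : G) * x * (b : G)⁻¹) = (Λ b : F) * cG c x)
  (hker : ∀ b : BG A, Λ b = 1 ↔ (b : G) ∈ TG χ) (hχ : ∀ y : cC x₀, Λ ⟨y, cC_le_BG h y.2⟩ = χ y)
include hker hχ

theorem lam_inj {t : G} (htB : t ∉ BG A) {d e : BG A} (hd : (d : G) ∈ DD A t) (he : (e : G) ∈ DD A t)
    (hde : Λ d = Λ e) : d = e := by
  have h1 : ((d * e⁻¹ : BG A) : G) ∈ TG χ := (hker _).1 (by rw [map_mul, map_inv, hde, mul_inv_cancel])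
  exact mul_inv_eq_one.1 (Subtype.ext (DD_inf_TG h htB (mul_mem hd (inv_mem he)) h1))

theorem DD_comm {t : G} (htB : t ∉ BG A) {d e : G} (hd : d ∈ DD A t) (he : e ∈ DD A t) : d * e = e * d := by
  have := lam_inj h hker hχ htB (d := ⟨d, (Subgroup.mem_inf.1 hd).1⟩ * ⟨e, (Subgroup.mem_inf.1 he).1⟩)
    (e := ⟨e, (Subgroup.mem_inf.1 he).1⟩ * ⟨d, (Subgroup.mem_inf.1 hd).1⟩) (mul_mem hd he) (mul_mem he hd)
    (by rw [map_mul, map_mul, mul_comm])
  exact congrArg Subtype.val this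

theorem exists_torus_elt {t : G} (ht : orderOf t = 2) (htB : t ∉ BG A) {ζ : Fˣ} (hζ : ζ ^ (q - 1) = 1) :
    ∃ r : BG A, (r : G) ∈ DD A t ∧ (r : G) ^ (q - 1) = 1 ∧ Λ r = ζ := by
  classical
  let f : DD A t →* Fˣ := Λ.comp (Subgroup.inclusion inf_le_left)
  have hfinj : Function.Injective f := fun u v e => by
    have := lam_inj h hker hχ htB (d := Subgroup.inclusion inf_le_left u) (e := Subgroup.inclusion inf_le_left v)
      u.2 v.2 e
    exact Subgroup.inclusion_injective _ this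
  have hcard : Nat.card f.range = Nat.card (DD A t) := (Nat.card_congr (MonoidHom.ofInjective hfinj).toEquiv).symm
  have hdvd : q - 1 ∣ Nat.card (DD A t) :=
    ⟨_, card_trans h inf_le_left fun b hb hne => DD_trans h ht htB hb hne⟩
  have hζ' : ζ ^ Nat.card f.range = 1 := by
    obtain ⟨k, hk⟩ := hdvd
    rw [hcard, hk, pow_mul, hζ, one_pow]
  have hmem : ζ ∈ f.range := by
    letI := Fintype.ofFinite f.range
    letI := Fintype.ofFinite Fˣ
    set S : Finset Fˣ := Finset.univ.filter fun u => u ^ Nat.card f.range = 1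
    have hsub : (f.range : Set Fˣ).toFinset ⊆ S := fun u hu => by
      rw [Set.mem_toFinset] at hu
      refine Finset.mem_filter.2 ⟨Finset.mem_univ _, ?_⟩
      exact congrArg Subtype.val (pow_card_eq_one' (x := (⟨u, hu⟩ : f.range)))
    have hle : S.card ≤ (f.range : Set Fˣ).toFinset.card := by
      rw [Set.toFinset_card, ← Nat.card_eq_fintype_card]
      exact IsCyclic.card_pow_eq_one_le (α := Fˣ) Nat.card_pos
    have := Finset.eq_of_subset_of_card_le hsub hle
    exact Set.mem_toFinset.1 (this ▸ Finset.mem_filter.2 ⟨Finset.mem_univ _, hζ'⟩)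
  obtain ⟨d, hd⟩ := hmem
  refine ⟨Subgroup.inclusion inf_le_left d, d.2, ?_, hd⟩
  have : d ^ (q - 1) = 1 := hfinj (by rw [map_pow, hd, hζ, map_one])
  exact congrArg Subtype.val this

/-- The Weyl element inverts the elements of order dividing `q - 1`. -/
theorem invert {t r : G} (ht : orderOf t = 2) (htB : t ∉ BG A) (hr : r ∈ DD A t) (hrp : r ^ (q - 1) = 1) :
    t * r * t = r⁻¹ := by
  have htt := sq_one_of_order ht
  have hx : t * r * t * r ∈ cC x₀ := inverts_mod h ht htB hr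
  have hxp : (t * r * t * r) ^ (q - 1) = 1 := by
    have hc : Commute (t * r * t) r := DD_comm h hker hχ htB (conj_t_DD h ht htB hr) hr
    have e : t * r * t = t * r * t⁻¹ := by rw [inv_eq_of_mul_eq_one_right htt]
    rw [hc.mul_pow, e, conj_pow, hrp, mul_one, mul_one, mul_inv_cancel]
  set y : cC x₀ := ⟨t * r * t * r, hx⟩ with hy
  have hχ1 : χ y = 1 := by
    have h1 : χ y ^ (q - 1) = 1 := by
      rw [← map_pow, show y ^ (q - 1) = 1 from Subtype.ext hxp, map_one]
    have := pow_gcd_eq_one.2 ⟨h1, h.ctype.norm y⟩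
    rwa [Nat.coprime_iff_gcd_eq_one.1 (coprime_pred_succ h), pow_one] at this
  have h1 : t * r * t * r = 1 :=
    DD_inf_TG h htB (mul_mem (conj_t_DD h ht htB hr) hr) ⟨y, hχ1, rfl⟩
  exact eq_inv_of_mul_eq_one_left h1

theorem invert_general {i r : G} {p : G ⧸ BG A} (hi : orderOf i = 2) (hp : i • p ≠ p) (hrp : r • p = p)
    (hrip : r • (i • p) = i • p) (hr : r ^ (q - 1) = 1) : i * r * i = r⁻¹ := by
  obtain ⟨g, rfl⟩ := QuotientGroup.mk_surjective p
  have hfix : ∀ {k : G}, k • (g : G ⧸ BG A) = g ↔ g⁻¹ * k * g ∈ BG A := fun {k} => by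
    rw [MulAction.Quotient.smul_mk, smul_eq_mul, eq_comm, QuotientGroup.eq, mul_assoc]
  have hii := sq_one_of_order hi
  have hti : orderOf (g⁻¹ * i * g) = 2 := by
    rw [← hi]; simpa using (MulAut.conj g⁻¹).orderOf_eq i
  have htB : g⁻¹ * i * g ∉ BG A := fun hm => hp (hfix.2 hm)
  have hr1 := hfix.1 hrp
  have hr2 : g⁻¹ * (i * r * i) * g ∈ BG A := hfix.1 (by
    rw [mul_smul, mul_smul, hrip, smul_smul, hii, one_smul])
  have hrD : g⁻¹ * r * g ∈ DD A (g⁻¹ * i * g) := by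
    refine (mem_DD (sq_one_of_order hti)).2 ⟨hr1, ?_⟩
    rwa [show g⁻¹ * i * g * (g⁻¹ * r * g) * (g⁻¹ * i * g) = g⁻¹ * (i * r * i) * g by group]
  have key := invert h hker hχ hti htB hrD (by
    rw [show g⁻¹ * r * g = g⁻¹ * r * g⁻¹⁻¹ by rw [inv_inv], conj_pow, hr, mul_one, mul_inv_cancel])
  calc i * r * i = g * (g⁻¹ * i * g * (g⁻¹ * r * g) * (g⁻¹ * i * g)) * g⁻¹ := by group
    _ = r⁻¹ := by rw [key]; group

/-- A non-trivial element of order dividing `q - 1` fixes at most two points. -/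
theorem fix_two {r : G} {p p' z : G ⧸ BG A} (hne : r ≠ 1) (hr : r ^ (q - 1) = 1) (hpp : p ≠ p')
    (hp : r • p = p) (hp' : r • p' = p') (hz : r • z = z) : z = p ∨ z = p' := by
  classical
  by_contra hcon
  push Not at hcon
  obtain ⟨hzp, hzp'⟩ := hcon
  have hswap : ∀ {x y : G ⧸ BG A}, x ≠ y → r • x = x → r • y = y →
      ∃ i : G, orderOf i = 2 ∧ i • x = y ∧ i * r * i = r⁻¹ := by
    intro x y hxy hx hy
    obtain ⟨i, hi, hix⟩ := exists_swapper h hxy
    exact ⟨i, hi, hix, invert_general h hker hχ hi (fun e => hxy (e.symm.trans hix)) hx (hix.symm ▸ hy) hr⟩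
  let Z := Subgroup.centralizer ({r} : Set G)
  -- the centraliser is transitive on the fixed points
  have horb : orbit Z p = {x | r • x = x} := by
    ext x
    constructor
    · rintro ⟨u, rfl⟩
      show r • ((u : G) • p) = (u : G) • p
      rw [smul_smul, ← Subgroup.mem_centralizer_singleton_iff.1 u.2, mul_smul, hp]
    · intro hx
      by_cases hxp : x = p
      · rw [hxp]; exact mem_orbit_self p
      obtain ⟨w, hwp, hwx, hw⟩ : ∃ w, w ≠ p ∧ w ≠ x ∧ r • w = w := by
        by_cases hx' : x = p'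
        · exact ⟨z, hzp, fun e => hzp' (e.trans hx'), hz⟩
        · exact ⟨p', hpp.symm, Ne.symm hx', hp'⟩
      obtain ⟨i, hi, hip, hir⟩ := hswap hwp.symm hp hw
      obtain ⟨j, hj, hjw, hjr⟩ := hswap hwx hw hx
      have hii := sq_one_of_order hi
      have hjj := sq_one_of_order hj
      refine ⟨⟨j * i, Subgroup.mem_centralizer_singleton_iff.2 ?_⟩, by
        show (j * i) • p = x
        rw [mul_smul, hip, hjw]⟩
      have e1 : i * r = r⁻¹ * i := by
        calc i * r = i * r * (i * i) := by rw [hii, mul_one]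
          _ = r⁻¹ * i := by rw [← hir]; group
      have e2 : j * r⁻¹ = r * j := by
        calc j * r⁻¹ = (r * j⁻¹)⁻¹ := by group
          _ = (r * j)⁻¹ := by rw [inv_eq_of_mul_eq_one_right hjj]
          _ = (j * j * r * j)⁻¹ := by rw [hjj, one_mul]
          _ = (j * (j * r * j))⁻¹ := by group
          _ = r * j⁻¹ := by rw [hjr]; group
          _ = r * j := by rw [inv_eq_of_mul_eq_one_right hjj]
      calc j * i * r = j * r⁻¹ * i := by rw [mul_assoc, e1, mul_assoc]
        _ = r * (j * i) := by rw [e2, mul_assoc]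
  -- an even number of fixed points
  obtain ⟨t, ht, htp, htr⟩ := hswap hpp hp hp'
  have htt := sq_one_of_order ht
  let S := {x : G ⧸ BG A // r • x = x}
  have hSt : ∀ x : S, r • (t • x.1) = t • x.1 := fun x => by
    have e : r * t = t * r⁻¹ := by
      calc r * t = t * t * (r * t) := by rw [htt, one_mul]
        _ = t * (t * r * t) := by group
        _ = t * r⁻¹ := by rw [htr]
    have : r⁻¹ • x.1 = x.1 := by rw [inv_smul_eq_iff, x.2]
    rw [smul_smul, e, mul_smul, this]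
  let σ : Equiv.Perm S :=
    { toFun := fun x => ⟨t • x.1, hSt x⟩
      invFun := fun x => ⟨t • x.1, hSt x⟩
      left_inv := fun x => Subtype.ext (by show t • (t • x.1) = x.1; rw [smul_smul, htt, one_smul])
      right_inv := fun x => Subtype.ext (by show t • (t • x.1) = x.1; rw [smul_smul, htt, one_smul]) }
  have hnofix : ∀ x : S, σ x ≠ x := fun x e => by
    have hx : t • x.1 = x.1 := congrArg Subtype.val e
    have hc : (r * t * r⁻¹) • x.1 = x.1 := by
      rw [mul_smul, mul_smul, show r⁻¹ • x.1 = x.1 by rw [inv_smul_eq_iff, x.2], hx, x.2]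
    have hcc : r * t * r⁻¹ * (r * t * r⁻¹) = 1 := by
      rw [show r * t * r⁻¹ * (r * t * r⁻¹) = r * (t * t) * r⁻¹ by group, htt]; group
    have hcomm := fix_comm h htt hcc hx hc
    have e2 : t * (r * t * r⁻¹) = r⁻¹ * r⁻¹ := by
      rw [show t * (r * t * r⁻¹) = t * r * t * r⁻¹ by group, htr]
    have e4 : r ^ 4 = 1 := by
      have e3 : (r⁻¹ * r⁻¹) * (r⁻¹ * r⁻¹) = 1 := by
        rw [← e2]
        calc t * (r * t * r⁻¹) * (t * (r * t * r⁻¹)) = r * t * r⁻¹ * t * (t * (r * t * r⁻¹)) := by rw [hcomm]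
          _ = r * t * r⁻¹ * (t * t) * (r * t * r⁻¹) := by group
          _ = 1 := by rw [htt, mul_one, hcc]
      rw [← inv_inj, inv_one, ← e3]; group
    have h4 : (4 : ℕ).Coprime (q - 1) := by
      have := (Nat.coprime_two_left.2 (odd_pred h)).pow_left 2
      norm_num at this
      exact this
    have := pow_gcd_eq_one.2 ⟨e4, hr⟩
    rw [Nat.coprime_iff_gcd_eq_one.1 h4, pow_one] at this
    exact hne this
  have heven : 2 ∣ Nat.card S := by
    haveI : Fact (Nat.Prime 2) := ⟨Nat.prime_two⟩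
    letI := Fintype.ofFinite S
    let f : Function.End S := (σ : S → S)
    have hσ : f ^ 2 ^ 1 = 1 := funext fun x => by
      rw [pow_one, pow_two]
      show σ (σ x) = x
      exact σ.left_inv x
    have := Equiv.Perm.card_fixedPoints_modEq hσ
    have hempty : Fintype.card (Function.fixedPoints f) = 0 := Fintype.card_eq_zero_iff.2 ⟨fun x => hnofix x.1 x.2⟩
    rw [hempty] at this
    rw [Nat.card_eq_fintype_card]
    exact Nat.modEq_zero_iff_dvd.1 this
  have hdvd : Nat.card S ∣ Nat.card Z := by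
    have h1 : Nat.card S = (orbit Z p).ncard := by rw [horb]; exact (Nat.card_coe_set_eq _)
    rw [h1, ← index_stabilizer]
    exact (stabilizer Z p).index_dvd_card
  obtain ⟨i, hi, hi2⟩ := Invol.exists_invol (even_iff_two_dvd.2 (heven.trans hdvd))
  exact hne (no_cent h hi2 (Subgroup.mem_centralizer_singleton_iff.1 hi).symm hr)

include hact

/-- The normal `2`-subgroup is transitive on the other points. -/
theorem TG_trans {t : G} (ht : orderOf t = 2) (htB : t ∉ BG A) {z : G ⧸ BG A} (hz : z ≠ pt A) :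
    ∃ u ∈ TG χ, u • (t • pt A) = z := by
  classical
  obtain ⟨ζ, hζ1, hζ⟩ := exists_zeta h
  obtain ⟨t', ht', ht'z⟩ := exists_swapper h (x := pt A) (y := z) hz.symm
  have hta : ∀ {s : G}, s ∉ BG A → s • pt A ≠ pt A := fun hs e =>
    hs (by rw [← stab_pt (A := A)]; exact mem_stabilizer_iff.2 e)
  have ht'B : t' ∉ BG A := fun hm => hz (by
    rw [← ht'z]; exact mem_stabilizer_iff.1 ((stab_pt (A := A)).symm ▸ hm))
  obtain ⟨r, hrD, hrp, hrl⟩ := exists_torus_elt h hker hχ ht htB hζ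
  obtain ⟨r', hr'D, hr'p, hr'l⟩ := exists_torus_elt h hker hχ ht' ht'B hζ
  have hfix : ∀ {s : G} (hs : orderOf s = 2) {d : G}, d ∈ DD A s → d • pt A = pt A ∧ d • (s • pt A) = s • pt A := by
    intro s hs d hd
    obtain ⟨h1, h2⟩ := (mem_DD (sq_one_of_order hs)).1 hd
    refine ⟨mem_stabilizer_iff.1 ((stab_pt (A := A)).symm ▸ h1), ?_⟩
    have h3 : (s * d * s) • pt A = pt A := mem_stabilizer_iff.1 ((stab_pt (A := A)).symm ▸ h2)
    rw [mul_smul, mul_smul] at h3
    have h4 := congrArg (s • ·) h3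
    simp only [smul_smul] at h4
    rwa [← mul_assoc, ← mul_assoc, sq_one_of_order hs, one_mul, mul_smul] at h4
  have hrne : ∀ {b : BG A}, Λ b = ζ → (b : G) ≠ 1 := fun hb e => hζ1 (by
    rw [← hb, show _ = (1 : BG A) from Subtype.ext e, map_one])
  -- conjugation of r by the normal 2-subgroup
  let φ : TG χ → TG χ := fun u => ⟨(u : G) * r * (u : G)⁻¹ * (r : G)⁻¹, by
    have := TG_conj h r.2 (inv_mem u.2)
    have := mul_mem u.2 this
    simpa [mul_assoc] using this⟩
  have hinj : Function.Injective φ := fun u v e => by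
    have e1 : (u : G) * r * (u : G)⁻¹ * (r : G)⁻¹ = v * r * (v : G)⁻¹ * (r : G)⁻¹ := congrArg Subtype.val e
    set x := (v : G)⁻¹ * u with hx
    have hxT : x ∈ TG χ := mul_mem (inv_mem v.2) u.2
    have hxr : x * r = r * x := by
      rw [hx]
      calc (v : G)⁻¹ * u * r = (v : G)⁻¹ * ((u : G) * r * (u : G)⁻¹ * (r : G)⁻¹) * r * u := by group
        _ = r * ((v : G)⁻¹ * u) := by rw [e1]; group
    have hc0 : cG c x = 0 := by
      have h1 := hact r x hxT
      rw [← hxr, mul_inv_cancel_right, hrl] at h1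
      have h2 : ((ζ : F) - 1) * cG c x = 0 := by rw [sub_mul, one_mul, ← h1, sub_self]
      exact (mul_eq_zero.1 h2).resolve_left fun e => hζ1 (Units.ext (sub_eq_zero.1 e))
    have hxA := (cG_zero_iff h hxT).1 hc0
    have hx1 : x = 1 := by
      by_contra hne
      exact hrne hrl (no_cent h (AG_order h hxA hne) hxr.symm hrp)
    exact Subtype.ext (inv_mul_eq_one.1 hx1).symm
  have hy : (r' : G) * (r : G)⁻¹ ∈ TG χ :=
    (hker (r' * r⁻¹)).1 (by rw [map_mul, map_inv, hrl, hr'l, mul_inv_cancel])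
  obtain ⟨u, hu⟩ := (Finite.injective_iff_surjective.1 hinj) ⟨_, hy⟩
  have hu' : (u : G) * r * (u : G)⁻¹ = r' := mul_right_cancel (congrArg Subtype.val hu)
  refine ⟨u, u.2, ?_⟩
  obtain ⟨h1, h2⟩ := hfix ht hrD
  obtain ⟨h1', h2'⟩ := hfix ht' hr'D
  have hua : (u : G) • pt A = pt A := mem_stabilizer_iff.1 ((stab_pt (A := A)).symm ▸ cC_le_BG h (TG_le h u.2))
  have hf : (r' : G) • ((u : G) • (t • pt A)) = (u : G) • (t • pt A) := by
    rw [← hu', mul_smul, mul_smul, inv_smul_smul, h2]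
  rcases fix_two h hker hχ (hrne hr'l) hr'p (hta ht'B).symm h1' h2' hf with e | e
  · exact absurd (MulAction.injective (u : G) (e.trans hua.symm)) (hta htB)
  · rw [e, ht'z]

end

/-- The set-up, with the torus as the group of units. -/
theorem exists_setup : ∃ t : G, Cfsg.IsRankOneSetup G (G ⧸ BG A) (pt A) t (TG χ) ∧
    FaithfulSMul G (G ⧸ BG A) ∧ Nat.card (G ⧸ BG A) = q ^ 3 + 1 ∧
    ∃ g : ↥(RankOne.twoStab (pt A) t) ≃* Fˣ, ∀ (d : RankOne.twoStab (pt A) t), ∀ x ∈ TG χ,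
      cG c ((d : G) * x * (d : G)⁻¹) = (g d : F) * cG c x := by
  classical
  obtain ⟨Λ, hsurj, hact, hker, hχ⟩ := exists_lambda h
  obtain ⟨t, ht, htB⟩ : ∃ t : G, orderOf t = 2 ∧ t ∉ BG A := by
    obtain ⟨g, hg⟩ : ∃ g : G, g ∉ BG A := by
      by_contra hno
      push Not at hno
      exact BG_ne_top h (eq_top_iff.2 fun g _ => hno g)
    obtain ⟨i, hi, hix⟩ := exists_swapper h (x := pt A) (y := (g : G ⧸ BG A)) (fun e => hg (by
      have := QuotientGroup.eq.1 e; rwa [inv_one, one_mul] at this))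
    refine ⟨i, hi, fun hm => hg ?_⟩
    have e : i • pt A = pt A := mem_stabilizer_iff.1 ((stab_pt (A := A)).symm ▸ hm)
    have := QuotientGroup.eq.1 (e.symm.trans hix)
    rwa [inv_one, one_mul] at this
  have htt := sq_one_of_order ht
  set a := pt A with ha
  have hsta : stabilizer G a = BG A := stab_pt
  have hTB : TG χ ≤ BG A := (TG_le h).trans (cC_le_BG h)
  have hta : t • a ≠ a := fun e => htB (hsta ▸ mem_stabilizer_iff.2 e)
  have hD : RankOne.twoStab a t = DD A t := by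
    show stabilizer G a ⊓ stabilizer G (t • a) = _
    rw [stabilizer_smul_eq_stabilizer_map_conj, hsta]
  have hinf : TG χ ⊓ stabilizer G (t • a) = ⊥ := by
    refine (Subgroup.eq_bot_iff_forall _).2 fun u hu => ?_
    obtain ⟨h1, h2⟩ := Subgroup.mem_inf.1 hu
    exact DD_inf_TG h htB (hD ▸ Subgroup.mem_inf.2 ⟨hsta.symm ▸ hTB h1, h2⟩) h1
  have hQ : ∀ z : G ⧸ BG A, z ≠ a → ∃ u ∈ TG χ, u • (t • a) = z := fun z hz =>
    TG_trans h hact hker hχ ht htB hz
  have hfixa : ∀ {u : G}, u ∈ BG A → u • a = a := fun hu => mem_stabilizer_iff.1 (hsta.symm ▸ hu)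
  have hpre : ∀ z : G ⧸ BG A, ∃ g : G, g • a = z := fun z => by
    obtain ⟨g, rfl⟩ := QuotientGroup.mk_surjective z
    exact ⟨g, smul_pt g⟩
  have hmove : ∀ {x y : G ⧸ BG A}, x ≠ y → ∃ g : G, g • a = x ∧ g • (t • a) = y := by
    intro x y hxy
    obtain ⟨g, rfl⟩ := hpre x
    obtain ⟨u, hu, e⟩ := hQ (g⁻¹ • y) (fun e => hxy (by rw [← e, smul_inv_smul]))
    exact ⟨g * u, by rw [mul_smul, hfixa (hTB hu)], by rw [mul_smul, e, smul_inv_smul]⟩
  have hqd : ∀ b ∈ BG A, ∃ u ∈ TG χ, ∃ d ∈ RankOne.twoStab a t, b = u * d := by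
    intro b hb
    obtain ⟨u, hu, e⟩ := hQ (b • (t • a)) fun e => hta (MulAction.injective b (e.trans (hfixa hb).symm))
    refine ⟨u, hu, u⁻¹ * b, Subgroup.mem_inf.2 ⟨hsta.symm ▸ mul_mem (inv_mem (hTB hu)) hb, ?_⟩, by group⟩
    rw [mem_stabilizer_iff, mul_smul, ← e, inv_smul_smul]
  have hS : Cfsg.IsRankOneSetup G (G ⧸ BG A) a t (TG χ) := by
    refine ⟨MulAction.is_two_pretransitive_iff.2 ?_, htt, ne_one_of_order ht, hta, hsta.symm ▸ hTB,
      fun g hg x hx => TG_conj h (hsta ▸ hg) hx, hinf, ?_, ?_, ?_⟩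
    · intro x y x' y' hxy hxy'
      obtain ⟨g, g1, g2⟩ := hmove hxy
      obtain ⟨g', g1', g2'⟩ := hmove hxy'
      exact ⟨g' * g⁻¹, by rw [← g1, mul_smul, inv_smul_smul, g1'], by rw [← g2, mul_smul, inv_smul_smul, g2']⟩
    · refine le_antisymm (sup_le (hsta.symm ▸ hTB) inf_le_left) fun b hb => ?_
      obtain ⟨u, hu, d, hd, rfl⟩ := hqd b (hsta ▸ hb)
      exact mul_mem (Subgroup.mem_sup_left hu) (Subgroup.mem_sup_right hd)
    · rw [card_TG h, Nat.even_pow]
      exact ⟨even_q h, three_ne_zero⟩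
    · show Odd (Nat.card (RankOne.twoStab a t))
      rw [hD]; exact odd_DD h htB
  let incl : RankOne.twoStab a t →* BG A := Subgroup.inclusion (inf_le_left.trans hsta.le)
  have hgbij : Function.Bijective (Λ.comp incl) := by
    refine ⟨fun d e hde => Subgroup.inclusion_injective (inf_le_left.trans hsta.le) ?_, fun v => ?_⟩
    · exact lam_inj h hker hχ htB (hD.le d.2) (hD.le e.2) hde
    · obtain ⟨b, hb⟩ := hsurj v
      obtain ⟨u, hu, d, hd, hbd⟩ := hqd b b.2
      refine ⟨⟨d, hd⟩, ?_⟩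
      rw [← hb, show b = ⟨u, hTB hu⟩ * incl ⟨d, hd⟩ from Subtype.ext hbd, map_mul,
        (hker ⟨u, hTB hu⟩).2 hu, one_mul]
      rfl
  refine ⟨t, hS, ⟨fun {g g'} hgg => ?_⟩, ?_, MulEquiv.ofBijective _ hgbij, fun d x hx => hact (incl d) x hx⟩
  · -- faithful
    set k := g'⁻¹ * g with hk
    have hfix : ∀ z : G ⧸ BG A, k • z = z := fun z => by rw [hk, mul_smul, hgg z, inv_smul_smul]
    have hkB : k ∈ BG A := hsta ▸ mem_stabilizer_iff.2 (hfix a)
    have hkD : k ∈ DD A t := hD ▸ Subgroup.mem_inf.2 ⟨hsta.symm ▸ hkB, mem_stabilizer_iff.2 (hfix _)⟩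
    have hcomm : ∀ x ∈ TG χ, k * x * k⁻¹ = x := by
      intro x hx
      have hm : x⁻¹ * (k * x * k⁻¹) ∈ TG χ ⊓ stabilizer G (t • a) := by
        refine Subgroup.mem_inf.2 ⟨mul_mem (inv_mem hx) (TG_conj h hkB hx), mem_stabilizer_iff.2 ?_⟩
        rw [mul_smul, mul_smul, mul_smul, hfix, show k⁻¹ • t • a = t • a by rw [inv_smul_eq_iff, hfix],
          inv_smul_smul]
      rw [hinf, Subgroup.mem_bot, inv_mul_eq_one] at hm
      exact hm.symm
    have hk1 : Λ ⟨k, hkB⟩ = 1 := by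
      obtain ⟨x₁, hx₁, hv⟩ := cG_surj h 1
      have h1 := hact ⟨k, hkB⟩ x₁ hx₁
      rw [hcomm x₁ hx₁, hv, mul_one] at h1
      exact Units.ext h1.symm
    have := DD_inf_TG h htB hkD ((hker _).1 hk1)
    rw [hk, inv_mul_eq_one] at this
    exact this.symm
  · have hbij : Function.Bijective (fun o : Option (TG χ) => o.elim a fun u : TG χ => (u : G) • (t • a)) := by
      refine ⟨?_, fun z => ?_⟩
      · rintro (- | u) (- | v) e
        · rfl
        · exact absurd (MulAction.injective (v : G) ((Eq.trans (hfixa (hTB v.2)) e).symm)) hta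
        · exact absurd (MulAction.injective (u : G) (e.trans (hfixa (hTB u.2)).symm)) hta
        · refine congrArg some (Subtype.ext ?_)
          have hm : (v : G)⁻¹ * u ∈ TG χ ⊓ stabilizer G (t • a) :=
            Subgroup.mem_inf.2 ⟨mul_mem (inv_mem v.2) u.2, mem_stabilizer_iff.2 (by
              rw [mul_smul, inv_smul_eq_iff]; exact e)⟩
          rw [hinf, Subgroup.mem_bot, inv_mul_eq_one] at hm
          exact hm.symm
      · by_cases hz : z = a
        · exact ⟨none, hz.symm⟩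
        · obtain ⟨u, hu, e⟩ := hQ z hz
          exact ⟨some ⟨u, hu⟩, e⟩
    rw [← Nat.card_congr (Equiv.ofBijective _ hbij), Finite.card_option, card_TG h]

end Cfsg.Agent.RankOneU3
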